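/-
Groups in which all involution centralizers are abelian: the basic counting.
-/
import Cfsg.Agent.H2.ZS
import Cfsg.Agent.H2.Transfer
import Cfsg.Agent.H7.Zass6
import Cfsg.Agent.H7.Recog
import Cfsg.Agent.L.Frob2

set_option autoImplicit false

namespace Cfsg.Agent.C3

open Cfsg H2 Subgroup

/-- centralizers of involutions are abelian -/
def AC (G : Type*) [Group G] : Prop := ∀ t x y : G, orderOf t = 2 → Commute x t → Commute y t → Commute x y

variable {G : Type*} [Group G]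

/-- the centralizer of a Sylow 2-subgroup -/
abbrev CS (P : Sylow 2 G) : Subgroup G := centralizer ((P : Subgroup G) : Set G)

variable {P Q R : Sylow 2 G} {a b c d g k t u v x y : G}

theorem mem_smul_syl : x ∈ ((g • P : Sylow 2 G) : Subgroup G) ↔ g⁻¹ * x * g ∈ (P : Subgroup G) := by
  rw [coe_smul_sylow, mem_cj]

theorem mem_CS_smul : x ∈ CS (g • P) ↔ g⁻¹ * x * g ∈ CS P := by
  rw [CS, coe_smul_sylow, ← cj_centralizer, mem_cj]

theorem fix_of_mem_CS (h : a ∈ CS P) : a • P = P := Sylow.smul_eq_iff_mem_normalizer.2 (centralizer_le_normalizer _ h)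

theorem conj_mem_CS (hg : g • P = P) (h : a ∈ CS P) : g * a * g⁻¹ ∈ CS P := by
  rw [← hg, mem_CS_smul]; simpa [mul_assoc] using h

theorem conj_mem_syl (hg : g • P = P) (h : a ∈ (P : Subgroup G)) : g * a * g⁻¹ ∈ (P : Subgroup G) := by
  rw [← hg, mem_smul_syl]; simpa [mul_assoc] using h

theorem fix_of_mem_syl (h : a ∈ (P : Subgroup G)) : a • P = P := Sylow.smul_eq_iff_mem_normalizer.2 (le_normalizer h)

theorem fix_mul (h1 : a • P = P) (h2 : b • P = P) : (a * b) • P = P := by rw [mul_smul, h2, h1]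

theorem fix_inv (h1 : a • P = P) : a⁻¹ • P = P := inv_smul_eq_iff.2 h1.symm

variable [Finite G]

theorem mem_of_fix {j : ℕ} (hu : u ^ 2 ^ j = 1) (h : u • P = P) : u ∈ (P : Subgroup G) :=
  (sylIn_top P).mem_of_mem_normalizer (mem_top u) hu (Sylow.smul_eq_iff_mem_normalizer.1 h)

theorem mem_of_fix' (hu : u * u = 1) (h : u • P = P) : u ∈ (P : Subgroup G) :=
  mem_of_fix (j := 1) ((pow_two u).trans hu) h

theorem exists_syl_mem (hu : u * u = 1) : ∃ R : Sylow 2 G, u ∈ (R : Subgroup G) := by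
  obtain ⟨R, hR⟩ := (isPGroup_zpowers_iff.2 ⟨1, (pow_two u).trans hu⟩ : IsPGroup 2 (zpowers u)).exists_le_sylow
  exact ⟨R, hR (mem_zpowers u)⟩

namespace AC

variable (h : AC G)
include h

theorem comm (hx : x ∈ (P : Subgroup G)) (hy : y ∈ (P : Subgroup G)) : Commute x y := by
  by_cases e : (P : Subgroup G) = ⊥
  · rw [e, mem_bot] at hx; rw [hx]; exact Commute.one_left _
  obtain ⟨z, hz, hz2⟩ := exists_central_of_normal P.isPGroup' le_rfl le_normalizer e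
  exact h z x y hz2 (mem_centralizer_iff.1 hz.2 x hx) (mem_centralizer_iff.1 hz.2 y hy)

theorem le_CS (P : Sylow 2 G) : (P : Subgroup G) ≤ CS P := fun _ hx => mem_centralizer_iff.2 fun _ hy => h.comm hy hx

theorem mem_CS (ht : orderOf t = 2) (htP : t ∈ (P : Subgroup G)) : x ∈ CS P ↔ Commute x t :=
  ⟨fun hx => (mem_centralizer_iff.1 hx t htP).symm, fun hx => mem_centralizer_iff.2 fun _ hy =>
    h t _ _ ht (h.comm hy htP) hx⟩

theorem comm_CS (ht : orderOf t = 2) (htP : t ∈ (P : Subgroup G)) (hx : x ∈ CS P) (hy : y ∈ CS P) : Commute x y :=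
  h t x y ht ((h.mem_CS ht htP).1 hx) ((h.mem_CS ht htP).1 hy)

theorem eq_of_mem (ht : orderOf t = 2) (h1 : t ∈ (P : Subgroup G)) (h2 : t ∈ (Q : Subgroup G)) : P = Q :=
  Sylow.ext (Q.is_maximal' P.isPGroup' ((sylIn_top P).le_of_le_normalizer Q.isPGroup' le_top fun _ hx =>
    centralizer_le_normalizer _ ((h.mem_CS ht h1).2 (h.comm hx h2))))

theorem sq_of_inv (ht : orderOf t = 2) (hx : Commute x t) (hu : u * u = 1) (e : u * x * u⁻¹ = x⁻¹) : x * x = 1 := by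
  obtain ⟨P, hP⟩ := exists_syl_mem (ord2_mul_self ht)
  have h1 : u ∈ normalizer (centralizer ({x} : Set G) : Set G) := mem_normalizer_iff_cj.2 (by
    rw [cj_centralizer_singleton, e]; ext y; simp [mem_centralizer_singleton_iff, ← Commute.inv_right_iff.eq, Commute,
      SemiconjBy]; exact ⟨fun h => (show Commute y x from Commute.inv_right_iff.1 h), fun h => (show Commute y x from h).inv_right⟩)
  obtain ⟨R, hR, huR⟩ := exists_sylIn_ge (isPGroup_zpowers_iff.2 ⟨1, (pow_two u).trans hu⟩ : IsPGroup 2 (zpowers u))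
    (zpowers_le.2 h1)
  have h2 := hR.inf_normal' le_rfl le_normalizer
  have h3 := h2.card_le P.isPGroup' fun y hy => mem_centralizer_singleton_iff.2
    (mem_centralizer_iff.1 ((h.mem_CS ht hP).2 hx) y hy)
  have h4 := eq_of_le_of_card_ge (inf_le_left : R ⊓ centralizer {x} ≤ R) (((sylIn_top P).card_le hR.pgrp le_top).trans h3)
  have h5 := mem_centralizer_singleton_iff.1 (h4.symm.le (huR (mem_zpowers u))).2
  rw [h5, mul_inv_cancel_right] at e
  nth_rw 2 [e]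
  exact mul_inv_cancel x

theorem eq_of_coset (ht : orderOf t = 2) (htP : t ∈ (P : Subgroup G)) (hu : u * u = 1) (hv : v * v = 1) (h1 : u • P ≠ P)
    (e : u⁻¹ * v ∈ CS P) : u = v := by
  rw [inv_eq_of_mul_eq_one_right hu] at e
  have h2 := h.sq_of_inv ht ((h.mem_CS ht htP).1 e) hu (inverts_left hu hv)
  by_contra hne
  have h3 : orderOf (u * v) = 2 := ord2_of h2 fun e => hne (by
    rw [eq_inv_of_mul_eq_one_left e, inv_eq_of_mul_eq_one_right hv])
  refine h1 (fix_of_mem_CS ((h.mem_CS h3 (mem_of_fix' h2 (fix_of_mem_CS e))).2 ?_))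
  have := inverts_left hu hv
  rwa [inv_eq_of_mul_eq_one_right h2, mul_inv_eq_iff_eq_mul] at this

theorem conj_not_fix (ht : orderOf t = 2) (htP : t ∈ (P : Subgroup G)) (hc : c • P ≠ P) : (c * t * c⁻¹) • P ≠ P :=
  fun e => hc (h.eq_of_mem (ord2_conj ht c) (by simpa [mem_smul_syl, mul_assoc] using htP)
    (mem_of_fix' (ord2_mul_self (ord2_conj ht c)) e))

/-- every coset of `C(P)` outside `N(P)` contains an involution -/
theorem exists_invol (ht : orderOf t = 2) (htP : t ∈ (P : Subgroup G)) (hg : g • P ≠ P) :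
    ∃ a ∈ CS P, ∃ c, g * a = c * t * c⁻¹ := by
  classical
  have hfix : ∀ {x y : G}, (x : G ⧸ CS P) = y → x • P = P → y • P = P := fun {x y} e hx => by
    simpa using fix_mul hx (fix_of_mem_CS (QuotientGroup.eq.1 e))
  let ψ : G ⧸ CS P → G ⧸ CS P := fun q => if q.out • P = P then q else (q.out * t * q.out⁻¹ : G)
  have hinj : Function.Injective ψ := fun q r e => by
    simp only [ψ] at e
    split_ifs at e with h1 h2 h2
    · exact e
    · exact absurd (hfix (q.out_eq.trans e) h1) (h.conj_not_fix ht htP h2)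
    · exact absurd (hfix (r.out_eq.trans e.symm) h2) (h.conj_not_fix ht htP h1)
    · have := h.eq_of_coset ht htP (ord2_mul_self (ord2_conj ht _)) (ord2_mul_self (ord2_conj ht _))
        (h.conj_not_fix ht htP h1) (QuotientGroup.eq.1 e)
      rw [← q.out_eq, ← r.out_eq]
      refine QuotientGroup.eq.2 ((h.mem_CS ht htP).2 ?_)
      calc q.out⁻¹ * r.out * t = q.out⁻¹ * (r.out * t * r.out⁻¹) * r.out := by group
        _ = _ := by rw [← this]; group
  obtain ⟨q, hq⟩ := Finite.surjective_of_injective hinj g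
  simp only [ψ] at hq
  split_ifs at hq with h1
  · exact absurd (hfix (q.out_eq.trans hq) h1) hg
  · exact ⟨_, QuotientGroup.eq.1 hq.symm, q.out, by group⟩

theorem fuse (hPQ : P ≠ Q) (ht : orderOf t = 2) (htP : t ∈ (P : Subgroup G)) (hu : orderOf u = 2)
    (huP : u ∈ (P : Subgroup G)) : ∃ n, n • P = P ∧ n * t * n⁻¹ = u := by
  obtain ⟨g, rfl⟩ := MulAction.exists_smul_eq G P Q
  obtain ⟨a, ha, c, e⟩ := h.exists_invol ht htP hPQ.symm
  obtain ⟨b, hb, d, e'⟩ := h.exists_invol hu huP hPQ.symm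
  have h1 := h.eq_of_coset ht htP (ord2_mul_self (ord2_conj ht c)) (ord2_mul_self (ord2_conj hu d))
    (by rw [← e, mul_smul, fix_of_mem_CS ha]; exact hPQ.symm) (by
      rw [← e, ← e']; simpa [mul_assoc] using mul_mem (inv_mem ha) hb)
  have h2 : d⁻¹ * c * t * (d⁻¹ * c)⁻¹ = u := by
    calc _ = d⁻¹ * (c * t * c⁻¹) * d := by group
      _ = u := by rw [h1]; group
  exact ⟨_, h.eq_of_mem hu (by rw [mem_smul_syl, ← h2]; simpa [mul_assoc] using htP) huP, h2⟩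

theorem exists_swap (ht : orderOf t = 2) (htP : t ∈ (P : Subgroup G)) (hPQ : P ≠ Q) :
    ∃ u : G, orderOf u = 2 ∧ u • P = Q ∧ u • Q = P := by
  obtain ⟨g, rfl⟩ := MulAction.exists_smul_eq G P Q
  obtain ⟨a, ha, c, e⟩ := h.exists_invol ht htP hPQ.symm
  have h1 : (g * a) • P = g • P := by rw [mul_smul, fix_of_mem_CS ha]
  have h2 := e ▸ ord2_conj ht c
  exact ⟨g * a, h2, h1, by rw [← h1, ← mul_smul, ord2_mul_self h2, one_smul]⟩

theorem exists_inverted (ht : orderOf t = 2) (htP : t ∈ (P : Subgroup G)) (hu : u * u = 1) (hg : (u * g) • P ≠ P) :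
    ∃ a ∈ CS P, u * (g * a) * u⁻¹ = (g * a)⁻¹ := by
  obtain ⟨a, ha, c, e⟩ := h.exists_invol ht htP hg
  have h2 := ord2_mul_self (e ▸ ord2_conj ht c)
  refine ⟨a, ha, eq_inv_of_mul_eq_one_left ?_⟩
  rw [inv_eq_of_mul_eq_one_right hu, ← h2]; group

end AC

omit [Finite G] in
theorem fix_of_inverted {Ω : Type*} [MulAction G Ω] {p : Ω} (e : u * x * u⁻¹ = x⁻¹) (hx : x • p = p) : x • u • p = u • p := by
  have : x * u = u * x⁻¹ := by rw [← mul_inv_eq_iff_eq_mul.1 (show u * x⁻¹ * u⁻¹ = x by rw [← conj_inv, e, inv_inv])]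
  rw [← mul_smul, this, mul_smul, inv_smul_eq_iff.2 hx.symm]

variable (G) in
/-- abelian involution centralizers, with no element centralizing two Sylow 2-subgroups -/
structure AC1 : Prop where
  ac : AC G
  one : ∀ (P Q : Sylow 2 G) (a : G), P ≠ Q → a ∈ CS P → a ∈ CS Q → a = 1
  two : ∃ s t : G, orderOf s = 2 ∧ orderOf t = 2 ∧ s ≠ t ∧ Commute s t
  nt : Nontrivial (Sylow 2 G)

theorem exists_two_mem (h : ∃ s t : G, orderOf s = 2 ∧ orderOf t = 2 ∧ s ≠ t ∧ Commute s t) (P : Sylow 2 G) :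
    ∃ s ∈ (P : Subgroup G), ∃ t ∈ (P : Subgroup G), orderOf s = 2 ∧ orderOf t = 2 ∧ s ≠ t := by
  obtain ⟨s, t, hs, ht, hne, hc⟩ := h
  obtain ⟨g, h1, h2⟩ := exists_sylow_mem_of_commute P (ord2_mul_self hs) (ord2_mul_self ht) hc
  exact ⟨_, h1, _, h2, ord2_conj hs g, ord2_conj ht g, by simpa using hne⟩

namespace AC1

variable (h : AC1 G)
include h

theorem invol (P : Sylow 2 G) : ∃ t ∈ (P : Subgroup G), orderOf t = 2 := by
  obtain ⟨s, hs, -, -, h1, -⟩ := exists_two_mem h.two P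
  exact ⟨s, hs, h1⟩

theorem swap (hPQ : P ≠ Q) : ∃ u : G, u * u = 1 ∧ u • P = Q ∧ u • Q = P := by
  obtain ⟨t, h1, h2⟩ := h.invol P
  obtain ⟨u, h3, h4⟩ := h.ac.exists_swap h2 h1 hPQ
  exact ⟨u, ord2_mul_self h3, h4⟩

theorem fix_of_comm (ha : a ∈ CS P) (h1 : a ≠ 1) (hg : Commute g a) : g • P = P := by
  by_contra e
  exact h1 (h.one _ _ a e (by rw [mem_CS_smul, mul_assoc, ← hg.eq, inv_mul_cancel_left]; exact ha) ha)

theorem eq_one_of_pow (hPQ : P ≠ Q) {j : ℕ} (hx : x ^ 2 ^ j = 1) (h1 : x • P = P) (h2 : x • Q = Q) : x = 1 :=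
  h.one P Q x hPQ (h.ac.le_CS P (mem_of_fix hx h1)) (h.ac.le_CS Q (mem_of_fix hx h2))

theorem eq_one_of_fix (hPQ : P ≠ Q) (hk : k ∈ CS P) (hQ : k • Q = Q) : k = 1 := by
  obtain ⟨u, hu, h1, h2⟩ := h.swap hPQ
  have iu := inv_eq_of_mul_eq_one_right hu
  have k1 : u * k * u⁻¹ ∈ CS Q := by rw [← h1, mem_CS_smul]; simpa [mul_assoc] using hk
  have k2 : (u * k * u⁻¹) • P = P := by rw [mul_smul, mul_smul, iu, h1, hQ, h2]
  have k3 : u * (u * k * u⁻¹) * u⁻¹ = k := by rw [iu, ← mul_assoc, ← mul_assoc, hu, one_mul, mul_assoc, hu, mul_one]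
  generalize u * k * u⁻¹ = l at k1 k2 k3
  have k4 : u * k * u⁻¹ = l := by rw [← k3, iu, ← mul_assoc, ← mul_assoc, hu, one_mul, mul_assoc, hu, mul_one]
  have hc : Commute k l := by
    have := h.one P Q (k * l * k⁻¹ * l⁻¹) hPQ (by
      rw [mul_assoc, mul_assoc, ← mul_assoc l]; exact mul_mem hk (conj_mem_CS k2 (inv_mem hk)))
      (mul_mem (conj_mem_CS hQ k1) (inv_mem k1))
    rwa [mul_inv_eq_one, mul_inv_eq_iff_eq_mul] at this
  have hy : Commute u (k * l) := by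
    rw [Commute, SemiconjBy, ← mul_inv_eq_iff_eq_mul, ← conj_mul, k3, k4, hc.eq]
  by_cases e : k * l = 1
  · obtain ⟨t, h3, h4⟩ := h.invol P
    exact h.eq_one_of_pow hPQ (j := 1) ((pow_two k).trans (h.ac.sq_of_inv h4 ((h.ac.mem_CS h4 h3).1 hk) hu
      (k4.trans (eq_inv_of_mul_eq_one_right e)))) (fix_of_mem_CS hk) hQ
  obtain ⟨R, hR⟩ := exists_syl_mem hu
  by_cases u1 : u = 1
  · exact absurd (by rw [← h1, u1, one_smul]) hPQ
  have k5 := h.fix_of_comm ((h.ac.mem_CS (ord2_of hu u1) hR).2 hy.symm) e ((Commute.refl k).mul_right hc)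
  obtain ⟨j, hj⟩ := isPGroup_iff_forall.1 R.isPGroup' _ (mul_mem (conj_mem_syl (fix_inv k5) hR) hR)
  have k6 : k⁻¹ * u * k⁻¹⁻¹ * u = k⁻¹ * l := by rw [← k4, iu]; group
  rw [k6] at hj
  have := h.eq_one_of_pow hPQ hj (fix_mul (fix_inv (fix_of_mem_CS hk)) k2) (fix_mul (fix_inv hQ) (fix_of_mem_CS k1))
  exact h.one P Q k hPQ hk (inv_mul_eq_one.1 this ▸ k1)

theorem exists_inverted (hPQ : P ≠ Q) (hu : u * u = 1) (h1 : u • P = Q) (hg : g • P = P) :
    ∃ a ∈ CS P, u * (g * a) * u⁻¹ = (g * a)⁻¹ ∧ (g * a) • Q = Q := by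
  obtain ⟨t, h3, h4⟩ := h.invol P
  obtain ⟨a, ha, e⟩ := h.ac.exists_inverted h4 h3 hu (g := g) (by rw [mul_smul, hg, h1]; exact hPQ.symm)
  exact ⟨a, ha, e, h1 ▸ fix_of_inverted e (fix_mul hg (fix_of_mem_CS ha))⟩

theorem inverted (hPQ : P ≠ Q) (hu : u * u = 1) (h1 : u • P = Q) (hP : d • P = P) (hQ : d • Q = Q) :
    u * d * u⁻¹ = d⁻¹ := by
  obtain ⟨a, ha, e, h2⟩ := h.exists_inverted hPQ hu h1 hP
  have := h.eq_one_of_fix hPQ ha (by simpa using fix_mul (fix_inv hQ) h2)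
  simpa [this] using e

theorem comm_St (hPQ : P ≠ Q) (h1 : x • P = P) (h2 : x • Q = Q) (h3 : y • P = P) (h4 : y • Q = Q) : Commute x y := by
  obtain ⟨u, hu, h5, -⟩ := h.swap hPQ
  exact H7.comm_of_inverted (H := H7.St G P Q) (s := u) (fun d hd => h.inverted hPQ hu h5 hd.1 hd.2) x ⟨h1, h2⟩ y ⟨h3, h4⟩

theorem three (g : G) (P Q R : Sylow 2 G) (hPQ : P ≠ Q) (hQR : Q ≠ R) (hPR : P ≠ R) (h1 : g • P = P) (h2 : g • Q = Q)
    (h3 : g • R = R) : g = 1 := by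
  obtain ⟨u, hu, u1, -⟩ := h.swap hPQ
  obtain ⟨v, hv, v1, -⟩ := h.swap hQR
  obtain ⟨w, hw, w1, -⟩ := h.swap hPR.symm
  have e : w * v * u * g * (w * v * u)⁻¹ = g⁻¹ := by
    calc _ = w * (v * (u * g * u⁻¹) * v⁻¹) * w⁻¹ := by group
      _ = _ := by rw [h.inverted hPQ hu u1 h1 h2, ← conj_inv, h.inverted hQR hv v1 h2 h3, inv_inv,
        h.inverted hPR.symm hw w1 h3 h1]
  have hz : (w * v * u) • P = P := by rw [mul_smul, mul_smul, u1, v1, w1]
  generalize w * v * u = z at e hz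
  obtain ⟨a, ha, -, h4⟩ := h.exists_inverted hPQ hu u1 hz
  have h5 := (h.comm_St hPQ (fix_mul hz (fix_of_mem_CS ha)) h4 h1 h2).eq
  have h6 : g * g ∈ CS P := by
    have h7 : a⁻¹ * g * a = g⁻¹ := by
      calc _ = (z * a)⁻¹ * (z * g * z⁻¹) * (z * a) := by group
        _ = _ := by rw [e, mul_assoc, ← (Commute.inv_right h5).eq, inv_mul_cancel_left]
    rw [← inv_mem_iff, mul_inv_rev]
    nth_rw 1 [← h7]
    rw [mul_assoc, mul_assoc, ← mul_assoc g]
    exact mul_mem (inv_mem ha) (conj_mem_CS h1 ha)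
  exact h.eq_one_of_pow hPQ (j := 1) ((pow_two g).trans (h.eq_one_of_fix hPQ h6 (fix_mul h2 h2))) h1 h2

theorem exists_not_mem (P : Sylow 2 G) : ∃ g, g • P = P ∧ g ∉ CS P := by
  obtain ⟨s, hs, t, ht, h1, h2, h3⟩ := exists_two_mem h.two P
  have := h.nt
  obtain ⟨Q, hQ⟩ := exists_ne P
  obtain ⟨n, h4, h5⟩ := h.ac.fuse hQ.symm h1 hs h2 ht
  exact ⟨n, h4, fun e => h3 (by rw [← h5, ((h.ac.mem_CS h1 hs).1 e).eq, mul_inv_cancel_right])⟩

theorem trans (hQ : Q ≠ P) (hR : R ≠ P) : ∃ a ∈ CS P, a • Q = R := by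
  obtain ⟨g, h1, h2⟩ := h.exists_not_mem P
  obtain ⟨u, hu, u1, -⟩ := h.swap hQ.symm
  obtain ⟨v, hv, v1, -⟩ := h.swap hR.symm
  obtain ⟨a, ha, -, h3⟩ := h.exists_inverted hQ.symm hu u1 h1
  have h4 := fix_mul h1 (fix_of_mem_CS ha)
  have h5 : g * a ≠ 1 := fun e => h2 (by rw [eq_inv_of_mul_eq_one_left e]; exact inv_mem ha)
  generalize g * a = x at h3 h4 h5
  obtain ⟨b, hb, -, h6⟩ := h.exists_inverted hR.symm hv v1 h4
  have key : ∀ {y : G} {S T : Sylow 2 G}, y ≠ 1 → y • P = P → S ≠ P → T ≠ P → y • S = S → y • T = T → S = T :=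
    fun h1 h2 h3 h4 h5 h6 => by_contra fun e => h1 (h.three _ _ _ _ h3.symm e h4.symm h2 h5 h6)
  have hinj : Function.Injective fun c : CS P => (⟨x⁻¹ * c * x * (c : G)⁻¹,
      mul_mem (by simpa using conj_mem_CS (fix_inv h4) c.2) (inv_mem c.2)⟩ : CS P) := fun c d e => by
    have e' : x⁻¹ * c * x * (c : G)⁻¹ = x⁻¹ * d * x * (d : G)⁻¹ := Subtype.mk.inj e
    have h7 : x * ((d : G)⁻¹ * c) = (d : G)⁻¹ * c * x := by
      calc _ = (d : G)⁻¹ * x * (x⁻¹ * d * x * (d : G)⁻¹) * c := by group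
        _ = _ := by rw [← e']; group
    have h8 := mul_mem (inv_mem d.2) c.2
    have h9 := key h5 h4 (H7.smul_ne_of_fix (fix_of_mem_CS h8) hQ) hQ (by rw [← mul_smul, h7, mul_smul, h3]) h3
    exact Subtype.ext (inv_mul_eq_one.1 (h.eq_one_of_fix hQ.symm h8 h9)).symm
  obtain ⟨c, hc⟩ := Finite.surjective_of_injective hinj ⟨b, hb⟩
  have hc' : x * b = c * x * (c : G)⁻¹ := by rw [← Subtype.mk.inj hc]; group
  exact ⟨c, c.2, key (y := x * b) (by simpa [hc'] using h5) (fix_mul h4 (fix_of_mem_CS hb))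
    (H7.smul_ne_of_fix (fix_of_mem_CS c.2) hQ) hR (by rw [hc', ← mul_smul, inv_mul_cancel_right, mul_smul, h3]) h6⟩

theorem ker (P : Sylow 2 G) : H7.Ker P (CS P) :=
  ⟨fun _ => fix_of_mem_CS, fun _ hg _ => conj_mem_CS hg, fun Q R hQ hR => by
    obtain ⟨a, ha, e⟩ := h.trans hQ hR
    refine ⟨⟨a, ha⟩, e, fun b hb => Subtype.ext ?_⟩
    exact (inv_mul_eq_one.1 (h.eq_one_of_fix hQ.symm (mul_mem (inv_mem ha) b.2) (by
      rw [mul_smul, hb, ← e, inv_smul_smul]))).symm⟩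

theorem z3 : H7.Z3 G (Sylow 2 G) :=
  ⟨MulAction.is_two_pretransitive_iff.2 fun {a b c d} h1 h2 => by
    obtain ⟨g, rfl⟩ := MulAction.exists_smul_eq G a c
    obtain ⟨k, h3, h4⟩ := h.trans (P := g • a) (Q := g • b) (by simpa using h1.symm) h2.symm
    exact ⟨k * g, by rw [mul_smul, fix_of_mem_CS h3], by rw [mul_smul, h4]⟩, h.three⟩

theorem odd : Odd (Nat.card (Sylow 2 G)) := Nat.odd_iff.2 (card_sylow_modEq_one 2 G)

theorem three_le : 3 ≤ Nat.card (Sylow 2 G) := by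
  have := h.nt
  have := Finite.one_lt_card (α := Sylow 2 G)
  obtain ⟨k, hk⟩ := h.odd
  omega

theorem zass : IsZassenhausGroup G (Sylow 2 G) := by
  have := h.nt
  obtain ⟨P, Q, hPQ⟩ := exists_pair_ne (Sylow 2 G)
  refine ⟨h.z3.faithful h.three_le, h.z3.two, h.three, ?_, fun N hN h1 => ?_⟩
  · obtain ⟨g, h1, h2⟩ := h.exists_not_mem P
    obtain ⟨u, hu, u1, -⟩ := h.swap hPQ
    obtain ⟨a, ha, -, h3⟩ := h.exists_inverted hPQ hu u1 h1
    exact ⟨g * a, fun e => h2 (by rw [eq_inv_of_mul_eq_one_left e]; exact inv_mem ha), P, Q, hPQ,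
      fix_mul h1 (fix_of_mem_CS ha), h3⟩
  by_contra! hc
  have k1 : ∀ n ∈ N, n • P = P → n = 1 := fun n hn e => by
    have := (show (⟨n, hn⟩ : N) ∈ MulAction.stabilizer N P from e)
    rw [hc P, mem_bot] at this
    exact congrArg Subtype.val this
  have k2 : ∀ t ∈ (P : Subgroup G), orderOf t = 2 → ∀ n ∈ N, t * n * t⁻¹ = n⁻¹ := fun t ht h2 =>
    (L.inverts_of_involution (ord2_mul_self h2) (le_normalizer_of_normal (mem_top t)) (eq_bot_iff.2 fun n hn =>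
      k1 n hn.1 (fix_of_mem_CS ((h.ac.mem_CS h2 ht).2 (mem_centralizer_singleton_iff.1 hn.2))))).1
  obtain ⟨s, hs, t, ht, h3, h4, h5⟩ := exists_two_mem h.two P
  obtain ⟨n, hn⟩ := h1.exists_smul_eq P Q
  have h6 : orderOf (s * t) = 2 := ord2_of (by
    rw [← sq, (h.ac.comm hs ht).mul_pow, sq, sq, ord2_mul_self h3, ord2_mul_self h4, one_mul]) fun e =>
      h5 (by rw [eq_inv_of_mul_eq_one_left e, ord2_inv h4])
  refine hPQ (hn ▸ (fix_of_mem_CS ((h.ac.mem_CS h6 (mul_mem hs ht)).2 ?_)).symm)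
  rw [Commute, SemiconjBy, eq_comm, ← mul_inv_eq_iff_eq_mul]
  calc _ = s * (t * n * t⁻¹) * s⁻¹ := by group
    _ = _ := by rw [k2 t ht h4 n n.2, ← conj_inv, k2 s hs h3 n n.2, inv_inv]

theorem large (hPQ : P ≠ Q) : Nat.card (Sylow 2 G) - 2 ≤ Nat.card (H7.St G P Q) := by
  obtain ⟨t, h1, h2⟩ := h.invol P
  refine (H7.zass_large h.zass hPQ (h.ker P) fun u hu v hv => h.ac.comm_CS h2 h1 hu hv).resolve_right fun ⟨e, _⟩ => ?_
  obtain ⟨k, hk⟩ := h.odd
  have := h.three_le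
  omega

theorem card : ∃ f, 2 ≤ f ∧ Nat.card (Sylow 2 G) = 2 ^ f + 1 ∧ ∀ P : Sylow 2 G, CS P = P := by
  have := h.nt
  obtain ⟨P, Q, hPQ⟩ := exists_pair_ne (Sylow 2 G)
  have key : ∀ P : Sylow 2 G, ∃ f, 1 ≤ f ∧ Nat.card (Sylow 2 G) = 2 ^ f + 1 ∧ CS P = P := fun P => by
    obtain ⟨Q, hQ⟩ := exists_ne P
    obtain ⟨p, f, hp, hf, h1, h2⟩ := (h.ker P).elementary h.z3 hQ h.three_le
      ((h.large hQ.symm).trans (by omega))
    obtain rfl : p = 2 := by
      by_contra e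
      obtain ⟨u, hu⟩ := (hp.odd_of_ne_two e).pow (n := f)
      obtain ⟨v, hv⟩ := h.odd
      omega
    exact ⟨f, hf, h2, le_antisymm (fun a ha => mem_of_fix (j := 1) (h1 a ha) (fix_of_mem_CS ha)) (h.ac.le_CS P)⟩
  obtain ⟨f, h1, h2, h3⟩ := key P
  refine ⟨f, ?_, h2, fun P => (key P).choose_spec.2.2⟩
  by_contra hf
  obtain rfl : f = 1 := by omega
  have h4 := (h.ker P).card hPQ.symm
  rw [h2, h3] at h4
  obtain ⟨s, hs, t, ht, h5, h6, h7⟩ := exists_two_mem h.two P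
  exact h7 (eq_of_ord2_of_isCyclic (isCyclic_of_prime_card (p := 2) h4) hs ht h5 h6)

open scoped MatrixGroups in
theorem equiv : ∃ (F : Type) (_ : Field F) (_ : Fintype F) (f : ℕ), 2 ≤ f ∧ Fintype.card F = 2 ^ f ∧ ringChar F = 2 ∧
    Nonempty (G ≃* PSL(2, F)) ∧ Nonempty (G ≃* SL(2, F)) := by
  have := h.nt
  obtain ⟨P, Q, hPQ⟩ := exists_pair_ne (Sylow 2 G)
  obtain ⟨f, hf, h2, -⟩ := h.card
  obtain ⟨K, _, _, hK, hK'⟩ := H7.exists_field_card Nat.prime_two (by omega : 1 ≤ f)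
  refine ⟨K, _, _, f, hf, hK, hK', h.z3.psl_two K (by rw [hK, h2])
    (by rw [hK]; exact (Nat.even_pow' (by omega)).2 even_two) ?_⟩
  have := h.three_le
  have h4 := Nat.le_of_dvd (by omega) (h.z3.card_St_dvd hPQ)
  rw [h.z3.card_eq hPQ, le_antisymm h4 (h.large hPQ), h2, hK]
  obtain ⟨q, hq⟩ : ∃ q, 2 ^ f = q + 1 := ⟨2 ^ f - 1, by have := Nat.two_pow_pos f; omega⟩
  rw [hq, show (q + 1) ^ 2 - 1 = q * (q + 2) by rw [Nat.sub_eq_iff_eq_add (Nat.one_le_pow 2 (q + 1) q.succ_pos)]; ring]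
  simp only [Nat.add_sub_cancel, show q + 1 + 1 - 2 = q by omega]
  ring

end AC1

end Cfsg.Agent.C3
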