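/-
Groups in which all involution centralizers are abelian: reduction to the centre-free case.
-/
import Cfsg.Agent.C3.AC
import Cfsg.Agent.H2.PNil
import Cfsg.Agent.H4.Dick9
import Cfsg.Agent.L.PGroup

set_option autoImplicit false

namespace Cfsg.Agent.C3

open Cfsg H2 Subgroup

universe u

variable {G : Type*} [Group G]

theorem eq_one_of_no_invol {Y : Subgroup G} (hY : ∀ y ∈ Y, y * y = 1 → y = 1) {y : G} (hy : y ∈ Y) {j : ℕ}
    (h : y ^ 2 ^ j = 1) : y = 1 := by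
  induction j with
  | zero => simpa using h
  | succ j ih => exact ih (hY _ (pow_mem hy _) (by rw [← sq, ← pow_mul, ← pow_succ, h]))

variable (G) in
/-- abelian involution centralizers, with commuting and non-commuting pairs of involutions -/
structure AC0 : Prop where
  ac : AC G
  two : ∃ s t : G, orderOf s = 2 ∧ orderOf t = 2 ∧ s ≠ t ∧ Commute s t
  nc : ∃ s t : G, orderOf s = 2 ∧ orderOf t = 2 ∧ ¬ Commute s t

variable [Finite G]

theorem AC.syl_eq (h : AC G) {P Q : Sylow 2 G} {s t : G} (hs : orderOf s = 2) (ht : orderOf t = 2)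
    (h1 : s ∈ (P : Subgroup G)) (h2 : t ∈ (Q : Subgroup G)) (hc : Commute s t) : P = Q :=
  h.eq_of_mem ht (mem_of_fix' (ord2_mul_self ht) (fix_of_mem_CS ((h.mem_CS hs h1).2 hc.symm))) h2

namespace AC0

variable (h : AC0 G)
include h

theorem nt : Nontrivial (Sylow 2 G) := by
  obtain ⟨s, t, hs, ht, hc⟩ := h.nc
  obtain ⟨P, hP⟩ := exists_syl_mem (ord2_mul_self hs)
  obtain ⟨Q, hQ⟩ := exists_syl_mem (ord2_mul_self ht)
  exact ⟨P, Q, fun e => hc (h.ac.comm (e ▸ hP) hQ)⟩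

theorem ac1 (h1 : ∀ s t a : G, orderOf s = 2 → orderOf t = 2 → ¬ Commute s t → Commute a s → Commute a t → a = 1) :
    AC1 G := by
  refine ⟨h.ac, fun P Q a hPQ ha hb => ?_, h.two, h.nt⟩
  obtain ⟨s, hs, -, -, h2, -⟩ := exists_two_mem h.two P
  obtain ⟨t, ht, -, -, h3, -⟩ := exists_two_mem h.two Q
  exact h1 s t a h2 h3 (fun e => hPQ (h.ac.syl_eq h2 h3 hs ht e)) ((h.ac.mem_CS h2 hs).1 ha) ((h.ac.mem_CS h3 ht).1 hb)

theorem conj {s t : G} (hs : orderOf s = 2) (ht : orderOf t = 2) : ∃ g, g * s * g⁻¹ = t := by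
  obtain ⟨P, hP⟩ := exists_syl_mem (ord2_mul_self hs)
  obtain ⟨Q, hQ⟩ := exists_syl_mem (ord2_mul_self ht)
  obtain ⟨g, rfl⟩ := MulAction.exists_smul_eq G P Q
  have := h.nt
  obtain ⟨R, hR⟩ := exists_ne P
  obtain ⟨n, -, e⟩ := h.ac.fuse hR.symm hs hP (by simpa using ord2_conj ht g⁻¹) (mem_smul_syl.1 hQ)
  exact ⟨g * n, by rw [mul_inv_rev, mul_assoc g, ← mul_assoc (g * _), mul_assoc g, e]; group⟩

theorem center_odd : ∀ z ∈ center G, z * z = 1 → z = 1 := fun z hz e => by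
  by_contra h1
  obtain ⟨s, t, -, -, hc⟩ := h.nc
  exact hc (h.ac z s t (ord2_of e h1) (mem_center_iff.1 hz s) (mem_center_iff.1 hz t))

variable {H : Type*} [Group H] {f : G →* H} (hf : Function.Surjective f) (hk : f.ker = center G)
include hk

theorem comm_of_map {x t : G} (ht : t * t = 1) (e : Commute (f x) (f t)) : Commute x t := by
  have h1 : x * t * x⁻¹ * t⁻¹ ∈ center G := by
    rw [← hk, MonoidHom.mem_ker]; simp [e.eq]
  have h2 := h.center_odd _ h1 (by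
    calc _ = x * t * x⁻¹ * (t⁻¹ * (x * t * x⁻¹ * t⁻¹)) := by group
      _ = x * (t * t) * x⁻¹ * (t * t)⁻¹ := by rw [mem_center_iff.1 h1]; group
      _ = 1 := by rw [ht]; group)
  rwa [mul_inv_eq_one, mul_inv_eq_iff_eq_mul] at h2

theorem ord_map {t : G} (ht : orderOf t = 2) : orderOf (f t) = 2 :=
  ord2_of (by rw [← map_mul, ord2_mul_self ht, map_one]) fun e =>
    ord2_ne_one ht (h.center_odd t (hk ▸ e) (ord2_mul_self ht))

include hf

theorem lift {t : H} (ht : orderOf t = 2) : ∃ s, orderOf s = 2 ∧ f s = t := by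
  obtain ⟨s, rfl⟩ := hf t
  obtain ⟨n, h1, k, h2⟩ := exists_lift_ppow (p := 2) f s (j := 1) ((pow_two _).trans (ord2_mul_self ht))
  refine ⟨s ^ n, ord2_of (eq_one_of_no_invol h.center_odd (j := k) ?_ ?_) fun e => ord2_ne_one ht (by rw [← h1, e, map_one]), h1⟩
  · rw [← hk, MonoidHom.mem_ker, map_mul, h1, ord2_mul_self ht]
  · rw [← sq, ← pow_mul, mul_comm, pow_mul, h2, one_pow]

theorem map (h1 : ∀ s t a : G, orderOf s = 2 → orderOf t = 2 → ¬ Commute s t → Commute a s → Commute a t → a ∈ center G)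
    [Finite H] : AC1 H := by
  refine AC0.ac1 ⟨fun t x y ht hx hy => ?_, ?_, ?_⟩ fun s t a hs ht hc h2 h3 => ?_
  · obtain ⟨t, h2, rfl⟩ := h.lift hf hk ht
    obtain ⟨x, rfl⟩ := hf x
    obtain ⟨y, rfl⟩ := hf y
    exact (h.ac t x y h2 (h.comm_of_map hk (ord2_mul_self h2) hx) (h.comm_of_map hk (ord2_mul_self h2) hy)).map f
  · obtain ⟨s, t, hs, ht, h2, h3⟩ := h.two
    refine ⟨f s, f t, h.ord_map hk hs, h.ord_map hk ht, fun e => h2 ?_, h3.map f⟩
    rw [← ord2_inv ht]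
    refine eq_inv_of_mul_eq_one_left (h.center_odd _ ?_ ?_)
    · rw [← hk, MonoidHom.mem_ker, map_mul, e, ← map_mul, ord2_mul_self ht, map_one]
    · rw [← sq, h3.mul_pow, sq, sq, ord2_mul_self hs, ord2_mul_self ht, one_mul]
  · obtain ⟨s, t, hs, ht, h2⟩ := h.nc
    exact ⟨f s, f t, h.ord_map hk hs, h.ord_map hk ht, fun e => h2 (h.comm_of_map hk (ord2_mul_self ht) e)⟩
  · obtain ⟨s, h4, rfl⟩ := h.lift hf hk hs
    obtain ⟨t, h5, rfl⟩ := h.lift hf hk ht
    obtain ⟨a, rfl⟩ := hf a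
    exact (show a ∈ f.ker from hk ▸ h1 s t a h4 h5 (fun e => hc (e.map f)) (h.comm_of_map hk (ord2_mul_self h4) h2)
      (h.comm_of_map hk (ord2_mul_self h5) h3))

end AC0

/-- no subgroup of odd order supplements the involution centralizers -/
theorem AC1.not_supp (h : AC1 G) {Y : Subgroup G} (hY : ∀ y ∈ Y, y * y = 1 → y = 1)
    (hs : ∀ t g : G, orderOf t = 2 → ∃ b, Commute b t ∧ g * b ∈ Y) : False := by
  classical
  have := h.nt
  obtain ⟨-, -, -, hCS⟩ := h.card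
  have ex : ∀ P : Sylow 2 G, ∃ Q, Q ≠ P ∧ ∃ y ∈ Y, y ≠ 1 ∧ y • P = P ∧ y • Q = Q := fun P => by
    obtain ⟨g, h1, h2⟩ := h.exists_not_mem P
    obtain ⟨t, h3, h4⟩ := h.invol P
    obtain ⟨b, hb, h5⟩ := hs t g h4
    have h6 := (h.ac.mem_CS h4 h3).2 hb
    have h7 : g * b ∉ CS P := fun e => h2 (by simpa using mul_mem e (inv_mem h6))
    obtain ⟨R, hR⟩ := exists_ne P
    have h8 := fix_mul h1 (fix_of_mem_CS h6)
    by_contra! hc
    exact h7 ((h.ker P).mem_of_fpf h.z3 hR h8 fun Q hQ => hc Q hQ _ h5 (fun e => h7 (e ▸ one_mem _)) h8)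
  have un : ∀ {P Q R : Sylow 2 G} {x y : G}, Q ≠ P → R ≠ P → x ∈ Y → y ∈ Y → x ≠ 1 → y ≠ 1 → x • P = P → x • Q = Q →
      y • P = P → y • R = R → Q = R := fun {P Q R x y} h1 h2 hx hy x1 y1 h3 h4 h5 h6 => by
    obtain ⟨u, hu, u1, -⟩ := h.swap h1.symm
    obtain ⟨a, ha, -, h7⟩ := h.exists_inverted h1.symm hu u1 h5
    have h8 := (h.comm_St h1.symm h3 h4 (fix_mul h5 (fix_of_mem_CS ha)) h7).eq
    have h9 : y⁻¹ * x⁻¹ * y * x ∈ CS P := by
      have : y⁻¹ * x⁻¹ * y * x = a * (x⁻¹ * a⁻¹ * x⁻¹⁻¹) := by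
        calc _ = y⁻¹ * x⁻¹ * (y * a * x) * (x⁻¹ * a⁻¹ * x) := by group
          _ = _ := by rw [← h8]; group
      rw [this]
      exact mul_mem ha (conj_mem_CS (fix_inv h3) (inv_mem ha))
    rw [hCS] at h9
    obtain ⟨j, hj⟩ := isPGroup_iff_forall.1 P.isPGroup' _ h9
    have h10 := eq_one_of_no_invol hY (mul_mem (mul_mem (mul_mem (inv_mem hy) (inv_mem hx)) hy) hx) hj
    have h11 : x * y = y * x := by
      calc _ = x * y * (y⁻¹ * x⁻¹ * y * x) := by rw [h10, mul_one]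
        _ = _ := by group
    have h12 : y • Q = Q := by_contra fun e => x1 (h.three x P Q _ h1.symm (Ne.symm e) (H7.smul_ne_of_fix h5 h1).symm h3 h4
      (by rw [← mul_smul, h11, mul_smul, h4]))
    exact by_contra fun e => y1 (h.three y P Q R h1.symm e h2.symm h5 h12 h6)
  choose δ h1 y h2 h3 h4 h5 using ex
  have hi : Function.Involutive δ := fun P => un (h1 _) (h1 P).symm (h2 _) (h2 P) (h3 _) (h3 P) (h4 _) (h5 _) (h5 P) (h4 P)
  have := Fintype.ofFinite (Sylow 2 G)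
  obtain ⟨P, hP⟩ := Equiv.Perm.exists_fixed_point_of_prime (p := 2) (n := 1) (σ := hi.toPerm)
    (by rw [← Nat.card_eq_fintype_card]; exact h.odd.not_two_dvd_nat) (by ext P; simp [sq, hi P])
  exact h1 P hP

theorem AC0.cen {G : Type u} [Group G] [Finite G] (h : AC0 G) {s t a : G} (hs : orderOf s = 2) (ht : orderOf t = 2)
    (hc : ¬ Commute s t) (h1 : Commute a s) (h2 : Commute a t) : a ∈ center G := by
  induction hn : Nat.card G using Nat.strong_induction_on generalizing G with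
  | _ n ih =>
  by_contra ha
  let M := centralizer ({a} : Set G)
  have hM : ∀ {x}, x ∈ M ↔ Commute x a := mem_centralizer_singleton_iff
  have k1 : ∀ {t x}, orderOf t = 2 → t ∈ M → Commute x t → x ∈ M := fun ht h1 h2 =>
    hM.2 (h.ac _ _ _ ht h2 (hM.1 h1).symm)
  have oc : ∀ x : M, orderOf x = orderOf (x : G) := fun x => (orderOf_coe x).symm
  have cc : ∀ {x y : M}, Commute x y ↔ Commute (x : G) y := ⟨fun e => e.map M.subtype, fun e => Subtype.ext e⟩
  have h0 : AC0 M := by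
    refine ⟨fun t x y ht hx hy => cc.2 (h.ac t x y (oc t ▸ ht) (cc.1 hx) (cc.1 hy)), ?_,
      ⟨s, hM.2 h1.symm⟩, ⟨t, hM.2 h2.symm⟩, by rwa [oc], by rwa [oc], fun e => hc (cc.1 e)⟩
    obtain ⟨P, hP⟩ := exists_syl_mem (ord2_mul_self hs)
    obtain ⟨u, hu, v, hv, h3, h4, h5⟩ := exists_two_mem h.two P
    exact ⟨⟨u, k1 hs (hM.2 h1.symm) (h.ac.comm hu hP)⟩, ⟨v, k1 hs (hM.2 h1.symm) (h.ac.comm hv hP)⟩, by rwa [oc],
      by rwa [oc], fun e => h5 (congrArg Subtype.val e), cc.2 (h.ac.comm hu hv)⟩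
  have k2 : ∀ {t g}, orderOf t = 2 → t ∈ M → g * t * g⁻¹ ∈ M → g ∈ M := fun {t g} ht h3 h4 => by
    obtain ⟨m, hm⟩ := h0.conj (s := ⟨t, h3⟩) (t := ⟨_, h4⟩) (by rwa [oc]) (by rw [oc]; exact ord2_conj ht g)
    have h5 : (m : G) * t * (m : G)⁻¹ = g * t * g⁻¹ := congrArg Subtype.val hm
    have h6 := k1 (x := (m : G)⁻¹ * g) ht h3 (by
      calc _ = (m : G)⁻¹ * (g * t * g⁻¹) * g := by group
        _ = _ := by rw [← h5]; group)
    simpa using mul_mem m.2 h6
  obtain ⟨g, hg⟩ : ∃ g, g ∉ M := by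
    by_contra! e
    exact ha (mem_center_iff.2 fun g => hM.1 (e g))
  have h3 : g * s * g⁻¹ ∉ M := fun e => hg (k2 hs (hM.2 h1.symm) e)
  have h4 := ord2_mul_self (ord2_conj hs g)
  generalize g * s * g⁻¹ = u at h3 h4
  have h5 := h0.map (QuotientGroup.mk'_surjective _) (QuotientGroup.ker_mk' _) fun s t a h1 h2 h3 h4 h5 =>
    ih _ (hn ▸ card_lt_of_ne_top fun e => hg (e ▸ mem_top g)) h0 h1 h2 h3 h4 h5 rfl
  let Y : Subgroup M := (cj u⁻¹ M).subgroupOf M
  have hY : ∀ {y : M}, y ∈ Y ↔ u * y * u⁻¹ ∈ M := by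
    intro y; rw [mem_subgroupOf, mem_cj, inv_inv]
  have h6 : ∀ y ∈ Y, y * y = 1 → y = 1 := fun y hy e => by_contra fun e' =>
    h3 (k2 (oc y ▸ ord2_of e e') y.2 (hY.1 hy))
  refine h5.not_supp (Y := Y.map (QuotientGroup.mk' (center M))) ?_ fun t m ht => ?_
  · rintro _ ⟨y, hy, rfl⟩ e
    obtain ⟨n, h7, k, h8⟩ := exists_lift_ppow (p := 2) _ y (j := 1) ((pow_two _).trans e)
    rw [← h7, eq_one_of_no_invol h6 (pow_mem hy n) h8, map_one]
  obtain ⟨t, h7, rfl⟩ := h0.lift (QuotientGroup.mk'_surjective _) (QuotientGroup.ker_mk' _) ht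
  obtain ⟨m, rfl⟩ := QuotientGroup.mk'_surjective _ m
  replace h7 : orderOf (t : G) = 2 := oc t ▸ h7
  obtain ⟨P, hP⟩ := exists_syl_mem (ord2_mul_self h7)
  obtain ⟨b, hb, e⟩ := h.ac.exists_inverted h7 hP h4 (g := (m : G)) fun e => h3 (by
    simpa using mul_mem (k2 h7 t.2 (k1 h7 t.2 (h.ac.comm (conj_mem_syl e hP) hP))) (inv_mem m.2))
  have h8 := (h.ac.mem_CS h7 hP).1 hb
  have h9 := k1 h7 t.2 h8
  exact ⟨_, (cc.2 h8 : Commute ⟨b, h9⟩ t).map _, m * ⟨b, h9⟩, hY.2 (e ▸ inv_mem (mul_mem m.2 h9)), map_mul _ _ _⟩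

open scoped MatrixGroups in
theorem AC0.prod (h : AC0 G) : ∃ (F : Type) (_ : Field F) (_ : Fintype F), CharP F 2 ∧
    Nonempty (G ≃* SL(2, F) × center G) := by
  obtain ⟨F, _, _, n, hn, h1, h2, -, ⟨e⟩⟩ := (h.map (QuotientGroup.mk'_surjective _) (QuotientGroup.ker_mk' _)
    fun s t a h1 h2 h3 h4 h5 => h.cen h1 h2 h3 h4 h5).equiv
  have : CharP F 2 := h2 ▸ ringChar.charP F
  refine ⟨F, inferInstance, inferInstance, this, ?_⟩
  obtain ⟨f, hf, hk⟩ : ∃ f : G →* SL(2, F), Function.Surjective f ∧ f.ker = center G :=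
    ⟨e.toMonoidHom.comp (QuotientGroup.mk' _), e.surjective.comp (QuotientGroup.mk'_surjective _), by
      ext x; simp [MonoidHom.mem_ker]⟩
  have k1 : ∀ x ∈ _root_.commutator G, x ∈ center G → x = 1 := fun x h3 h4 => by
    by_contra h5
    obtain ⟨r, hr, m, hm⟩ := Nat.exists_prime_and_dvd (mt orderOf_eq_one_iff.1 h5)
    have h6 : orderOf (x ^ m) = r := by
      rw [orderOf_pow' _ (fun e => by simp [e, (orderOf_pos x).ne'] at hm), hm, Nat.gcd_eq_right (dvd_mul_left _ _),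
        Nat.mul_div_cancel _ (Nat.pos_of_ne_zero fun e => by simp [e, (orderOf_pos x).ne'] at hm)]
    replace h3 := pow_mem h3 m
    replace h4 := pow_mem h4 m
    generalize x ^ m = y at h3 h4 h6
    have := Fact.mk hr
    have r2 : r ≠ 2 := fun e => ord2_ne_one (e ▸ h6) (h.center_odd y h4 (ord2_mul_self (e ▸ h6)))
    obtain ⟨S, hS⟩ := (isPGroup_zpowers_of_orderOf (k := 1) (by simpa using h6) : IsPGroup r (zpowers y)).exists_le_sylow
    have : IsCyclic ((S : Subgroup G).map f) := by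
      by_cases e : (S : Subgroup G).map f = ⊥
      · rw [e]; infer_instance
      obtain ⟨a, b, h7, h8, -⟩ := H4.exists_TS_of_isPGroup 2 r2 r2 (S.isPGroup'.map f) e
      have := h7.isCyclic_TS
      exact isCyclic_of_le h8
    have : IsMulCommutative (S : Subgroup G) := ⟨⟨commutative_of_cyclic_center_quotient (f.subgroupMap S) fun z hz =>
      mem_center_iff.2 fun g => Subtype.ext (mem_center_iff.1 (show (z : G) ∈ center G from
        hk ▸ congrArg Subtype.val (MonoidHom.mem_ker.1 hz)) g)⟩⟩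
    have h9 := eq_one_of_mem_commutator_center (K := ⊤) le_top (hS (mem_zpowers y)) (by
      rw [h6, relIndex_top_right]; exact (Nat.Prime.coprime_iff_not_dvd hr).2 S.not_dvd_index) h3
      (mem_centralizer_iff.2 fun g _ => mem_center_iff.1 h4 g)
    exact hr.one_lt.ne' (by rw [← h6, h9, orderOf_one])
  have k2 : (_root_.commutator G).map f = ⊤ := by
    obtain ⟨a, ha, ha'⟩ : ∃ a : F, a ≠ 0 ∧ a ≠ 1 := by
      classical
      by_contra! hc
      have : (Finset.univ : Finset F) ⊆ {0, 1} := fun a _ => by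
        by_cases e : a = 0 <;> simp [e, hc a]
      have h3 := (Finset.card_le_card this).trans Finset.card_le_two
      have := Nat.pow_le_pow_right two_pos hn
      rw [Finset.card_univ] at h3
      omega
    rw [map_commutator_eq, MonoidHom.range_eq_top.2 hf]
    exact Matrix.SL2.commutator_eq_top ha fun e => ha' (CharTwo.sq_injective (by simpa using e))
  let φ := MulEquiv.ofBijective (f.comp (_root_.commutator G).subtype) ⟨(injective_iff_map_eq_one _).2 fun x hx =>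
    Subtype.ext (k1 x x.2 (hk ▸ hx)), fun y => by
      obtain ⟨x, hx, rfl⟩ := k2.ge (mem_top y)
      exact ⟨⟨x, hx⟩, rfl⟩⟩
  let s : SL(2, F) →* G := (_root_.commutator G).subtype.comp φ.symm.toMonoidHom
  have k3 : ∀ c, f (s c) = c := φ.apply_symm_apply
  have k4 : ∀ (c : SL(2, F)) (d : center G), Commute (s c) ((center G).subtype d) := fun c d => mem_center_iff.1 d.2 _
  refine ⟨(MulEquiv.ofBijective (s.noncommCoprod (center G).subtype k4) ⟨?_, fun o => ?_⟩).symm⟩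
  · rw [injective_iff_map_eq_one]
    rintro ⟨c, d⟩ h
    have h3 : c = 1 := by simpa [k3, show f d = 1 from hk.ge d.2] using congrArg f h
    subst h3
    simpa using h
  · exact ⟨(f o, ⟨(s (f o))⁻¹ * o, by simp [← hk, MonoidHom.mem_ker, k3]⟩), by simp⟩

theorem AC.two (h : AC G) (P : Sylow 2 G) (hP : ¬ IsCyclic P) :
    ∃ s t : G, orderOf s = 2 ∧ orderOf t = 2 ∧ s ≠ t ∧ Commute s t := by
  have : IsMulCommutative (P : Subgroup G) := ⟨⟨fun a b => Subtype.ext (h.comm a.2 b.2)⟩⟩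
  obtain ⟨E, h1, h2, h3⟩ := L.exists_elementary_sq_le P.isPGroup' hP
  have h4 : ∀ x : E, x ≠ 1 → orderOf (x : G) = 2 := fun x hx =>
    ord2_of ((pow_two _).symm.trans (h2.2 x x.2)) fun e => hx (Subtype.ext e)
  obtain ⟨a, b, c, h5, h6, h7⟩ := H7.exists_three (Ω := E) (by omega)
  exact ⟨(a⁻¹ * b : E), (a⁻¹ * c : E), h4 _ (by rwa [Ne, inv_mul_eq_one]), h4 _ (by rwa [Ne, inv_mul_eq_one]),
    fun e => h7 (mul_left_cancel (Subtype.ext e)), h.comm (h1 (a⁻¹ * b).2) (h1 (a⁻¹ * c).2)⟩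

theorem AC.ac0 (h : AC G) {P Q : Sylow 2 G} (hP : ¬ IsCyclic P) (hQ : ¬ (Q : Subgroup G).Normal) : AC0 G := by
  refine ⟨h, h.two P hP, ?_⟩
  obtain ⟨g, hg⟩ : ∃ g : G, g • Q ≠ Q := by
    by_contra! e
    exact hQ (normalizer_eq_top_iff.1 (eq_top_iff.2 fun g _ => Sylow.smul_eq_iff_mem_normalizer.1 (e g)))
  obtain ⟨s, hs, -, -, h2, -⟩ := exists_two_mem (h.two P hP) Q
  obtain ⟨t, ht, -, -, h3, -⟩ := exists_two_mem (h.two P hP) (g • Q)
  exact ⟨t, s, h3, h2, fun e => hg (h.syl_eq h3 h2 ht hs e)⟩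

end Cfsg.Agent.C3
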