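/-
Camina–Herzog: if every 2-element is 2-central then the Sylow 2-subgroups are abelian.
-/
import Cfsg.Agent.H2.ZS
import Cfsg.Agent.H2.PNil

set_option autoImplicit false

namespace Cfsg.Agent.C3

open Cfsg H2 Subgroup

universe u

variable {G : Type*} [Group G] [Finite G]

theorem mem_of_sylow_le {p : ℕ} [Fact p.Prime] (Q : Sylow p G) {C : Subgroup G} (h : (Q : Subgroup G) ≤ C) {s : G} {j : ℕ}
    (hs : s ^ p ^ j = 1) (hn : s ∈ normalizer (C : Set G)) : s ∈ C := by
  obtain ⟨d, hd, h1⟩ := (sylIn_of_le Q (h.trans le_normalizer)).exists_cj_le (isPGroup_zpowers_iff.2 ⟨j, hs⟩) (zpowers_le.2 hn)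
  rw [← cj_eq_of_mem_normalizer hd] at h
  exact conj_mem_cj_iff.1 (h (h1 (conj_mem_cj d (mem_zpowers s))))

variable (G) in
/-- every 2-element is 2-central -/
def AllCen : Prop := ∀ (x : G) (j : ℕ), x ^ 2 ^ j = 1 → ∃ Q : Sylow 2 G, (Q : Subgroup G) ≤ centralizer {x}

namespace AllCen

variable (h : AllCen G) {P : Sylow 2 G} {s t u : G}
include h

theorem comm_invol (hs : s ∈ (P : Subgroup G)) (ht : t ∈ (P : Subgroup G)) (h1 : s * s = 1) (h2 : t * t = 1) :
    Commute s t := by
  obtain ⟨j, hj⟩ := isPGroup_iff_forall.1 P.isPGroup' _ (mul_mem hs ht)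
  obtain ⟨Q, hQ⟩ := h _ j hj
  have h3 := mem_centralizer_singleton_iff.1 (mem_of_sylow_le Q hQ (j := 1) ((pow_two s).trans h1) (mem_normalizer_iff_cj.2 (by
    rw [cj_centralizer_singleton, inverts_left h1 h2]
    ext y
    simp only [mem_centralizer_singleton_iff]
    exact ⟨fun h => (Commute.inv_right_iff.1 h : Commute y _), fun h => (show Commute y _ from h).inv_right⟩)))
  rwa [mul_assoc, mul_right_inj] at h3

theorem comm (hu : u ∈ (P : Subgroup G)) (ht : t ∈ (P : Subgroup G)) (h2 : t * t = 1) : Commute u t := by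
  obtain ⟨j, hj⟩ := isPGroup_iff_forall.1 P.isPGroup' _ hu
  induction j generalizing u with
  | zero => rw [show u = 1 by simpa using hj]; exact Commute.one_left _
  | succ j ih =>
  have h3 := ih (pow_mem hu 2) (by rw [← pow_mul, ← pow_succ', hj])
  obtain ⟨Q, hQ⟩ := h u _ hj
  have h4 : (Q : Subgroup G) ≤ centralizer {u ^ 2} := fun y hy => mem_centralizer_singleton_iff.2
    ((show Commute y u from mem_centralizer_singleton_iff.1 (hQ hy)).pow_right 2)
  obtain ⟨d, hd, h5⟩ := (sylIn_of_le Q h4).exists_cj_le (Q := P ⊓ centralizer {u ^ 2}) (P.isPGroup'.to_le inf_le_left) inf_le_right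
  have h6 := h5 (conj_mem_cj d (x := u) ⟨hu, mem_centralizer_singleton_iff.2 ((Commute.refl u).pow_right 2)⟩)
  have h7 := h5 (conj_mem_cj d (x := t) ⟨ht, mem_centralizer_singleton_iff.2 h3.symm⟩)
  have h8 : u ∈ (Q : Subgroup G) := (sylIn_top Q).mem_of_mem_normalizer (mem_top u) hj
    (centralizer_le_normalizer _ (mem_centralizer_iff.2 fun y hy => mem_centralizer_singleton_iff.1 (hQ hy)))
  have h9 : Commute (d * u * d⁻¹) u := mem_centralizer_singleton_iff.1 (hQ h6)
  have h10 := h.comm_invol (mul_mem h6 (inv_mem h8)) h7 (by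
    rw [← sq, h9.inv_right.mul_pow, conj_pow, mem_centralizer_singleton_iff.1 hd, mul_inv_cancel_right, inv_pow,
      mul_inv_cancel]) (by rw [conj_mul, h2, mul_one, mul_inv_cancel])
  have h11 := h10.mul_left (show Commute (d * t * d⁻¹) u from mem_centralizer_singleton_iff.1 (hQ h7)).symm
  rw [inv_mul_cancel_right] at h11
  exact Commute.conj_iff d |>.1 h11

end AllCen

theorem AllCen.abelian {G : Type u} [Group G] [Finite G] (h : AllCen G) (P : Sylow 2 G) {x y : G}
    (hx : x ∈ (P : Subgroup G)) (hy : y ∈ (P : Subgroup G)) : Commute x y := by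
  induction hn : Nat.card G using Nat.strong_induction_on generalizing G with
  | _ n ih =>
  let V : Subgroup G :=
    { carrier := {t | t ∈ (P : Subgroup G) ∧ t * t = 1}
      one_mem' := ⟨one_mem _, mul_one 1⟩
      mul_mem' := fun {a b} ha hb => ⟨mul_mem ha.1 hb.1, by
        rw [← sq, (h.comm ha.1 hb.1 hb.2).mul_pow, sq, sq, ha.2, hb.2, mul_one]⟩
      inv_mem' := fun {a} ha => ⟨inv_mem ha.1, by rw [← mul_inv_rev, ha.2, inv_one]⟩ }
  have k1 : ∀ Q : Sylow 2 G, V ≤ Q → (Q : Subgroup G) ≤ centralizer (V : Set G) := fun Q hQ g hg =>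
    mem_centralizer_iff.2 fun v hv => (h.comm hg (hQ hv) hv.2).symm
  have k2 := k1 P fun v hv => hv.1
  by_cases hN : normalizer (V : Set G) = ⊤
  · have : V.Normal := normalizer_eq_top_iff.1 hN
    by_cases hV : V = ⊥
    · by_cases e : (P : Subgroup G) = ⊥
      · rw [e, mem_bot] at hx; rw [hx]; exact Commute.one_left _
      obtain ⟨t, h1, h2⟩ := exists_ord2_of_ne_bot P.isPGroup' e
      exact absurd (mem_bot.1 (hV ▸ (⟨h1, ord2_mul_self h2⟩ : t ∈ V))) (ord2_ne_one h2)
    have hf := QuotientGroup.mk'_surjective V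
    have h1 : AllCen (G ⧸ V) := fun z j hj => by
      obtain ⟨z, rfl⟩ := hf z
      obtain ⟨m, h1, k, h2⟩ := exists_lift_ppow (p := 2) _ z hj
      obtain ⟨Q, hQ⟩ := h _ k h2
      refine ⟨Q.mapSurjective hf, ?_⟩
      rintro _ ⟨g, hg, rfl⟩
      rw [← h1]
      exact mem_centralizer_singleton_iff.2 ((show Commute g _ from mem_centralizer_singleton_iff.1 (hQ hg)).map _)
    obtain ⟨j, hj⟩ := isPGroup_iff_forall.1 P.isPGroup' _ hx
    obtain ⟨Q, hQ⟩ := h x j hj
    let K := (centralizer {QuotientGroup.mk' V x}).comap (QuotientGroup.mk' V)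
    obtain ⟨c, hc, e⟩ := (sylIn_of_le Q (H := K) fun g hg => mem_centralizer_singleton_iff.2
      ((show Commute g _ from mem_centralizer_singleton_iff.1 (hQ hg)).map _)).exists_cj_eq (sylIn_of_le P fun g hg =>
        mem_centralizer_singleton_iff.2 (ih _ (hn ▸ card_quot_lt hV) h1 (P.mapSurjective hf) (mem_map_of_mem _ hg)
          (mem_map_of_mem _ hx) rfl))
    have h2 : y ∈ centralizer {c * x * c⁻¹} := by
      rw [← cj_centralizer_singleton]; exact cj_mono c hQ (e ▸ hy)
    have h3 : x⁻¹ * (c * x * c⁻¹) ∈ V := by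
      rw [← QuotientGroup.ker_mk' V, MonoidHom.mem_ker, map_mul, map_mul, map_mul, mem_centralizer_singleton_iff.1 hc]
      simp
    have h4 := (show Commute y _ from mem_centralizer_singleton_iff.1 h2).mul_right
      (show Commute _ y from mem_centralizer_iff.1 (k2 hy) _ h3).symm.inv_right
    simpa [mul_assoc] using h4.symm
  · have k3 := k2.trans (centralizer_le_normalizer _)
    refine congrArg Subtype.val (ih _ (hn ▸ card_lt_of_ne_top hN) (fun z j hj => ?_) (P.subtype k3) (x := ⟨x, k3 hx⟩)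
      (y := ⟨y, k3 hy⟩) hx hy rfl)
    have hj' : (z : G) ^ 2 ^ j = 1 := congrArg Subtype.val hj
    obtain ⟨Q, hQ⟩ := h z j hj'
    have h1 := mem_of_sylow_le P k2 hj' (normalizer_le_normalizer_centralizer _ z.2)
    obtain ⟨d, hd, h2⟩ := (sylIn_of_le Q hQ).exists_cj_le (Q := V) (P.isPGroup'.to_le fun v hv => hv.1) fun v hv =>
      mem_centralizer_singleton_iff.2 (mem_centralizer_iff.1 h1 v hv)
    refine ⟨(d⁻¹ • Q).subtype ((k1 _ (by rwa [coe_smul_sylow, ← cj_le_iff])).trans (centralizer_le_normalizer _)),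
      fun g hg => mem_centralizer_singleton_iff.2 (Subtype.ext (mem_centralizer_singleton_iff.1 ?_))⟩
    exact cj_le_of_le hQ (inv_mem hd) (coe_smul_sylow d⁻¹ Q ▸ hg)

end Cfsg.Agent.C3
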