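import Cfsg.Agent.C3.Sig

/-! Canonical extensions from the `p`-residual, and field automorphisms. -/

set_option autoImplicit false

namespace Cfsg.Agent.C3

open Cfsg H3 H2 B Subgroup Finset
open scoped ComplexConjugate

universe u

variable {p : ℕ} [hp : Fact p.Prime] {M : Ideal AlgInt} [hM : PMod p M]
variable {G : Type*} [Group G] [Finite G] {k : ℕ} {N : Subgroup G}

omit hM in
theorem coprime_of_pow {a : ℕ} (ha : ¬ p ∣ a) (hk₁ : ∀ g : G, (∃ j, orderOf g = p ^ j) → g ^ k = g ^ a)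
    (hk₂ : ∀ g : G, ¬ p ∣ orderOf g → g ^ k = g) : k.Coprime (Nat.card G) :=
  Nat.coprime_of_dvd fun q a b c => by
    have := Fact.mk a
    obtain ⟨g, d⟩ := exists_prime_orderOf_dvd_card' q c
    have e := orderOf_dvd_iff_pow_eq_one.1 (d ▸ b)
    by_cases f : p = q
    · subst f
      rw [hk₁ g ⟨1, d.trans (pow_one _).symm⟩, ← orderOf_dvd_iff_pow_eq_one, d] at e
      exact ha e
    · rw [hk₂ g (by rwa [d, Nat.prime_dvd_prime_iff_eq hp.out a]), ← orderOf_eq_one_iff, d] at e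
      exact a.one_lt.ne' e

include hM in
theorem sg_mem_principal (hk : k.Coprime (Nat.card G)) {χ : IrrCharacter G} (h : χ ∈ principalBlock M G) :
    sg hk χ ∈ principalBlock M G :=
  closed_preimage_sg hk (isPBlock_principal (M := M)).closed (oneIrr G) (by
    rw [Set.mem_preimage, show sg hk (oneIrr G) = oneIrr G from rfl]; exact oneIrr_mem) χ
    ((isPBlock_principal.mem_iff oneIrr_mem).1 h)

include hM in
theorem conj_mem_principal {χ : IrrCharacter G} (h : χ ∈ principalBlock M G) :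
    (⟨_, χ.2.conj⟩ : IrrCharacter G) ∈ principalBlock M G := by
  have := Fintype.ofFinite G
  rw [mem_principal_iff] at h ⊢
  refine fun a => h ((map_eq_zero conj).1 (a ▸ (map_sum ..).trans (sum_congr rfl fun g _ => ?_)))
  by_cases b : p ∣ orderOf g <;> simp [reg_of_dvd, reg_of_not_dvd, b]

include hM in
theorem cjI_mem_principal [N.Normal] {θ : IrrCharacter N} (h : θ ∈ principalBlock M N) (g : G) :
    cjI g θ ∈ principalBlock M N := by
  rwa [← preimage_cmp_principal (M := M) (MulAut.conjNormal g)] at h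

include hM in
theorem under_mem_principal [N.Normal] [Fintype N] {χ : IrrCharacter G} (h : χ ∈ principalBlock M G) {θ : IrrCharacter N}
    (h1 : classInner (fun n : N => (χ : G → ℂ) n) θ ≠ 0) : θ ∈ principalBlock M N := by
  obtain ⟨g, a⟩ := mem_sat_of_lam_eq (M := M) isPBlock_principal.closed ((isPBlock_principal.mem_iff oneIrr_mem).1 h)
    (θ := oneIrr N) oneIrr_mem ((oneIrr G).2.le_charKer_iff.1 fun _ _ => mem_charKer.2 fun _ => rfl) h1
  rwa [← preimage_cmp_principal (M := M) (MulAut.conjNormal g)]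

theorem over_mem_principal [N.Normal] [Fintype N] {j : ℕ} (hj : N.index = p ^ j) {χ : IrrCharacter G} {θ : IrrCharacter N}
    (h : θ ∈ principalBlock M N) (h1 : classInner (fun n : N => (χ : G → ℂ) n) θ ≠ 0) : χ ∈ principalBlock M G :=
  (isPBlock_principal.mem_iff oneIrr_mem).2 (lam_eq_of_under (fun _ => reg_mem_of_index hj)
    ((isPBlock_principal.mem_iff oneIrr_mem).1 h) ((oneIrr G).2.le_charKer_iff.1
      fun _ _ => mem_charKer.2 fun _ => rfl) h1)

omit hp hM in
theorem detChar_pow {χ : G → ℂ} (h : IsCharacter G χ) (h' : IsCharacter G fun g => χ (g ^ k)) :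
    detChar (fun g => χ (g ^ k)) = detChar χ ^ k := by
  ext g
  obtain ⟨δ, a⟩ := h.exists_det
  have b := h.detChar_comp ((zpowers g).subtype.comp (@powMonoidHom _ (IsCyclic.commGroup).toCommMonoid k))
    ⟨g, mem_zpowers g⟩
  rw [← h'.detChar_res (zpowers g) ⟨g, mem_zpowers g⟩]
  exact b.trans (by simp [a])

omit hM in
theorem not_dvd_orderOf_linear (hres : pResidual p G = ⊤) (δ : G →* ℂˣ) : ¬ p ∣ orderOf δ := by
  obtain ⟨e, m, a, b⟩ := Nat.exists_eq_pow_mul_and_not_dvd (Nat.card_pos (α := G)).ne' p hp.out.ne_one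
  refine fun c => a (c.trans (orderOf_dvd_of_pow_eq_one (MonoidHom.ext fun g => ?_)))
  refine (hres.ge.trans (pResidual_le_iff.2 fun g d => ?_) : ⊤ ≤ (δ ^ m).ker) (mem_top g)
  rw [MonoidHom.mem_ker, MonoidHom.pow_apply, ← map_pow,
    orderOf_dvd_iff_pow_eq_one.1 ((d.pow_right e).dvd_of_dvd_mul_left (b ▸ orderOf_dvd_natCard g)), map_one]

omit hM in
theorem not_dvd_detOrder (hres : pResidual p G = ⊤) {χ : G → ℂ} (h : IsCharacter G χ) : ¬ p ∣ detOrder χ := by
  obtain ⟨δ, a⟩ := h.exists_det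
  rw [detOrder, a, orderOf_linear]
  exact not_dvd_orderOf_linear hres δ

omit hM in
theorem exists_canon {G : Type u} [Group G] [Finite G] {N : Subgroup G} [N.Normal] {j : ℕ} (hj : N.index = p ^ j)
    {θ : N → ℂ} (hθ : IsIrrCharacter N θ) (hinv : ∀ g : G, cjf g θ = θ)
    (hd : ¬ p ∣ charDegree θ) (ho : ¬ p ∣ detOrder θ) : ∃ χ, IsIrrCharacter G χ ∧ (∀ n : N, χ n = θ n) ∧
      detOrder χ = detOrder θ ∧ ∀ k : ℕ, k.Coprime (Nat.card G) → (∀ n, θ (n ^ k) = θ n) → ∀ g, χ (g ^ k) = χ g := by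
  have a : ∀ {n}, ¬ p ∣ n → N.index.Coprime n := fun h => hj ▸ (hp.out.coprime_iff_not_dvd.2 h).pow_left _
  obtain ⟨χ, ⟨b, c, d⟩, e⟩ := exists_canonical_ext hθ hinv (a hd) (a ho)
  refine ⟨χ, b, c, d, fun k f i => congrFun (e _ (b.comp_pow f) (fun n => by rw [← Subgroup.coe_pow, c, i]) (a fun l => ho ?_))⟩
  rw [detOrder, detChar_pow b.isCharacter (b.comp_pow f).isCharacter] at l
  exact d ▸ l.trans (orderOf_pow_dvd k)

omit hM in
theorem pResidual_pResidual : pResidual p (pResidual p G) = ⊤ := by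
  rw [pResidual_eq_top_iff, ← resOf_top, resOf_resOf]

omit hM in
theorem res_irr_of_not_dvd {G : Type u} [Group G] [Finite G] {N : Subgroup G} [N.Normal] {j : ℕ} (hj : N.index = p ^ j)
    {χ : G → ℂ} (hχ : IsIrrCharacter G χ) (hd : ¬ p ∣ charDegree χ) : IsIrrCharacter N fun n : N => χ n := by
  have := Fintype.ofFinite N
  obtain ⟨θ, a⟩ := exists_under ⟨χ, hχ⟩ N
  obtain ⟨e, b, c⟩ := hχ.exists_degree_eq θ.2 a
  obtain ⟨i, -, rfl⟩ := (Nat.dvd_prime_pow hp.out).1 (hj ▸ c)
  rw [← hχ.cast_charDegree, ← θ.2.cast_charDegree] at b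
  norm_cast at b
  obtain rfl : i = 0 := by_contra fun d => hd (b ▸ (dvd_pow_self p d).mul_right _)
  rw [(hχ.isCharacter.res N).eq_of_inner_ne_zero_of_degree θ.2 a (by
    rw [OneMemClass.coe_one, ← hχ.cast_charDegree, ← θ.2.cast_charDegree, b, pow_zero, one_mul])]
  exact θ.2

end Cfsg.Agent.C3
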