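import Cfsg.Agent.C3.FS1
import Cfsg.Agent.H2.PNil
import Cfsg.Agent.S3224
import Cfsg.Agent.S3116

/-! Simple fusion systems on semidihedral and wreathed groups. -/

namespace Cfsg.Agent.C3.FS

open Subgroup H9
open scoped commutatorElement

variable {G : Type*} [Group G] [Finite G]

theorem ab2 (hG : commutator G = ⊤) {S A : Subgroup G} (hs : Syl 2 S ⊤) (hA : A ≤ S)
    (hc : ∀ x ∈ A, ∀ y ∈ A, x * y = y * x) {w : G} (hw : w ∈ S) (hwA : w ∉ A) (hw2 : w * w = 1)
    (h1 : ∀ x ∈ S, x * w ∈ A ∨ x ∈ A)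
    (h2 : ∀ x ∈ A, ∀ y ∈ A, orderOf x = 2 → orderOf y = 2 → IsConj x y)
    (hN : normalizer (S : Set G) ≤ S ⊔ centralizer (S : Set G)) :
    (groupFusionSystem S).IsSimple 2 := by
  have hi : A.relIndex S = 2 := relIndex_eq_two_iff_exists_notMem_and.2 ⟨w, hw, hwA, h1⟩
  refine simple_of_one_class hs (fun h => hwA (by rw [h, mem_bot] at hw; rw [hw]; exact one_mem _))
    (pResidual_of_perfect hG) hN (fun x hx y hy ox oy => ?_) ?_
  · obtain ⟨u, hu, ou, cu⟩ := conj_into hG hs hA hi hx ox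
    obtain ⟨v, hv, ov, cv⟩ := conj_into hG hs hA hi hy oy
    exact cu.trans ((h2 u hu v hv ou ov).trans cv.symm)
  set L := closure {x | x ∈ S ∧ orderOf x = 2}
  have hL : ∀ g ∈ S, ∀ x ∈ L, g * x * g⁻¹ ∈ L := fun g hg x hx => by
    have : L ≤ L.comap (MulAut.conj g).toMonoidHom := (closure_le _).2 fun y hy =>
      subset_closure ⟨S.mul_mem (S.mul_mem hg hy.1) (S.inv_mem hg),
        ((MulAut.conj g).orderOf_eq y).trans hy.2⟩
    exact this hx
  have hwL : w ∈ L := subset_closure ⟨hw, orderOf_eq_prime (by rw [sq, hw2])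
    fun h => hwA (h ▸ one_mem _)⟩
  have h3 : ∀ x ∈ S, ∃ a ∈ A, ∃ l ∈ L, x = a * l := fun x hx => by
    rcases h1 x hx with h | h
    · exact ⟨_, h, w⁻¹, inv_mem hwL, by group⟩
    · exact ⟨x, h, 1, one_mem _, by group⟩
  refine commutator_le.2 fun x hx y hy => ?_
  obtain ⟨a, ha, l, hl, rfl⟩ := h3 x hx
  obtain ⟨b, hb, m, hm, rfl⟩ := h3 y hy
  have : ⁅a * l, b * m⁆ = (a * l * a⁻¹) * (a * b * (m * l⁻¹) * (a * b)⁻¹) *
      (b * m⁻¹ * b⁻¹) := by
    calc ⁅a * l, b * m⁆ = (a * l * a⁻¹) * (a * b * (m * l⁻¹) * (a * b)⁻¹) *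
        ((a * b) * a⁻¹ * m⁻¹ * b⁻¹) := by rw [commutatorElement_def]; group
      _ = _ := by rw [hc a ha b hb]; group
  rw [this]
  exact mul_mem (mul_mem (hL a (hA ha) l hl) (hL _ (mul_mem (hA ha) (hA hb)) _
    (mul_mem hm (inv_mem hl)))) (hL b (hA hb) _ (inv_mem hm))

theorem mem_of_norm {S : Subgroup G} (hs : Syl 2 S ⊤) {g : G} (hg : g ∈ normalizer (S : Set G))
    {k : ℕ} (hk : g ^ 2 ^ k = 1) : g ∈ S := by
  obtain ⟨P, rfl⟩ := hs.exists_sylow_top
  have h1 : IsPGroup 2 (zpowers g) := by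
    obtain ⟨j, -, hj⟩ := (Nat.dvd_prime_pow Nat.prime_two).1 (orderOf_dvd_of_pow_eq_one hk)
    exact IsPGroup.of_card (by rw [Nat.card_zpowers, hj])
  exact ((h1.inf_normalizer_sylow P).le ⟨mem_zpowers g, hg⟩).2

theorem norm_of_aut {S : Subgroup G} (hs : Syl 2 S ⊤) (h : IsPGroup 2 (MulAut S)) :
    normalizer (S : Set G) ≤ S ⊔ centralizer (S : Set G) := by
  intro g hg
  obtain ⟨a, b, e, ⟨k, hk⟩, hb⟩ := H2.exists_pparts (p := 2) g
  rw [← e]
  refine mul_mem (mem_sup_left (mem_of_norm hs (pow_mem hg a) hk)) (mem_sup_right fun x hx => ?_)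
  have h1 : S.normalizerMonoidHom ⟨g ^ b, pow_mem hg b⟩ = 1 := by
    obtain ⟨j, hj⟩ := IsPGroup.iff_orderOf.1 h (S.normalizerMonoidHom ⟨g ^ b, pow_mem hg b⟩)
    rw [← orderOf_eq_one_iff]
    refine Nat.eq_one_of_dvd_coprimes (hb.pow_right j) ?_ (hj ▸ dvd_rfl)
    exact (orderOf_map_dvd _ _).trans (by rw [← orderOf_coe])
  have h2 := congrArg Subtype.val (DFunLike.congr_fun h1 ⟨x, hx⟩)
  change g ^ b * x * (g ^ b)⁻¹ = x at h2
  exact (mul_inv_eq_iff_eq_mul.1 h2).symm

theorem cyc2 (hG : commutator G = ⊤) {S : Subgroup G} (hs : Syl 2 S ⊤) {a w : G} (ha : a ∈ S)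
    (hw : w ∈ S) (hwA : w ∉ zpowers a) (hw2 : w * w = 1) (hi : (zpowers a).relIndex S = 2)
    (h : IsPGroup 2 (MulAut S)) : (groupFusionSystem S).IsSimple 2 := by
  refine ab2 hG hs (zpowers_le.2 ha) ?_ hw hwA hw2 (fun x hx => ?_) (fun u hu v hv ou ov => ?_)
    (norm_of_aut hs h)
  · rintro _ ⟨i, rfl⟩ _ ⟨j, rfl⟩
    exact zpow_mul_comm a i j
  · have := (mul_mem_iff_of_index_two (H := (zpowers a).subgroupOf S) hi (a := ⟨x, hx⟩)
      (b := ⟨w, hw⟩))
    simp only [mem_subgroupOf, coe_mul] at this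
    by_cases hx : x ∈ zpowers a
    · exact Or.inr hx
    · exact Or.inl (this.2 (iff_of_false hx hwA))
  · rw [H4.eq_of_sq_eq_one_of_cyclic hu hv (by rintro rfl; simp at ou)
      (by rintro rfl; simp at ov) (by rw [← sq, ← ou, pow_orderOf_eq_one])
      (by rw [← sq, ← ov, pow_orderOf_eq_one])]

theorem maxclass (hG : commutator G = ⊤) {S : Subgroup G} (hs : Syl 2 S ⊤) (t : S)
    (ht : orderOf t = 2) (hC : Nat.card (centralizer ({t} : Set S)) = 4) (h4 : Nat.card S ≠ 4) :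
    (groupFusionSystem S).IsSimple 2 := by
  have h8 : 8 ≤ Nat.card S := by
    have h1 := (centralizer ({t} : Set S)).card_subgroup_dvd_card
    have h2 := Nat.card_pos (α := S)
    rw [hC] at h1
    omega
  rcases S3224.result hs.pg t ht hC with ⟨n, ⟨e⟩⟩ | h | h
  · have hn : 4 ≤ n := by
      rw [Nat.card_congr e.toEquiv, DihedralGroup.nat_card] at h8; omega
    have : NeZero n := ⟨by omega⟩
    have h1 : (e.symm (.sr 0)).1 ∉ zpowers (e.symm (.r 1)).1 := fun h => by
      obtain ⟨j, hj⟩ := mem_powers_iff_mem_zpowers.2 h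
      have : e.symm (.r 1) ^ j = e.symm (.sr 0) := Subtype.ext hj
      rw [← map_pow, DihedralGroup.r_one_pow] at this
      cases e.symm.injective this
    refine cyc2 hG hs (e.symm (.r 1)).2 (e.symm (.sr 0)).2 h1 ?_ ?_
      (S3116.result hs.pg (Or.inl ⟨n, hn, ⟨e⟩⟩))
    · rw [← coe_mul, ← map_mul, DihedralGroup.sr_mul_self, map_one, coe_one]
    · have := L.card_mul_relIndex (zpowers_le.2 (e.symm (.r 1)).2)
      rw [Nat.card_zpowers, orderOf_coe, e.symm.orderOf_eq, DihedralGroup.orderOf_r_one,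
        Nat.card_congr e.toEquiv, DihedralGroup.nat_card, mul_comm] at this
      exact Nat.eq_of_mul_eq_mul_right (by omega) this
  · have ha := S3116.result hs.pg (Or.inr h)
    obtain ⟨n, hn, hc, x, y, hx, hy, e⟩ := h
    refine cyc2 hG hs x.2 y.2 ?_ ?_ ?_ ha
    · rintro ⟨j, hj⟩
      have h1 : y = x ^ j := Subtype.ext (by simpa using hj.symm)
      have h2 : x ^ 1 = x ^ (2 ^ (n - 1) - 1) := by rw [← e, h1]; group
      rw [pow_eq_pow_iff_modEq, hx] at h2
      obtain ⟨m, rfl⟩ : ∃ m, n = m + 3 := ⟨n - 3, by omega⟩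
      have h3 : 0 < 2 ^ m := by positivity
      have := Nat.ModEq.eq_of_lt_of_lt h2 (by rw [pow_add]; omega)
        (by rw [show m + 3 - 1 = m + 2 by omega, pow_add, pow_add]; omega)
      rw [show m + 3 - 1 = m + 2 by omega, pow_add] at this
      omega
    · rw [← coe_mul, ← sq, ← hy, pow_orderOf_eq_one, coe_one]
    · have := L.card_mul_relIndex (zpowers_le.2 x.2)
      rw [Nat.card_zpowers, orderOf_coe, hx, hc, pow_succ] at this
      exact Nat.eq_of_mul_eq_mul_left (by positivity) this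
  · exact absurd h h4

theorem three (hG : commutator G = ⊤) {z t w u : G} (hz1 : z ≠ 1) (hz : z * z = 1) (ht : t * t = 1)
    (hw : w * w = 1) (hzt : z * t = t * z) (hwt : w * t * w⁻¹ = z * t) (hwz : w * z * w⁻¹ = z)
    (huz : u * z * u⁻¹ = t) (hut : u * t * u⁻¹ = z)
    (hD : ∀ x ∈ centralizer ({z, t} : Set G), ∀ y ∈ centralizer ({z, t} : Set G), x * y = y * x)
    (hI : ∀ x ∈ centralizer ({z, t} : Set G), x * x = 1 → x = 1 ∨ x = z ∨ x = t ∨ x = z * t)
    (S : Sylow 2 G) : (groupFusionSystem (S : Subgroup G)).IsSimple 2 := by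
  set D := centralizer ({z, t} : Set G) with hDd
  have mD : ∀ {x}, x ∈ D ↔ z * x = x * z ∧ t * x = x * t := by simp [hDd, mem_centralizer_iff]
  have zD : z ∈ D := mD.2 ⟨rfl, hzt.symm⟩
  have tD : t ∈ D := mD.2 ⟨hzt, rfl⟩
  have ht1 : t ≠ 1 := fun h => hz1 (by simpa [h] using hut.symm)
  have wi : w⁻¹ = w := inv_eq_of_mul_eq_one_right hw
  have hwt' : w * t ≠ t * w := fun h => hz1 (by
    rw [h, mul_inv_cancel_right] at hwt; simpa using hwt.symm)
  have hzt' : z ≠ t := fun h => hwt' (h ▸ mul_inv_eq_iff_eq_mul.1 hwz)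
  have hwzt : w * (z * t) * w⁻¹ = t := by
    calc w * (z * t) * w⁻¹ = (w * z * w⁻¹) * (w * t * w⁻¹) := by group
      _ = t := by rw [hwz, hwt, ← mul_assoc, hz, one_mul]
  -- conjugation preserving the four-group preserves `D`
  have cD : ∀ g a b : G, a ∈ closure ({z, t} : Set G) → b ∈ closure ({z, t} : Set G) →
      g * a * g⁻¹ = z → g * b * g⁻¹ = t → ∀ x ∈ D, g * x * g⁻¹ ∈ D := by
    intro g a b ha hb e1 e2 x hx
    rw [hDd, ← centralizer_closure] at hx
    refine mD.2 ⟨?_, ?_⟩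
    · rw [← e1]
      calc _ = g * (a * x) * g⁻¹ := by group
        _ = _ := by rw [hx a ha]; group
    · rw [← e2]
      calc _ = g * (b * x) * g⁻¹ := by group
        _ = _ := by rw [hx b hb]; group
  have zV : z ∈ closure ({z, t} : Set G) := subset_closure (by simp)
  have tV : t ∈ closure ({z, t} : Set G) := subset_closure (by simp)
  have wD := cD w z (z * t) zV (mul_mem zV tV) hwz hwzt
  have uD := cD u t z tV zV hut huz
  let A : Subgroup G :=
    { carrier := {x | x ∈ D ∧ ∃ k, x ^ 2 ^ k = 1}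
      one_mem' := ⟨one_mem _, 0, by simp⟩
      mul_mem' := by
        rintro a b ⟨ha, k, hk⟩ ⟨hb, l, hl⟩
        refine ⟨mul_mem ha hb, k + l, ?_⟩
        rw [Commute.mul_pow (hD a ha b hb), pow_add, pow_mul, hk, mul_comm (2 ^ k), pow_mul, hl]
        simp
      inv_mem' := fun ⟨ha, k, hk⟩ => ⟨inv_mem ha, k, by rw [inv_pow, hk, inv_one]⟩ }
  have hA : IsPGroup 2 A := fun ⟨x, _, k, hk⟩ => ⟨k, Subtype.ext hk⟩
  have zA : z ∈ A := ⟨zD, 1, by rw [pow_one, sq, hz]⟩
  have tA : t ∈ A := ⟨tD, 1, by rw [pow_one, sq, ht]⟩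
  have wA : w ∉ A := fun h => hwt' (mD.1 h.1).2.symm
  have wN : w ∈ normalizer (A : Set G) := mem_normalizer_of_finite fun x ⟨hx, k, hk⟩ =>
    ⟨wD x hx, k, by rw [conj_pow, hk]; simp⟩
  have wo : orderOf w = 2 := orderOf_eq_prime (by rw [sq, hw]) fun h => wA (h ▸ one_mem _)
  have hP : IsPGroup 2 (A ⊔ zpowers w : Subgroup G) := hA.to_sup_of_normal_left'
    (IsPGroup.of_card (n := 1) (by rw [Nat.card_zpowers, wo, pow_one])) (zpowers_le.2 wN)
  -- a central involution of a `2`-overgroup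
  have hZ : ∀ y : G, y ≠ 1 → y * y = 1 → z * y = y * z → t * y = y * t → w * y = y * w → y = z := by
    intro y h1 h2 h3 h4 h5
    rcases hI y (mD.2 ⟨h3, h4⟩) h2 with h | h | h | h
    · exact absurd h h1
    · exact h
    · exact absurd (h ▸ h5) hwt'
    · rw [h] at h5
      rw [h5, mul_inv_cancel_right] at hwzt
      exact absurd (by simpa using hwzt) hz1
  by_cases hx : ∃ x ∈ D, x * x = t
  · obtain ⟨x, xD, hx⟩ := hx
    have xA : x ∈ A := ⟨xD, 2, by rw [show 2 ^ 2 = 2 * 2 from rfl, pow_mul, sq, sq, hx, ht]⟩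
    set P : Subgroup G := A ⊔ zpowers w
    have mP : ∀ y ∈ P, y * w ∈ A ∨ y ∈ A := fun y hy => by
      obtain ⟨a, ha, _, ⟨j, rfl⟩, rfl⟩ := (mem_sup_of_le_normalizer' (zpowers_le.2 wN)).1 hy
      have hw' : w ^ 2 = 1 := by rw [sq, hw]
      rcases Int.even_or_odd' j with ⟨i, rfl | rfl⟩
      · right; simpa [zpow_mul, hw'] using ha
      · left; simpa [zpow_add, zpow_mul, hw', hw, mul_assoc] using ha
    have AP : A ≤ P := le_sup_left
    have wP : w ∈ P := mem_sup_right (mem_zpowers w)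
    have zc : ∀ y ∈ P, y * z = z * y := fun y hy => by
      rcases mP y hy with h | h
      · have := (mD.1 h.1).1
        calc y * z = y * (w * z * w⁻¹) := by rw [hwz]
          _ = (y * w * z) * w⁻¹ := by group
          _ = _ := by rw [← this]; group
      · exact (mD.1 h.1).1.symm
    have sq' : ∀ y ∈ P, y * y ∈ A := fun y hy => by
      rcases mP y hy with h | h
      · have := mul_mem h ((mem_normalizer_iff.1 wN _).1 h)
        rwa [show y * w * (w * (y * w) * w⁻¹) = y * (w * w) * y by group, hw, mul_one] at this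
      · exact mul_mem h h
    have nP : ∀ g ∈ normalizer (P : Set G), g ∈ D ∨ w * g ∈ D := fun g hg => by
      have c : ∀ y ∈ P, g * y * g⁻¹ ∈ P := fun y hy => (mem_normalizer_iff.1 hg y).1 hy
      have c' : ∀ y ∈ P, g⁻¹ * y * g ∈ P := fun y hy => by
        simpa using (mem_normalizer_iff.1 (inv_mem hg) y).1 hy
      have k : ∀ y ∈ P, y * (g * z * g⁻¹) = g * z * g⁻¹ * y := fun y hy => by
        calc _ = g * (g⁻¹ * y * g * z) * g⁻¹ := by group
          _ = _ := by rw [zc _ (c' y hy)]; group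
      have h1 : g * z * g⁻¹ = z := hZ _ (by simpa using hz1) (by simp [hz])
        (k z (AP zA)) (k t (AP tA)) (k w wP)
      have h2 : g * t * g⁻¹ ∈ A := by
        have := sq' _ (c x (AP xA))
        rwa [conj_mul, hx] at this
      rcases hI _ h2.1 (by simp [ht]) with h | h | h | h
      · exact absurd (by simpa using h) ht1
      · exact absurd (by simpa using h.trans h1.symm) hzt'.symm
      · exact Or.inl (mD.2 ⟨(mul_inv_eq_iff_eq_mul.1 h1).symm, (mul_inv_eq_iff_eq_mul.1 h).symm⟩)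
      · refine Or.inr (mD.2 ⟨(mul_inv_eq_iff_eq_mul.1 ?_).symm, (mul_inv_eq_iff_eq_mul.1 ?_).symm⟩)
        · calc _ = w * (g * z * g⁻¹) * w⁻¹ := by group
            _ = z := by rw [h1, hwz]
        · calc _ = w * (g * t * g⁻¹) * w⁻¹ := by group
            _ = t := by rw [h, hwzt]
    have nD : ∀ d ∈ D, d ∈ normalizer (P : Set G) → ∃ a ∈ A, ∃ b : ℕ, d = a * d ^ b ∧
        (orderOf (d ^ b)).Coprime 2 ∧ d ^ b ∈ centralizer (P : Set G) := fun d hd hn => by
      obtain ⟨a, b, e, hk, hb⟩ := H2.exists_pparts (p := 2) d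
      refine ⟨d ^ a, ⟨pow_mem hd a, hk⟩, b, e.symm, hb, ?_⟩
      have h1 := pow_mem hd b
      have h2 : d ^ b * (w * (d ^ b)⁻¹ * w⁻¹) = 1 := by
        have h3 : d ^ b * (w * (d ^ b)⁻¹ * w⁻¹) ∈ P := by
          simpa [mul_assoc] using mul_mem ((mem_normalizer_iff.1 (pow_mem hn b) w).1 wP) (inv_mem wP)
        obtain ⟨j, hj⟩ := hP ⟨_, h3⟩
        rw [← orderOf_eq_one_iff]
        refine Nat.eq_one_of_dvd_coprimes (hb.pow_right j) (orderOf_dvd_of_pow_eq_one ?_)
          (orderOf_dvd_of_pow_eq_one (congrArg Subtype.val hj))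
        rw [Commute.mul_pow (hD _ h1 _ (wD _ (inv_mem h1))), conj_pow, inv_pow, pow_orderOf_eq_one]
        simp
      have : P ≤ centralizer {d ^ b} := sup_le (fun y hy => mem_centralizer_singleton_iff.2
        (hD y hy.1 _ h1)) (zpowers_le.2 (mem_centralizer_singleton_iff.2 (by
          calc w * d ^ b = d ^ b * (w * (d ^ b)⁻¹ * w⁻¹) * w * d ^ b := by rw [h2, one_mul]
            _ = _ := by group)))
      exact fun y hy => mem_centralizer_singleton_iff.1 (this hy)
    have hs : Syl 2 P ⊤ := by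
      obtain ⟨Q, hQ⟩ := hP.exists_le_sylow
      have : P = Q := by
        by_contra hne
        have := Q.isPGroup'.isNilpotent
        obtain ⟨g, h1, h2⟩ := SetLike.exists_of_lt
          (L.lt_inf_normalizer_of_isNilpotent (lt_of_le_of_ne hQ hne))
        rcases nP g h1.2 with h | h
        · obtain ⟨k, hk⟩ := Q.isPGroup' ⟨g, h1.1⟩
          exact h2 (AP ⟨h, k, congrArg Subtype.val hk⟩)
        · obtain ⟨k, hk⟩ := Q.isPGroup' ⟨w * g, mul_mem (hQ wP) h1.1⟩
          exact h2 (by simpa using mul_mem (inv_mem wP) (AP ⟨h, k, congrArg Subtype.val hk⟩))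
      exact this ▸ syl_top Q
    refine simple_sylow hs (ab2 hG hs AP (fun a ha b hb => hD a ha.1 b hb.1) wP wA hw mP ?_
      fun g hg => ?_) S
    · have : ∀ a ∈ A, orderOf a = 2 → IsConj t a := fun a ha ho => by
        rcases hI a ha.1 (by rw [← sq, ← ho, pow_orderOf_eq_one]) with h | h | h | h
        · simp [h] at ho
        · exact isConj_iff.2 ⟨u, hut.trans h.symm⟩
        · rw [h]
        · exact isConj_iff.2 ⟨w, hwt.trans h.symm⟩
      exact fun a ha b hb oa ob => (this a ha oa).symm.trans (this b hb ob)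
    · have : ∀ d ∈ D, d ∈ normalizer (P : Set G) → d ∈ P ⊔ centralizer (P : Set G) := fun d hd hn => by
        obtain ⟨a, ha, b, e, -, h⟩ := nD d hd hn
        rw [e]
        exact mul_mem (mem_sup_left (AP ha)) (mem_sup_right h)
      rcases nP g hg with h | h
      · exact this g h hg
      · simpa using mul_mem (mem_sup_left (inv_mem wP)) (this _ h (mul_mem (le_normalizer wP) hg))
  · have hA2 : ∀ x ∈ A, x * x = 1 := by
      have h1 : ∀ x ∈ D, x * x * (x * x) = 1 → x * x = 1 := fun x xD h => by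
        rcases hI _ (mul_mem xD xD) h with e | e | e | e
        · exact e
        · exact absurd ⟨_, uD x xD, by rw [conj_mul, e, huz]⟩ hx
        · exact absurd ⟨_, xD, e⟩ hx
        · exact absurd ⟨_, wD x xD, by rw [conj_mul, e, hwzt]⟩ hx
      rintro x ⟨xD, k, hk⟩
      induction k generalizing x with
      | zero => simp [show x = 1 by simpa using hk]
      | succ k ih => exact h1 x xD (ih _ (mul_mem xD xD) (by rw [← sq, ← pow_mul, ← pow_succ', hk]))
    obtain ⟨Q, hQ⟩ := hP.exists_le_sylow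
    have zQ : z ∈ Q := hQ (mem_sup_left zA)
    have tQ : t ∈ Q := hQ (mem_sup_left tA)
    have wQ : w ∈ Q := hQ (mem_sup_right (mem_zpowers w))
    obtain ⟨y, -, ho, hy⟩ := SCl.exists_central (S := Q) (T := Q) ⟨le_rfl, fun _ _ _ h => h⟩
      Q.isPGroup' fun h => hz1 (mem_bot.1 (h ▸ zQ))
    obtain rfl := hZ y (by rintro rfl; simp at ho) (by rw [← sq, ← ho, pow_orderOf_eq_one])
      (hy z zQ) (hy t tQ) (hy w wQ)
    have hC : Nat.card (centralizer ({⟨t, tQ⟩} : Set Q)) = 4 := by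
      have : ((centralizer ({⟨t, tQ⟩} : Set Q) : Subgroup Q) : Set Q) =
          {1, ⟨y, zQ⟩, ⟨t, tQ⟩, ⟨y * t, mul_mem zQ tQ⟩} := by
        ext ⟨x, xQ⟩
        simp only [SetLike.mem_coe, mem_centralizer_singleton_iff, Set.mem_insert_iff,
          Set.mem_singleton_iff, Subtype.ext_iff, coe_mul, coe_one]
        constructor
        · intro h
          have xD : x ∈ D := mD.2 ⟨(hy x xQ).symm, h.symm⟩
          obtain ⟨k, hk⟩ := Q.isPGroup' ⟨x, xQ⟩
          exact hI x xD (hA2 x ⟨xD, k, congrArg Subtype.val hk⟩)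
        · rintro (rfl | rfl | rfl | rfl)
          · simp
          · exact hzt
          · rfl
          · rw [← mul_assoc, ← hzt]
      have h1 : y * t ≠ 1 := fun h => hzt' (by rw [← mul_one y, ← ht, ← mul_assoc, h, one_mul])
      rw [← SetLike.coe_sort_coe, this, Nat.card_coe_set_eq, Set.ncard_insert_of_notMem,
        Set.ncard_insert_of_notMem, Set.ncard_pair] <;>
      simp [Subtype.ext_iff, hz1, ht1, hzt', hz1.symm, ht1.symm, h1.symm]
    refine simple_sylow (syl_top Q) (maxclass hG (syl_top Q) ⟨t, tQ⟩ (orderOf_eq_prime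
      (Subtype.ext (by simpa [sq] using ht)) fun h => ht1 (congrArg Subtype.val h)) hC fun h => ?_) S
    have := eq_top_of_card_eq _ (hC.trans h.symm)
    have h2 : (⟨w, wQ⟩ : Q) ∈ centralizer ({⟨t, tQ⟩} : Set Q) := this ▸ mem_top _
    exact hwt' (congrArg Subtype.val (mem_centralizer_singleton_iff.1 h2))

section mat
open Matrix
open scoped MatrixGroups
variable {F : Type*} [Field F]

def mz : SL(3, F) := ⟨!![-1, 0, 0; 0, -1, 0; 0, 0, 1], by simp [det_fin_three]⟩
def mt : SL(3, F) := ⟨!![-1, 0, 0; 0, 1, 0; 0, 0, -1], by simp [det_fin_three]⟩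
def mw : SL(3, F) := ⟨!![0, 1, 0; 1, 0, 0; 0, 0, -1], by simp [det_fin_three]⟩
def mu : SL(3, F) := ⟨!![-1, 0, 0; 0, 0, 1; 0, 1, 0], by simp [det_fin_three]⟩

theorem dgn (h2 : (2 : F) ≠ 0) {x : SL(3, F)} (h : mz * x = x * mz) (h' : mt * x = x * mt) :
    x.1 = !![x.1 0 0, 0, 0; 0, x.1 1 1, 0; 0, 0, x.1 2 2] := by
  have k : ∀ a : F, -a = a → a = 0 := fun a ha =>
    (mul_eq_zero.1 (show 2 * a = 0 by linear_combination -ha)).resolve_left h2
  have a' : mz.1 * x.1 = x.1 * mz.1 := congrArg Subtype.val h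
  have b' : mt.1 * x.1 = x.1 * mt.1 := congrArg Subtype.val h'
  have a := fun i j => congrFun (congrFun a' i) j
  have b := fun i j => congrFun (congrFun b' i) j
  have a1 := a 0 2; have a2 := a 1 2; have a3 := a 2 0; have a4 := a 2 1
  have b1 := b 0 1; have b2 := b 1 0
  simp [mz, mt, mul_apply, Fin.sum_univ_three] at a1 a2 a3 a4 b1 b2
  ext i j
  fin_cases i <;> fin_cases j <;>
    simp [k _ a1, k _ a2, k _ a3.symm, k _ a4.symm, k _ b1, k _ b2.symm]

theorem sub3 [Finite F] (h2 : (2 : F) ≠ 0) (H : Subgroup SL(3, F)) (hG : commutator H = ⊤)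
    (hz : mz ∈ H) (ht : mt ∈ H) (hw : mw ∈ H) (hu : mu ∈ H) (S : Sylow 2 H) :
    (groupFusionSystem (S : Subgroup H)).IsSimple 2 := by
  have hn : (-1 : F) ≠ 1 := fun h => h2 (by linear_combination -h)
  have d : ∀ x ∈ centralizer ({⟨mz, hz⟩, ⟨mt, ht⟩} : Set H),
      x.1.1 = !![x.1.1 0 0, 0, 0; 0, x.1.1 1 1, 0; 0, 0, x.1.1 2 2] := fun x hx =>
    dgn h2 (congrArg Subtype.val (hx ⟨mz, hz⟩ (by simp)))
      (congrArg Subtype.val (hx ⟨mt, ht⟩ (by simp)))
  refine three hG (z := ⟨mz, hz⟩) (t := ⟨mt, ht⟩) (w := ⟨mw, hw⟩) (u := ⟨mu, hu⟩) (fun h => ?_)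
    ?_ ?_ ?_ ?_ (mul_inv_eq_iff_eq_mul.2 ?_) (mul_inv_eq_iff_eq_mul.2 ?_)
    (mul_inv_eq_iff_eq_mul.2 ?_) (mul_inv_eq_iff_eq_mul.2 ?_) (fun x hx y hy => ?_)
    (fun x hx h => ?_) S
  · exact hn (by simpa [mz] using congrArg (fun g : H => g.1.1 0 0) h)
  iterate 8
    refine Subtype.ext (Subtype.ext ?_)
    simp only [coe_mul, Matrix.SpecialLinearGroup.coe_mul, coe_one, Matrix.SpecialLinearGroup.coe_one]
    simp [mz, mt, mw, mu, one_fin_three]
  · refine Subtype.ext (Subtype.ext ?_)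
    change x.1.1 * y.1.1 = y.1.1 * x.1.1
    rw [d x hx, d y hy]
    simp [mul_comm]
  · have h1 : x.1.1 * x.1.1 = 1 := congrArg (fun g : H => g.1.1) h
    have h3 := x.1.2
    rw [d x hx] at h1 h3
    have a := congrFun (congrFun h1 0) 0
    have b := congrFun (congrFun h1 1) 1
    simp [det_fin_three, mul_self_eq_one_iff] at a b h3
    have e := d x hx
    rcases a with a | a <;> rcases b with b | b <;> rw [a, b] at h3 e <;>
      simp [neg_eq_iff_eq_neg] at h3 <;> rw [h3] at e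
    · exact Or.inl (Subtype.ext (Subtype.ext (by simp [e, one_fin_three])))
    · exact Or.inr (Or.inr (Or.inr (Subtype.ext (Subtype.ext (by
        change _ = mz.1 * mt.1
        simp [e, mz, mt])))))
    · exact Or.inr (Or.inr (Or.inl (Subtype.ext (Subtype.ext e))))
    · exact Or.inr (Or.inl (Subtype.ext (Subtype.ext e)))

end mat

theorem simple_quot {p : ℕ} [Fact p.Prime] (hZ : ¬ p ∣ Nat.card (center G))
    (h : ∀ S : Sylow p G, (groupFusionSystem (S : Subgroup G)).IsSimple p) (S : Sylow p (G ⧸ center G)) :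
    (groupFusionSystem (S : Subgroup (G ⧸ center G))).IsSimple p := by
  obtain ⟨P⟩ : Nonempty (Sylow p G) := inferInstance
  refine simple_of_hom (QuotientGroup.mk' _) (QuotientGroup.mk'_surjective _) (syl_top P)
    (fun x hx e => ?_) (h P) S
  obtain ⟨k, hk⟩ := IsPGroup.iff_orderOf.1 P.isPGroup' ⟨x, hx⟩
  rw [← orderOf_coe] at hk
  have := (center G).orderOf_dvd_natCard ((QuotientGroup.eq_one_iff x).1 e)
  rcases k with _ | k
  · simpa using hk
  · exact absurd ((dvd_pow_self p k.succ_ne_zero).trans (hk ▸ this)) hZ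

end Cfsg.Agent.C3.FS
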