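import Cfsg.Agent.H3.Orth
import Cfsg.Agent.H3.Brauer2
import Cfsg.Agent.BG.Defs

/-! The (relative) Glauberman correspondence for one operator. -/

set_option autoImplicit false

namespace Cfsg.Agent.C3

open Cfsg Subgroup H3 BG
open scoped ComplexConjugate commutatorElement

theorem sum_modEq_fixed {P X : Type*} [Group P] [Finite P] [Fintype X] [MulAction P X] {p : ℕ}
    (hp : p.Prime) (hP : IsPGroup p P) (f : X → ℕ) (hf : ∀ (g : P) x, f (g • x) = f x)
    [DecidablePred fun x : X => ∀ g : P, g • x = x] :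
    ∑ x, f x ≡ ∑ x with ∀ g : P, g • x = x, f x [MOD p] := by
  classical
  have := Fact.mk hp
  rw [← Finset.sum_filter_add_sum_filter_not _ fun x : X => ∀ g : P, g • x = x]
  refine (Nat.modEq_iff_dvd' (Nat.le_add_right _ _)).2 ?_ |>.symm
  rw [Nat.add_sub_cancel_left]
  refine dvd_sum_of_fibers _ (MulAction.orbit P) _ fun x hx => ?_
  have h1 := (Finset.mem_filter.1 hx).2
  have h2 : ∀ y, y ∈ (Finset.univ.filter fun x : X => ¬ ∀ g : P, g • x = x).filter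
      (fun y => MulAction.orbit P y = MulAction.orbit P x) ↔ y ∈ MulAction.orbit P x := fun y => by
    simp only [Finset.mem_filter, Finset.mem_univ, true_and, MulAction.orbit_eq_iff]
    refine and_iff_right_of_imp ?_
    rintro ⟨g, rfl⟩ h3
    exact h1 fun a => by simpa [mul_smul] using congrArg (g⁻¹ • ·) (h3 (g * a * g⁻¹))
  rw [Finset.sum_congr rfl (g := fun _ => f x) fun y hy => by
    obtain ⟨g, rfl⟩ := (h2 y).1 hy; exact hf g x, Finset.sum_const, smul_eq_mul,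
    ← Nat.card_eq_finsetCard]
  obtain ⟨k, hk⟩ := hP.card_orbit x
  rw [Nat.card_congr (Equiv.subtypeEquivRight h2), hk]
  refine (dvd_pow_self p ?_).mul_right _
  rintro rfl
  exact h1 fun g => Subtype.ext_iff.1 ((Nat.card_eq_one_iff_unique.1 hk).1.elim
    ⟨_, MulAction.mem_orbit x g⟩ ⟨x, MulAction.mem_orbit_self x⟩)

theorem eq_smul_of_norm_inner {X : Type*} [Group X] [Fintype X] {f e : X → ℂ} (h1 : ⟪f, f⟫ = 1)
    (h2 : ⟪e, e⟫ = 1) (h : ‖⟪f, e⟫‖ = 1) : f = ⟪f, e⟫ • e := by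
  rw [← sub_eq_zero, ← classInner_self_eq_zero, classInner_sub_smul_self h2, h1, Complex.mul_conj',
    h]
  simp

theorem isCyclic_quot {X : Type*} [Group X] {A : Subgroup X} [A.Normal] {s : X}
    (h : A ⊔ zpowers s = ⊤) : IsCyclic (X ⧸ A) :=
  isCyclic_iff_exists_zpowers_eq_top.2 ⟨s, by
    have := congrArg (Subgroup.map (QuotientGroup.mk' A)) h
    rwa [Subgroup.map_sup, H1.map_mk'_eq_bot_iff.2 le_rfl, bot_sup_eq, MonoidHom.map_zpowers,
      map_top_of_surjective _ (QuotientGroup.mk'_surjective A)] at this⟩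

theorem commutator_le_of_cyclic {X : Type*} [Group X] {A : Subgroup X} [A.Normal]
    (h : IsCyclic (X ⧸ A)) : commutator X ≤ A :=
  Normal.quotient_commutative_iff_commutator_le.1 inferInstance

theorem res_irr_of_ne_zero {X : Type*} [Group X] [Finite X] {A : Subgroup X} [A.Normal] {s a : X}
    (h : A ⊔ zpowers s = ⊤) {ξ : X → ℂ} (hξ : IsIrrCharacter X ξ) (ha : a ∈ A)
    (h0 : ξ (a * s) ≠ 0) : IsIrrCharacter A fun x : A => ξ x := by
  have := Fintype.ofFinite X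
  have := Fintype.ofFinite A
  obtain ⟨θ, h1, h2⟩ := hξ.exists_under A
  have h3 := h1.isClassFunction.le_inertia (G := X)
  have h4 := commutator_le_of_cyclic (isCyclic_quot h)
  have h5 : s ∈ inertia θ := by
    by_contra e
    obtain ⟨ψ, -, rfl, -⟩ := hξ.exists_clifford_corr h1 rfl h3 h2
    have : (inertia (G := X) θ).Normal := Normal.of_commutator_le X (h4.trans h3)
    exact h0 (indFun_eq_zero_of_not_mem _ fun c => e ((mul_mem_cancel_left (h3 ha)).1 c))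
  obtain ⟨η, b1, b2⟩ := exists_ext_of_cyclic h1 (inertia_eq_top_iff.1
    (top_le_iff.1 (h ▸ sup_le h3 (zpowers_le.2 h5)))) (isCyclic_quot h)
  obtain rfl : θ = fun x : A => η x := (funext b2).symm
  obtain ⟨β, c1, c2, rfl⟩ := hξ.exists_gallagher b1.isCharacter h1 h2
  convert h1 using 2 with x
  rw [Pi.mul_apply, apply_of_mem_charKer (c2 x.2), c1.degree_eq_one_iff.2 (h4.trans c2), one_mul]

variable {Γ : Type*} [Group Γ] {A B C D G N S P : Subgroup Γ} {s t : Γ} {F F' : Γ → ℂ} {p : ℕ}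

/-- `F` on the coset `A t`. -/
abbrev trl (A : Subgroup Γ) (t : Γ) (F : Γ → ℂ) : A → ℂ := fun a => F (a * t)
/-- `F` on the subgroup `B`. -/
abbrev rs (B : Subgroup Γ) (F : Γ → ℂ) : B → ℂ := fun b => F b
/-- Invariance under conjugation by `s`. -/
def CInv (s : Γ) (χ : A → ℂ) : Prop := ∀ g g' : A, (g' : Γ) = s * g * s⁻¹ → χ g' = χ g
/-- The multiplicity as a natural number. -/
noncomputable def mlt {X : Type*} [Group X] [Fintype X] (φ ψ : X → ℂ) : ℕ := ⌊⟪φ, ψ⟫.re⌋₊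

theorem mlt_eq {X : Type*} [Group X] [Fintype X] {φ ψ : X → ℂ} {m : ℕ} (h : ⟪φ, ψ⟫ = m) :
    mlt φ ψ = m := by simp [mlt, h]

theorem cast_mlt {X : Type*} [Group X] [Fintype X] {φ ψ : X → ℂ} (h : IsCharacter X φ)
    (h' : IsCharacter X ψ) : (mlt φ ψ : ℂ) = ⟪φ, ψ⟫ := by
  obtain ⟨m, hm⟩ := h.exists_nat_inner h'
  rw [mlt_eq hm, hm]

theorem trl_one : trl A 1 F = rs A F := funext fun a => by rw [trl, mul_one]

theorem rs_extend (θ : B → ℂ) : rs B (extendByZero B θ) = θ := funext (extendByZero_coe θ)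

theorem cInv_rs (hs : s ∈ B) (hA : A ≤ B) (h : IsClassFunction B (rs B F)) : CInv s (rs A F) :=
  fun g g' e => by rw [rs, e]; exact h.conj_apply ⟨g, hA g.2⟩ ⟨s, hs⟩

theorem sup_subgroupOf (A : Subgroup Γ) (s : Γ) (hs : s ∈ A ⊔ zpowers s) :
    A.subgroupOf (A ⊔ zpowers s) ⊔ zpowers ⟨s, hs⟩ = ⊤ :=
  map_injective (subtype_injective _) (by
    rw [Subgroup.map_sup, map_subgroupOf_eq_of_le le_sup_left, MonoidHom.map_zpowers,
      ← MonoidHom.range_eq_map, range_subtype]; rfl)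

theorem mem_sup_self (A : Subgroup Γ) (s : Γ) : s ∈ A ⊔ zpowers s := mem_sup_right (mem_zpowers s)

theorem sup_le_norm (hs : s ∈ 𝒩 A) : A ⊔ zpowers s ≤ 𝒩 A := sup_le le_normalizer (zpowers_le.2 hs)

variable [Finite Γ]

theorem inner_trl_eq_avg [Fintype A] [Fintype (A.subgroupOf B)] (hAB : A ≤ B) (b : B) :
    ⟪trl A b F, trl A b F'⟫ = avg (A.subgroupOf B) (fun x : B => F x * conj (F' x)) b := by
  rw [avg_apply, classInner_def, Nat.card_congr (subgroupOfEquivOfLe hAB).toEquiv]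
  congr 1
  exact (Fintype.sum_equiv (subgroupOfEquivOfLe hAB).toEquiv _ _ fun x => rfl).symm

theorem isCharacter_trl [Fintype A] (hAB : A ≤ B) (hn : B ≤ 𝒩 A) (h : IsCharacter B (rs B F))
    (h' : IsCharacter B (rs B F')) : IsCharacter B fun b : B => ⟪trl A b F, trl A b F'⟫ := by
  have := (normal_subgroupOf_iff_le_normalizer hAB).2 hn
  have := Fintype.ofFinite (A.subgroupOf B)
  simp only [inner_trl_eq_avg hAB]
  exact (h.mul h'.conj).avg

theorem inner_trl_self [Fintype A] (hAB : A ≤ B) (hn : B ≤ 𝒩 A) (h : IsCharacter B (rs B F))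
    (h' : IsIrrCharacter A (rs A F)) (ht : t ∈ B) : ⟪trl A t F, trl A t F⟫ = 1 := by
  have := (normal_subgroupOf_iff_le_normalizer hAB).2 hn
  have := Fintype.ofFinite (A.subgroupOf B)
  exact (inner_trl_eq_avg hAB ⟨t, ht⟩).trans
    (congrFun (avg_mul_conj_self h (h'.toSubOf hAB)) ⟨t, ht⟩)

theorem inner_trl_eq_zero [Fintype A] (hAB : A ≤ B) (hn : B ≤ 𝒩 A) (h : IsCharacter B (rs B F))
    (h' : IsCharacter B (rs B F')) (h0 : ⟪rs A F, rs A F'⟫ = 0) (ht : t ∈ B) :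
    ⟪trl A t F, trl A t F'⟫ = 0 :=
  congrFun ((isCharacter_trl hAB hn h h').eq_zero_of_apply_one
    (by rw [OneMemClass.coe_one, trl_one, trl_one, h0])) ⟨t, ht⟩

theorem exists_ext (hs : s ∈ 𝒩 A) {β : A → ℂ} (h : IsIrrCharacter A β) (hi : CInv s β) :
    ∃ E : Γ → ℂ, IsCharacter ↥(A ⊔ zpowers s) (rs _ E) ∧ rs A E = β := by
  have := (normal_subgroupOf_iff_le_normalizer le_sup_left).2 (sup_le_norm hs)
  have h1 := sup_subgroupOf A s (mem_sup_self A s)
  have h2 := h.toSubOf (le_sup_left : A ≤ A ⊔ zpowers s)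
  obtain ⟨η, b1, b2⟩ := exists_ext_of_cyclic h2 (inertia_eq_top_iff.1 (top_le_iff.1 (h1 ▸ sup_le
    h2.isClassFunction.le_inertia (zpowers_le.2 (mem_inertia'.2 fun n => hi _ _ rfl)))))
    (isCyclic_quot h1)
  exact ⟨extendByZero _ η, by rw [rs_extend]; exact b1.isCharacter, funext fun a =>
    (extendByZero_of_mem _ (mem_sup_left a.2)).trans (b2 ⟨⟨a, mem_sup_left a.2⟩, a.2⟩)⟩

/-- A class function which is not orthogonal to `φ` on the coset `C s` can be replaced by an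
extension of an irreducible character. -/
theorem exists_ext_of_inner [Fintype C] (hs : s ∈ 𝒩 A) (hC : C ≤ A)
    (h : IsClassFunction ↥(A ⊔ zpowers s) (rs _ F)) {φ : C → ℂ} (h0 : ⟪trl C s F, φ⟫ ≠ 0) :
    ∃ E : Γ → ℂ, IsCharacter ↥(A ⊔ zpowers s) (rs _ E) ∧ IsIrrCharacter A (rs A E) ∧
      ⟪trl C s E, φ⟫ ≠ 0 := by
  have := (normal_subgroupOf_iff_le_normalizer le_sup_left).2 (sup_le_norm hs)
  have := Fintype.ofFinite ↥(A ⊔ zpowers s)
  have hm : ∀ c : C, (c : Γ) * s ∈ A ⊔ zpowers s := fun c =>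
    mul_mem (mem_sup_left (hC c.2)) (mem_sup_self A s)
  have h1 : trl C s F = ∑ ξ : IrrCharacter ↥(A ⊔ zpowers s),
      ⟪rs _ F, ξ.1⟫ • trl C s (extendByZero _ ξ.1) := funext fun c => by
    rw [Finset.sum_apply]
    exact (h.apply_eq_sum_irr ⟨_, hm c⟩).trans (Finset.sum_congr rfl fun ξ _ => by
      rw [Pi.smul_apply, trl, extendByZero_of_mem _ (hm c), smul_eq_mul])
  rw [h1, classInner_sum_left] at h0
  obtain ⟨ξ, -, h2⟩ := Finset.exists_ne_zero_of_sum_ne_zero h0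
  rw [classInner_smul_left] at h2
  have h3 := right_ne_zero_of_mul h2
  obtain ⟨c, hc⟩ : ∃ c, trl C s (extendByZero _ ξ.1) c ≠ 0 := by
    by_contra! e; exact h3 (by rw [funext e]; exact classInner_zero_left _)
  rw [trl, extendByZero_of_mem _ (hm c)] at hc
  refine ⟨_, by rw [rs_extend]; exact ξ.2.isCharacter, ?_, h3⟩
  convert (res_irr_of_ne_zero (a := ⟨c, mem_sup_left (hC c.2)⟩)
    (sup_subgroupOf A s (mem_sup_self A s)) ξ.2 (hC c.2) hc).ofSubOf le_sup_left using 1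
  exact funext fun a => extendByZero_of_mem _ (mem_sup_left a.2)

theorem inner_trl_eq_of [Fintype G] [Fintype C] (hC : C ≤ G) (hB : G ≤ B) (ht : t ∈ B) (hn : t ∈ 𝒩 G)
    (H : ∀ z ∈ G, ∀ c ∈ C, ∀ c' ∈ C, z * (c * t) * z⁻¹ = c' * t → z ∈ C)
    (h : IsClassFunction B (rs B F)) (h' : IsClassFunction B (rs B F')) :
    ⟪trl G t F, trl G t F'⟫ = ⟪trl C t F, trl C t F'⟫ := by
  classical
  let E : G × C → G := fun x => ⟨x.1 * x.2 * (t * (x.1 : Γ)⁻¹ * t⁻¹), mul_mem (mul_mem x.1.2 (hC x.2.2))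
    ((mem_normalizer_iff.1 hn _).1 (inv_mem x.1.2))⟩
  have hE : ∀ x, (E x : Γ) * t = x.1 * (x.2 * t) * (x.1 : Γ)⁻¹ := fun x => by simp only [E]; group
  have h1 : ∀ g, (Finset.univ.filter fun x => E x = g).card ≤ Fintype.card C := fun g => by
    rcases (Finset.univ.filter fun x => E x = g).eq_empty_or_nonempty with e | ⟨y, hy⟩
    · simp [e]
    have h2 : ∀ x ∈ Finset.univ.filter fun x => E x = g,
        ((y.1 : Γ)⁻¹ * x.1) * (x.2 * t) * ((y.1 : Γ)⁻¹ * x.1)⁻¹ = y.2 * t := fun x hx => by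
      have := (hE x).symm.trans ((congrArg (fun u : G => (u : Γ) * t) ((Finset.mem_filter.1 hx).2.trans
        (Finset.mem_filter.1 hy).2.symm)).trans (hE y))
      calc _ = (y.1 : Γ)⁻¹ * (x.1 * (x.2 * t) * (x.1 : Γ)⁻¹) * y.1 := by group
        _ = _ := by rw [this]; group
    have h3 := fun x hx => H _ (mul_mem (inv_mem y.1.2) x.1.2) _ x.2.2 _ y.2.2 (h2 x hx)
    refine Finset.card_le_card_of_injOn
      (fun x => if e : ((y.1 : Γ)⁻¹ * x.1) ∈ C then ⟨_, e⟩ else 1)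
      (fun _ _ => Finset.mem_univ _) fun x hx x' hx' e => ?_
    simp only [dif_pos (h3 x hx), dif_pos (h3 x' hx'), Subtype.mk.injEq] at e
    have h4 := (h2 x hx).trans (h2 x' hx').symm
    rw [e] at h4
    exact Prod.ext (Subtype.ext (mul_left_cancel e)) (Subtype.ext (by simpa using h4))
  have h2 := (Finset.sum_eq_sum_iff_of_le fun g _ => h1 g).1 (by
    rw [← Finset.card_eq_sum_card_fiberwise fun _ _ => Finset.mem_univ _]; simp)
  have h4 := Finset.sum_fiberwise Finset.univ E fun x => F (x.2 * t) * conj (F' (x.2 * t))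
  have h5 : ∀ g : G, ∑ x with E x = g, F (x.2 * t) * conj (F' (x.2 * t)) =
      Fintype.card C * (F (g * t) * conj (F' (g * t))) := fun g => by
    rw [← h2 g (Finset.mem_univ _), ← nsmul_eq_mul, ← Finset.sum_const]
    refine Finset.sum_congr rfl fun x hx => ?_
    have c1 := h.conj_apply ⟨_, mul_mem (hB (hC x.2.2)) ht⟩ ⟨_, hB x.1.2⟩
    have c2 := h'.conj_apply ⟨_, mul_mem (hB (hC x.2.2)) ht⟩ ⟨_, hB x.1.2⟩
    rw [← (Finset.mem_filter.1 hx).2, hE]
    exact (congrArg₂ (fun a b => a * conj b) c1 c2).symm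
  simp only [h5, Finset.sum_const, Fintype.sum_prod_type, nsmul_eq_mul,
    ← Finset.mul_sum, Finset.card_univ, ← Nat.card_eq_fintype_card] at h4
  rw [classInner_def, classInner_def, inv_mul_eq_iff_eq_mul₀ card_ne_zero, mul_left_comm,
    eq_inv_mul_iff_mul_eq₀ card_ne_zero, h4]

/-- `P` acts on `G / N` with fixed points `C / N`. -/
structure Act (G N P C : Subgroup Γ) : Prop where
  le : N ≤ G
  gn : G ≤ 𝒩 N
  pg : P ≤ 𝒩 G
  pn : P ≤ 𝒩 N
  mem : ∀ k, k ∈ C ↔ k ∈ G ∧ ∀ x ∈ P, x * k * x⁻¹ * k⁻¹ ∈ N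

omit [Finite Γ] in
theorem exists_act (h1 : N ≤ G) (h2 : G ≤ 𝒩 N) (h3 : P ≤ 𝒩 G) (h4 : P ≤ 𝒩 N) : ∃ C, Act G N P C :=
  ⟨{ carrier := {k | k ∈ G ∧ ∀ x ∈ P, x * k * x⁻¹ * k⁻¹ ∈ N}
     one_mem' := ⟨one_mem _, fun x _ => by simp⟩
     mul_mem' := fun {a b} ha hb => ⟨mul_mem ha.1 hb.1, fun x hx => by
       convert mul_mem (ha.2 x hx) ((mem_normalizer_iff.1 (h2 ha.1) _).1 (hb.2 x hx)) using 1; group⟩
     inv_mem' := fun {a} ha => ⟨inv_mem ha.1, fun x hx => by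
       convert (mem_normalizer_iff.1 (h2 (inv_mem ha.1)) _).1 (inv_mem (ha.2 x hx)) using 1; group⟩ },
    h1, h2, h3, h4, fun _ => Iff.rfl⟩

namespace Act

omit [Finite Γ]

theorem cle (h : Act G N P C) : C ≤ G := fun k hk => ((h.mem k).1 hk).1

theorem nle (h : Act G N P C) : N ≤ C := fun k hk => (h.mem k).2 ⟨h.le hk, fun _ hx =>
  mul_mem ((mem_normalizer_iff.1 (h.pn hx) _).1 hk) (inv_mem hk)⟩

theorem conj_mem (h : Act G N P C) (hs : s ∈ P) {c : Γ} (hc : c ∈ C) : s * c * s⁻¹ ∈ C := by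
  simpa using mul_mem (h.nle (((h.mem c).1 hc).2 s hs)) hc

theorem pc (h : Act G N P C) : P ≤ 𝒩 C := fun s hs => mem_normalizer_iff.2 fun c =>
  ⟨h.conj_mem hs, fun hc => by simpa [mul_assoc] using h.conj_mem (inv_mem hs) hc⟩

theorem self (h : Act G N P C) : Act C N P C :=
  ⟨h.nle, h.cle.trans h.gn, h.pc, h.pn, fun k => ⟨fun a => ⟨a, ((h.mem k).1 a).2⟩, fun a => a.1⟩⟩

theorem of_le (h : Act G N P C) (h1 : C ≤ D) (h2 : D ≤ G) (h3 : P ≤ 𝒩 D) : Act D N P C :=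
  ⟨h.nle.trans h1, h2.trans h.gn, h3, h.pn, fun k => ⟨fun a => ⟨h1 a, ((h.mem k).1 a).2⟩,
    fun a => (h.mem k).2 ⟨h2 a.1, a.2⟩⟩⟩

theorem mem_of (h : Act G N (zpowers s) C) {k : Γ} (hk : k ∈ G) (h1 : s * k * s⁻¹ * k⁻¹ ∈ N) :
    k ∈ C := by
  refine (h.mem k).2 ⟨hk, fun x hx => ?_⟩
  have hs := h.pn (mem_zpowers s)
  obtain ⟨n, rfl⟩ := hx
  induction n using Int.induction_on with
  | zero => simp
  | succ n ih =>
    convert mul_mem ((mem_normalizer_iff.1 hs _).1 ih) h1 using 1; group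
  | pred n ih =>
    convert (mem_normalizer_iff.1 (inv_mem hs) _).1 (mul_mem ih (inv_mem h1)) using 1; group

theorem mem_of_conj [Finite Γ] (h : Act G N (zpowers s) C) (hc : (orderOf s).Coprime (N.relIndex G)) :
    ∀ z ∈ G, ∀ c ∈ C, ∀ c' ∈ C, z * (c * s) * z⁻¹ = c' * s → z ∈ C := by
  intro z hz c h1 c' h2 e
  obtain ⟨k, k1, k2⟩ := Nat.chineseRemainder hc 1 0
  have hs := h.pn (mem_zpowers s)
  have key : ∀ c ∈ C, (c * s) ^ k * s⁻¹ ∈ N := fun c h1 => by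
    have a1 : ∀ n, (c * s) ^ n * (c ^ n * s ^ n)⁻¹ ∈ N := fun n => by
      induction n with
      | zero => simp
      | succ n ih =>
        have b1 := ((h.mem c).1 h1).2 _ (pow_mem (mem_zpowers s) n)
        convert mul_mem ih ((mem_normalizer_iff.1 (h.gn (pow_mem (h.cle h1) n)) _).1 b1) using 1
        simp only [pow_succ, mul_inv_rev, mul_assoc, inv_mul_cancel_left, mul_inv_cancel_left]
    have := (normal_subgroupOf_iff_le_normalizer h.le).2 h.gn
    have a2 : c ^ k ∈ N := by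
      obtain ⟨j, rfl⟩ := Nat.modEq_zero_iff_dvd.1 k2
      rw [pow_mul]
      exact pow_mem ((N.subgroupOf G).pow_index_mem ⟨c, h.cle h1⟩ : _ ∈ N) j
    have := mul_mem (a1 k) a2
    rw [pow_eq_pow_iff_modEq.2 k1, pow_one] at this
    convert this using 1; group
  refine h.mem_of hz ?_
  have a3 := key c' h2
  rw [← e, conj_pow] at a3
  convert mul_mem (inv_mem a3) ((mem_normalizer_iff.1 (h.gn hz) _).1 (key c h1)) using 1; group

end Act

/-- The hypotheses for one operator. -/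
structure One (G C : Subgroup Γ) (s : Γ) : Prop where
  le : C ≤ G
  ng : s ∈ 𝒩 G
  nc : s ∈ 𝒩 C
  ti : ∀ t, zpowers t = zpowers s → ∀ z ∈ G, ∀ c ∈ C, ∀ c' ∈ C, z * (c * t) * z⁻¹ = c' * t → z ∈ C

theorem Act.one (h : Act G N (zpowers s) C) (hc : (orderOf s).Coprime (N.relIndex G)) : One G C s :=
  ⟨h.cle, h.pg (mem_zpowers s), h.pc (mem_zpowers s), fun t e => (e ▸ h).mem_of_conj (by
    rwa [← Nat.card_zpowers, e, Nat.card_zpowers])⟩

/-- `F` extends an irreducible character of `A` to `A ⟨s⟩`. -/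
structure Ext (A : Subgroup Γ) (s : Γ) (F : Γ → ℂ) : Prop where
  char : IsCharacter ↥(A ⊔ zpowers s) (rs _ F)
  irr : IsIrrCharacter A (rs A F)

theorem zpowers_pow_coprime {k : ℕ} (h : k.Coprime (orderOf s)) : zpowers (s ^ k) = zpowers s :=
  eq_of_le_of_card_ge (zpowers_le.2 (pow_mem (mem_zpowers s) k)) (by
    rw [Nat.card_zpowers, Nat.card_zpowers, h.symm.orderOf_pow])

namespace One
variable [Fintype C] {E E' : Γ → ℂ}

omit [Finite Γ] [Fintype C] in
theorem sup_le (h : One G C s) : C ⊔ zpowers s ≤ G ⊔ zpowers s := sup_le_sup_right h.le _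

theorem inner_eq [Fintype G] (h : One G C s) (hF : IsClassFunction ↥(G ⊔ zpowers s) (rs _ F))
    (hF' : IsClassFunction ↥(G ⊔ zpowers s) (rs _ F')) (e : zpowers t = zpowers s) :
    ⟪trl G t F, trl G t F'⟫ = ⟪trl C t F, trl C t F'⟫ :=
  inner_trl_eq_of h.le le_sup_left (mem_sup_right (e ▸ mem_zpowers t))
    (zpowers_le.2 h.ng (e ▸ mem_zpowers t)) (h.ti t e) hF hF'

theorem inner_self (h : One G C s) (hF : Ext G s F) (e : zpowers t = zpowers s) :
    ⟪trl C t F, trl C t F⟫ = 1 :=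
  have := Fintype.ofFinite G
  (h.inner_eq hF.char.isClassFunction hF.char.isClassFunction e).symm.trans
    (inner_trl_self le_sup_left (sup_le_norm h.ng) hF.char hF.irr (mem_sup_right (e ▸ mem_zpowers t)))

theorem inner_self' (h : One G C s) (hE : Ext C s E) (ht : t ∈ zpowers s) :
    ⟪trl C t E, trl C t E⟫ = 1 :=
  inner_trl_self le_sup_left (sup_le_norm h.nc) hE.char hE.irr (mem_sup_right ht)

theorem char (h : One G C s) (hF : Ext G s F) (hE : Ext C s E) :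
    IsCharacter ↥(C ⊔ zpowers s) fun b => ⟪trl C b F, trl C b E⟫ :=
  isCharacter_trl le_sup_left (sup_le_norm h.nc) (hF.char.resLe h.sup_le) hE.char

theorem zero_or_one (h : One G C s) (hF : Ext G s F) (hE : Ext C s E) :
    ⟪trl C s F, trl C s E⟫ = 0 ∨ ‖⟪trl C s F, trl C s E⟫‖ = 1 := by
  have h1 := h.char hF hE
  refine eq_zero_or_norm_eq_one (h1.isIntegral ⟨s, mem_sup_self C s⟩) fun σ => ?_
  obtain ⟨k, h2, h3⟩ := exists_pow_galois ↥(C ⊔ zpowers s) σ.toRingHom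
  have h4 : σ ⟪trl C s F, trl C s E⟫ = ⟪trl C (s ^ k) F, trl C (s ^ k) E⟫ :=
    h3 _ h1.isGen ⟨s, mem_sup_self C s⟩
  have h5 := zpowers_pow_coprime (h2.coprime_dvd_right ((C ⊔ zpowers s).orderOf_dvd_natCard
    (mem_sup_self C s)))
  have h6 := norm_inner_sq_le_mul (trl C (s ^ k) F) (trl C (s ^ k) E)
  rw [nrm_eq_one (h.inner_self hF h5), nrm_eq_one (h.inner_self' hE (pow_mem (mem_zpowers s) k)),
    mul_one, sq_le_one_iff₀ (norm_nonneg _)] at h6
  rwa [h4]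

theorem eq_smul (h : One G C s) (hF : Ext G s F) (hE : Ext C s E) (h0 : ⟪trl C s F, trl C s E⟫ ≠ 0) :
    trl C s F = ⟪trl C s F, trl C s E⟫ • trl C s E :=
  eq_smul_of_norm_inner (h.inner_self hF rfl) (h.inner_self' hE (mem_zpowers s))
    ((h.zero_or_one hF hE).resolve_left h0)

theorem uniq (h : One G C s) (hF : Ext G s F) (hE : Ext C s E) (hE' : Ext C s E')
    (h0 : ⟪trl C s F, trl C s E⟫ ≠ 0) (h1 : ⟪trl C s F, trl C s E'⟫ ≠ 0) : rs C E = rs C E' := by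
  by_contra e
  refine h1 ?_
  rw [h.eq_smul hF hE h0, classInner_smul_left, inner_trl_eq_zero le_sup_left (sup_le_norm h.nc)
    hE.char hE'.char (hE.irr.inner_of_ne hE'.irr e) (mem_sup_self C s), mul_zero]

theorem eq_of_inner (h : One G C s) (hF : Ext G s F) (hF' : Ext G s F')
    (h0 : ⟪trl C s F, trl C s F'⟫ ≠ 0) : rs G F = rs G F' := by
  by_contra e
  have := Fintype.ofFinite G
  exact h0 ((h.inner_eq hF.char.isClassFunction hF'.char.isClassFunction rfl).symm.trans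
    (inner_trl_eq_zero le_sup_left (sup_le_norm h.ng) hF.char hF'.char
      (hF.irr.inner_of_ne hF'.irr e) (mem_sup_self G s)))

theorem uniq' (h : One G C s) (hF : Ext G s F) (hF' : Ext G s F') (hE : Ext C s E)
    (h0 : ⟪trl C s F, trl C s E⟫ ≠ 0) (h1 : ⟪trl C s F', trl C s E⟫ ≠ 0) : rs G F = rs G F' := by
  refine h.eq_of_inner hF hF' ?_
  rw [h.eq_smul hF hE h0, classInner_smul_left]
  exact mul_ne_zero h0 fun e => h1 (classInner_eq_zero_comm.1 e)

theorem ex (h : One G C s) (hF : Ext G s F) : ∃ E, Ext C s E ∧ ⟪trl C s F, trl C s E⟫ ≠ 0 := by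
  obtain ⟨E, h1, h2, h3⟩ := exists_ext_of_inner (φ := trl C s F) h.nc le_rfl
    (hF.char.resLe h.sup_le).isClassFunction (by rw [h.inner_self hF rfl]; exact one_ne_zero)
  exact ⟨E, ⟨h1, h2⟩, fun e => h3 (classInner_eq_zero_comm.1 e)⟩

theorem ex_of (h : One G C s) {φ : C → ℂ} (h0 : φ ≠ 0)
    (hφ : ∀ d ∈ C ⊔ zpowers s, ∀ c c' : C, d * (c * s) * d⁻¹ = c' * s → φ c = φ c') :
    ∃ F, Ext G s F ∧ ⟪trl C s F, φ⟫ ≠ 0 := by
  classical
  have h1 : ∀ d ∈ G ⊔ zpowers s, ∀ c c' : C, d * (c * s) * d⁻¹ = c' * s → φ c = φ c' := by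
    intro d hd c c' e
    obtain ⟨z, hz, x, hx, rfl⟩ := (H1.mem_sup_right_norm (zpowers_le.2 h.ng)).1 hd
    have a1 : x * c * x⁻¹ ∈ C := (mem_normalizer_iff.1 (zpowers_le.2 h.nc hx) _).1 c.2
    have a2 : x * s = s * x := by obtain ⟨n, rfl⟩ := hx; group
    refine hφ _ (mul_mem (mem_sup_left (h.ti s rfl z hz _ a1 _ c'.2 ?_)) (mem_sup_right hx)) _ _ e
    rw [← e, mul_assoc (x * c), (Commute.inv_left a2).eq]; group
  let Q : Γ → C → Prop := fun g c => ∃ d ∈ G ⊔ zpowers s, d * g * d⁻¹ = c * s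
  let F : Γ → ℂ := fun g => if e : ∃ c, Q g c then φ e.choose else 0
  have h2 : ∀ g c, Q g c → F g = φ c := fun g c e => by
    have e' : ∃ c, Q g c := ⟨c, e⟩
    obtain ⟨d, hd, a1⟩ := e
    obtain ⟨d', hd', a2⟩ := e'.choose_spec
    simp only [F, dif_pos e']
    exact h1 _ (mul_mem hd (inv_mem hd')) _ _ (by rw [← a1, ← a2]; group)
  have h3 : trl C s F = φ := funext fun c => h2 _ c ⟨1, one_mem _, by simp⟩
  obtain ⟨E, a1, a2, a3⟩ := exists_ext_of_inner (F := F) (φ := φ) h.ng h.le (fun g x => by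
    change F ((x : Γ) * g * (x : Γ)⁻¹) = F g
    by_cases e : ∃ c, Q g c
    · obtain ⟨c, d, hd, a1⟩ := e
      rw [h2 g c ⟨d, hd, a1⟩, h2 _ c ⟨d * (x : Γ)⁻¹, mul_mem hd (inv_mem x.2), by rw [← a1]; group⟩]
    · have e' : ¬ ∃ c, Q ((x : Γ) * g * (x : Γ)⁻¹) c := fun ⟨c, d, hd, a1⟩ =>
        e ⟨c, d * x, mul_mem hd x.2, by rw [← a1]; group⟩
      simp only [F, dif_neg e, dif_neg e']) (by rwa [h3, Ne, classInner_self_eq_zero])
  exact ⟨E, ⟨a1, a2⟩, a3⟩

theorem ex' (h : One G C s) (hE : Ext C s E) : ∃ F, Ext G s F ∧ ⟪trl C s F, trl C s E⟫ ≠ 0 :=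
  h.ex_of (fun e => by simpa [e, classInner_zero_left] using h.inner_self' hE (mem_zpowers s))
    fun d hd c c' e => by
      rw [trl, trl, ← e]
      exact (hE.char.isClassFunction.conj_apply
        ⟨_, mul_mem (mem_sup_left c.2) (mem_sup_self C s)⟩ ⟨d, hd⟩).symm

theorem dvd_iff (h : One G C s) (hp : p.Prime) {k : ℕ} (hs : s ^ p ^ k = 1) (hF : Ext G s F)
    (hE : Ext C s E) : (⟪trl C s F, trl C s E⟫ ≠ 0 ↔ ¬ p ∣ mlt (rs C F) (rs C E)) ∧
      (¬ p ∣ mlt (rs C F) (rs C E) → mlt (rs C F) (rs C E) ^ 2 ≡ 1 [MOD p]) := by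
  obtain ⟨M, hM⟩ := exists_isPModular hp
  have h1 := h.char hF hE
  have h2 := h1.isGen.inM_sub hM (Commute.one_right ⟨s, mem_sup_self C s⟩) (k := k) (Subtype.ext hs)
  have h3 := h1.conj.isGen.inM_sub hM (Commute.one_right ⟨s, mem_sup_self C s⟩) (k := k)
    (Subtype.ext hs)
  have h4 := cast_mlt (hF.char.resLe (h.le.trans le_sup_left)) hE.irr.isCharacter
  simp only [mul_one, OneMemClass.coe_one, trl_one] at h2 h3
  erw [← h4] at h2 h3
  change InM M (_ - (mlt (rs C F) (rs C E) : ℂ)) at h2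
  change InM M (_ - conj (mlt (rs C F) (rs C E) : ℂ)) at h3
  have h5 := h1.isIntegral ⟨s, mem_sup_self C s⟩
  generalize mlt (rs C F) (rs C E) = m at *
  rcases h.zero_or_one hF hE with e | e
  · rw [e, zero_sub] at h2
    have := (inM_nat_iff hM).1 (by simpa using h2.neg)
    simp [e, this]
  have h6 : (p : ℤ) ∣ 1 - (m : ℤ) ^ 2 := by
    refine (inM_int_iff hM).1 ?_
    convert (h3.mul_left h5).add (h2.mul_left (isIntegral_nat m)) using 1
    rw [mul_sub, Complex.mul_conj', e]; simp; ring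
  have h7 : m ^ 2 ≡ 1 [MOD p] := Nat.modEq_iff_dvd.2 (by exact_mod_cast h6)
  refine ⟨⟨fun _ h8 => hp.one_lt.ne' ?_, fun _ h8 => by simp [h8] at e⟩, fun _ => h7⟩
  exact Nat.dvd_one.1 ((h7.dvd_iff dvd_rfl).1 (h8.pow two_ne_zero))

end One

end Cfsg.Agent.C3
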