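import Cfsg.Agent.C3.Glaub0

/-! The (relative) Glauberman correspondence for a `p`-group of operators. -/

set_option autoImplicit false

namespace Cfsg.Agent.C3

open Cfsg Subgroup H3 BG
open scoped ComplexConjugate commutatorElement

variable {Γ : Type*} [Group Γ] {A B C D G N S P Q : Subgroup Γ} {s x y : Γ} {p : ℕ}

/-- The conjugate function. -/
abbrev cn (hx : x ∈ 𝒩 A) (χ : A → ℂ) : A → ℂ :=
  fun a => χ ⟨x * a * x⁻¹, (mem_normalizer_iff.1 hx _).1 a.2⟩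

/-- Invariance under a group of operators. -/
def SInv (S : Subgroup Γ) (χ : A → ℂ) : Prop := ∀ s ∈ S, CInv s χ

/-- Invariant irreducible characters. -/
structure IrrI (S : Subgroup Γ) (χ : A → ℂ) : Prop where
  irr : IsIrrCharacter A χ
  inv : SInv S χ

section
variable {χ ψ θ : A → ℂ}

theorem cInv_iff (hx : x ∈ 𝒩 A) : CInv x χ ↔ cn hx χ = χ :=
  ⟨fun h => funext fun _ => h _ _ rfl, fun h g g' e => by
    rw [← congrFun h g]; exact congrArg χ (Subtype.ext e)⟩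

theorem cn_cn (hx : x ∈ 𝒩 A) (hy : y ∈ 𝒩 A) (χ : A → ℂ) :
    cn hx (cn hy χ) = cn (mul_mem hy hx) χ :=
  funext fun a => congrArg χ (Subtype.ext (by simp only [mul_assoc, mul_inv_rev]))

theorem cn_congr (hx : x ∈ 𝒩 A) (hy : y ∈ 𝒩 A) (e : x = y) (χ : A → ℂ) : cn hx χ = cn hy χ := by
  subst e; rfl

theorem cn_one (χ : A → ℂ) : cn (one_mem _) χ = χ := funext fun a => congrArg χ (by simp)

theorem cn_inv_cn (hx : x ∈ 𝒩 A) (χ : A → ℂ) : cn (inv_mem hx) (cn hx χ) = χ :=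
  (cn_cn ..).trans ((cn_congr _ _ (mul_inv_cancel x) χ).trans (cn_one χ))

theorem cn_cn_inv (hx : x ∈ 𝒩 A) (χ : A → ℂ) : cn hx (cn (inv_mem hx) χ) = χ :=
  (cn_cn ..).trans ((cn_congr _ _ (inv_mul_cancel x) χ).trans (cn_one χ))

theorem irr_cn (hx : x ∈ 𝒩 A) (h : IsIrrCharacter A χ) : IsIrrCharacter A (cn hx χ) :=
  h.comp_equiv (A.normalizerMonoidHom ⟨x, hx⟩)

theorem char_cn (hx : x ∈ 𝒩 A) (h : IsCharacter A χ) : IsCharacter A (cn hx χ) :=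
  h.comp (A.normalizerMonoidHom ⟨x, hx⟩).toMonoidHom

theorem inner_cn [Fintype A] (hx : x ∈ 𝒩 A) (χ ψ : A → ℂ) : ⟪cn hx χ, cn hx ψ⟫ = ⟪χ, ψ⟫ :=
  classInner_comp_equiv (A.normalizerMonoidHom ⟨x, hx⟩) χ ψ

theorem mlt_cn [Fintype A] (hx : x ∈ 𝒩 A) (χ ψ : A → ℂ) : mlt (cn hx χ) (cn hx ψ) = mlt χ ψ := by
  rw [mlt, inner_cn, mlt]

theorem cInv_of_mem (h : IsClassFunction A χ) (hx : x ∈ A) : CInv x χ := fun g g' e => by
  rw [← h.conj_apply g ⟨x, hx⟩]; exact congrArg χ (Subtype.ext e)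

/-- The inertia group in the ambient group. -/
def stab (χ : A → ℂ) : Subgroup Γ where
  carrier := {x | x ∈ 𝒩 A ∧ CInv x χ}
  one_mem' := ⟨one_mem _, (cInv_iff _).2 (cn_one χ)⟩
  mul_mem' := fun {a b} ha hb => ⟨mul_mem ha.1 hb.1, (cInv_iff _).2 (by
    rw [← cn_cn hb.1 ha.1, (cInv_iff _).1 ha.2, (cInv_iff _).1 hb.2])⟩
  inv_mem' := fun {a} ha => ⟨inv_mem ha.1, (cInv_iff _).2 (by
    conv_lhs => rw [← (cInv_iff ha.1).1 ha.2, cn_inv_cn])⟩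

theorem le_stab : S ≤ stab χ ↔ S ≤ 𝒩 A ∧ SInv S χ :=
  ⟨fun h => ⟨fun _ a => (h a).1, fun _ a => (h a).2⟩, fun h _ a => ⟨h.1 a, h.2 _ a⟩⟩

theorem self_le_stab (h : IsClassFunction A χ) : A ≤ stab χ :=
  fun _ a => ⟨le_normalizer a, cInv_of_mem h a⟩

theorem sInv_zpowers (hs : s ∈ 𝒩 A) (h : CInv s χ) : SInv (zpowers s) χ :=
  (le_stab.1 (zpowers_le.2 ⟨hs, h⟩)).2

theorem SInv.mono (h : SInv S χ) (h1 : P ≤ S) : SInv P χ := fun s hs => h s (h1 hs)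

theorem IrrI.mono (h : IrrI S χ) (h1 : P ≤ S) : IrrI P χ := ⟨h.irr, h.inv.mono h1⟩

theorem CInv.resLe (h : CInv s χ) (h1 : B ≤ A) : CInv s (resLe h1 χ) := fun _ _ e => h _ _ e

theorem SInv.cn_eq (h : SInv S χ) (hx : x ∈ S) (hn : x ∈ 𝒩 A) : cn hn χ = χ := (cInv_iff hn).1 (h x hx)

end

/-- The action on irreducible characters. -/
@[reducible] def irrAct (h : P ≤ 𝒩 A) : MulAction P (IrrCharacter A) where
  smul g χ := ⟨cn (inv_mem (h g.2)) χ.1, irr_cn _ χ.2⟩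
  one_smul χ := Subtype.ext ((cn_congr (inv_mem (one_mem _)) _ inv_one χ.1).trans (cn_one χ.1))
  mul_smul a b χ := Subtype.ext ((cn_congr (inv_mem (h (a * b).2)) _ (mul_inv_rev (a : Γ) b) χ.1).trans
    (cn_cn (inv_mem (h a.2)) (inv_mem (h b.2)) _).symm)

theorem irrAct_fix (h : P ≤ 𝒩 A) (χ : IrrCharacter A) :
    (∀ g : P, (irrAct h).smul g χ = χ) ↔ SInv P χ.1 :=
  ⟨fun e s hs => (cInv_iff (h hs)).2 ((cn_congr _ (inv_mem (inv_mem (h hs))) (inv_inv s).symm _).trans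
    (congrArg Subtype.val (e ⟨s⁻¹, inv_mem hs⟩))),
    fun e g => Subtype.ext (e.cn_eq (inv_mem g.2) (inv_mem (h g.2)))⟩

variable [Finite Γ]

open Classical in
theorem sum_irr_modEq (hp : p.Prime) (hP : IsPGroup p P) (h : P ≤ 𝒩 A) (f : (A → ℂ) → ℕ)
    (hf : ∀ x (hx : x ∈ P) χ, f (cn (h hx) χ) = f χ) :
    ∑ χ : IrrCharacter A, f χ ≡ ∑ χ : IrrCharacter A with SInv P χ.1, f χ [MOD p] := by
  letI := irrAct h
  convert sum_modEq_fixed hp hP (fun χ : IrrCharacter A => f χ) fun g χ => hf _ (inv_mem g.2) χ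
    using 4 with χ
  exact (irrAct_fix h χ).symm

theorem sum_modEq_single (hp : p.Prime) (hP : IsPGroup p P) (h : P ≤ 𝒩 A) (f : (A → ℂ) → ℕ)
    (hf : ∀ x (hx : x ∈ P) χ, f (cn (h hx) χ) = f χ) {β : A → ℂ} (hβ : IrrI P β)
    (h1 : ∀ γ, IrrI P γ → γ ≠ β → p ∣ f γ) : ∑ χ : IrrCharacter A, f χ ≡ f β [MOD p] := by
  classical
  refine (sum_irr_modEq hp hP h f hf).trans ?_
  rw [← Finset.add_sum_erase _ _ (a := ⟨β, hβ.irr⟩) (by simpa using hβ.inv)]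
  refine (Nat.modEq_iff_dvd' (Nat.le_add_right _ _)).2 ?_ |>.symm
  rw [Nat.add_sub_cancel_left]
  exact Finset.dvd_sum fun γ hγ => h1 _ ⟨γ.2, (Finset.mem_filter.1 (Finset.mem_of_mem_erase hγ)).2⟩
    fun e => Finset.ne_of_mem_erase hγ (Subtype.ext e)

theorem exists_irrI (hp : p.Prime) (hP : IsPGroup p P) (h : P ≤ 𝒩 A) (f : (A → ℂ) → ℕ)
    (hf : ∀ x (hx : x ∈ P) χ, f (cn (h hx) χ) = f χ) (h1 : ¬ p ∣ ∑ χ : IrrCharacter A, f χ) :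
    ∃ β, IrrI P β ∧ ¬ p ∣ f β := by
  classical
  by_contra! e
  exact h1 (((sum_irr_modEq hp hP h f hf).dvd_iff dvd_rfl).2
    (Finset.dvd_sum fun γ hγ => e _ ⟨γ.2, (Finset.mem_filter.1 hγ).2⟩))

theorem exists_irrI_of (hp : p.Prime) (hP : IsPGroup p P) (h : P ≤ 𝒩 A) (hQ : Q ≤ P)
    (f : (A → ℂ) → ℕ) (hf : ∀ x (hx : x ∈ P) χ, f (cn (h hx) χ) = f χ) {β : A → ℂ} (hβ : IrrI Q β)
    (h0 : ¬ p ∣ f β) (h1 : ∀ γ, IrrI Q γ → ¬ p ∣ f γ → γ = β) : ∃ β, IrrI P β ∧ ¬ p ∣ f β :=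
  exists_irrI hp hP h f hf fun e => h0 (((sum_modEq_single hp (hP.to_le hQ) (hQ.trans h) f
    (fun x hx => hf x (hQ hx)) hβ fun γ a b => by_contra fun c => b (h1 γ a c)).dvd_iff dvd_rfl).1 e)

theorem mlt_res_res [Fintype C] [Fintype D] (hC : C ≤ D) {χ : D → ℂ} {γ : C → ℂ}
    (hχ : IsCharacter D χ) (hγ : IsCharacter C γ) :
    mlt (resLe hC χ) γ = ∑ β : IrrCharacter D, mlt χ β * mlt (resLe hC β.1) γ := by
  refine Nat.cast_injective (R := ℂ) ?_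
  have : resLe hC χ = ∑ β : IrrCharacter D, ⟪χ, β.1⟫ • resLe hC β.1 := funext fun c => by
    rw [Finset.sum_apply]; exact hχ.isClassFunction.apply_eq_sum_irr _
  rw [cast_mlt (hχ.resLe hC) hγ, this, classInner_sum_left, Nat.cast_sum]
  exact Finset.sum_congr rfl fun β _ => by
    rw [classInner_smul_left, Nat.cast_mul, cast_mlt hχ β.2.isCharacter,
      cast_mlt (β.2.isCharacter.resLe hC) hγ]

/-- The correspondence between `P`-invariant characters of `G` and of `C`. -/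
structure Corr (p : ℕ) (P : Subgroup Γ) [Fintype C] (h : C ≤ G) : Prop where
  ex : ∀ {χ}, IrrI P χ → ∃ β, IrrI P β ∧ ¬ p ∣ mlt (resLe h χ) β
  ex' : ∀ {β}, IrrI P β → ∃ χ, IrrI P χ ∧ ¬ p ∣ mlt (resLe h χ) β
  uniq : ∀ {χ β β'}, IrrI P χ → IrrI P β → IrrI P β' → ¬ p ∣ mlt (resLe h χ) β →
    ¬ p ∣ mlt (resLe h χ) β' → β = β'
  uniq' : ∀ {χ χ' β}, IrrI P χ → IrrI P χ' → IrrI P β → ¬ p ∣ mlt (resLe h χ) β →
    ¬ p ∣ mlt (resLe h χ') β → χ = χ'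
  sq : ∀ {χ β}, IrrI P χ → IrrI P β → ¬ p ∣ mlt (resLe h χ) β → mlt (resLe h χ) β ^ 2 ≡ 1 [MOD p]

theorem One.corr [Fintype C] (h : One G C s) (hp : p.Prime) {k : ℕ} (hs : s ^ p ^ k = 1) :
    Corr p (zpowers s) h.le := by
  have e1 : ∀ {A : Subgroup Γ} {χ : A → ℂ}, s ∈ 𝒩 A → IrrI (zpowers s) χ → ∃ F, Ext A s F ∧ rs A F = χ :=
    fun hn a => let ⟨F, b, c⟩ := exists_ext hn a.irr (a.inv s (mem_zpowers s)); ⟨F, ⟨b, c ▸ a.irr⟩, c⟩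
  have e2 : ∀ {A : Subgroup Γ} {F}, s ∈ 𝒩 A → Ext A s F → IrrI (zpowers s) (rs A F) := fun hn a =>
    ⟨a.irr, sInv_zpowers hn (cInv_rs (mem_sup_self _ s) le_sup_left a.char.isClassFunction)⟩
  refine ⟨fun a => ?_, fun a => ?_, fun a b c d e => ?_, fun a b c d e => ?_, fun a b => ?_⟩
  · obtain ⟨F, a1, rfl⟩ := e1 h.ng a
    obtain ⟨E, b1, b2⟩ := h.ex a1
    exact ⟨_, e2 h.nc b1, (h.dvd_iff hp hs a1 b1).1.1 b2⟩
  · obtain ⟨E, a1, rfl⟩ := e1 h.nc a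
    obtain ⟨F, b1, b2⟩ := h.ex' a1
    exact ⟨_, e2 h.ng b1, (h.dvd_iff hp hs b1 a1).1.1 b2⟩
  · obtain ⟨F, a1, rfl⟩ := e1 h.ng a
    obtain ⟨E, b1, rfl⟩ := e1 h.nc b
    obtain ⟨E', c1, rfl⟩ := e1 h.nc c
    exact h.uniq a1 b1 c1 ((h.dvd_iff hp hs a1 b1).1.2 d) ((h.dvd_iff hp hs a1 c1).1.2 e)
  · obtain ⟨F, a1, rfl⟩ := e1 h.ng a
    obtain ⟨F', b1, rfl⟩ := e1 h.ng b
    obtain ⟨E, c1, rfl⟩ := e1 h.nc c
    exact h.uniq' a1 b1 c1 ((h.dvd_iff hp hs a1 c1).1.2 d) ((h.dvd_iff hp hs b1 c1).1.2 e)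
  · obtain ⟨F, a1, rfl⟩ := e1 h.ng a
    obtain ⟨E, b1, rfl⟩ := e1 h.nc b
    exact (h.dvd_iff hp hs a1 b1).2

omit [Finite Γ] in
theorem mlt_res_cn [Fintype C] (h : C ≤ G) (hx : x ∈ 𝒩 G) (hx' : x ∈ 𝒩 C) (χ : G → ℂ) (β : C → ℂ) :
    mlt (resLe h (cn hx χ)) (cn hx' β) = mlt (resLe h χ) β := mlt_cn hx' (resLe h χ) β

namespace Corr
variable [Fintype C]

theorem refl (hp : p.Prime) : Corr p P (le_refl C) := by
  have e : ∀ {χ β : C → ℂ}, IrrI P χ → IrrI P β → ¬ p ∣ mlt (resLe le_rfl χ) β → χ = β :=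
    fun a b c => by_contra fun d => c (by
      rw [mlt_eq (m := 0) ((a.irr.inner_of_ne b.irr d).trans Nat.cast_zero.symm)]; exact dvd_zero p)
  have e' : ∀ {χ : C → ℂ}, IrrI P χ → mlt (resLe le_rfl χ) χ = 1 := fun a =>
    mlt_eq (a.irr.inner_self.trans Nat.cast_one.symm)
  refine ⟨fun a => ⟨_, a, e' a ▸ hp.not_dvd_one⟩, fun a => ⟨_, a, e' a ▸ hp.not_dvd_one⟩,
    fun a b c d f => (e a b d).symm.trans (e a c f), fun a b c d f => (e a c d).trans (e b c f).symm,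
    fun a b c => ?_⟩
  obtain rfl := e a b c
  rw [e' a]; rfl

theorem up {hC : C ≤ G} (h : Corr p Q hC) (hp : p.Prime) (hP : IsPGroup p P) (hQ : Q ≤ P)
    (h1 : P ≤ 𝒩 G) (h2 : P ≤ 𝒩 C) : Corr p P hC := by
  refine ⟨fun {χ} a => ?_, fun {β} a => ?_, fun a b c => h.uniq (a.mono hQ) (b.mono hQ) (c.mono hQ),
    fun a b c => h.uniq' (a.mono hQ) (b.mono hQ) (c.mono hQ), fun a b => h.sq (a.mono hQ) (b.mono hQ)⟩
  · obtain ⟨β, b1, b2⟩ := h.ex (a.mono hQ)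
    exact exists_irrI_of hp hP h2 hQ (mlt (resLe hC χ)) (fun x hx β => by
      rw [← mlt_res_cn hC (h1 hx) (h2 hx) χ β, a.inv.cn_eq hx]) b1 b2
      fun γ c d => h.uniq (a.mono hQ) c b1 d b2
  · obtain ⟨χ, b1, b2⟩ := h.ex' (a.mono hQ)
    exact exists_irrI_of hp hP h1 hQ (fun χ => mlt (resLe hC χ) β) (fun x hx χ => by
      rw [← mlt_res_cn hC (h1 hx) (h2 hx) χ, a.inv.cn_eq hx]) b1 b2
      fun γ c d => h.uniq' c b1 (a.mono hQ) d b2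

theorem trans [Fintype D] {hD : D ≤ G} {hC : C ≤ D} (h : Corr p P hD) (h' : Corr p P hC)
    (hp : p.Prime) (hP : IsPGroup p P) (h1 : P ≤ 𝒩 G) (h2 : P ≤ 𝒩 D) (h3 : P ≤ 𝒩 C) :
    Corr p P (hC.trans hD) := by
  have e : ∀ {χ β γ}, IrrI P χ → IrrI P β → IrrI P γ → ¬ p ∣ mlt (resLe hD χ) β →
      mlt (resLe (hC.trans hD) χ) γ ≡ mlt (resLe hD χ) β * mlt (resLe hC β) γ [MOD p] :=
    fun {χ β γ} a b c d => by
      rw [show resLe (hC.trans hD) χ = resLe hC (resLe hD χ) from rfl,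
        mlt_res_res hC (a.irr.isCharacter.resLe hD) c.irr.isCharacter]
      exact sum_modEq_single hp hP h2 (fun β => mlt (resLe hD χ) β * mlt (resLe hC β) γ)
        (fun x hx β => by
          rw [← mlt_res_cn hD (h1 hx) (h2 hx) χ β, ← mlt_res_cn hC (h2 hx) (h3 hx) β γ, a.inv.cn_eq hx,
            c.inv.cn_eq hx]) b
        fun δ f g => (by_contra fun k => g (h.uniq a f b k d) : p ∣ _).mul_right _
  have e' : ∀ {χ β γ}, IrrI P χ → IrrI P β → IrrI P γ → ¬ p ∣ mlt (resLe hD χ) β →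
      (p ∣ mlt (resLe (hC.trans hD) χ) γ ↔ p ∣ mlt (resLe hC β) γ) := fun a b c d => by
    rw [(e a b c d).dvd_iff dvd_rfl, hp.dvd_mul, or_iff_right d]
  refine ⟨fun a => ?_, fun a => ?_, fun a b c d f => ?_, fun a b c d f => ?_, fun a b c => ?_⟩
  · obtain ⟨β, b1, b2⟩ := h.ex a
    obtain ⟨γ, c1, c2⟩ := h'.ex b1
    exact ⟨γ, c1, mt (e' a b1 c1 b2).1 c2⟩
  · obtain ⟨β, b1, b2⟩ := h'.ex' a
    obtain ⟨χ, c1, c2⟩ := h.ex' b1
    exact ⟨χ, c1, mt (e' c1 b1 a c2).1 b2⟩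
  · obtain ⟨β, b1, b2⟩ := h.ex a
    exact h'.uniq b1 b c (mt (e' a b1 b b2).2 d) (mt (e' a b1 c b2).2 f)
  · obtain ⟨β, b1, b2⟩ := h.ex a
    obtain ⟨β', c1, c2⟩ := h.ex b
    obtain rfl := h'.uniq' b1 c1 c (mt (e' a b1 c b2).2 d) (mt (e' b c1 c c2).2 f)
    exact h.uniq' a b b1 b2 c2
  · obtain ⟨β, b1, b2⟩ := h.ex a
    simpa [mul_pow] using ((e a b1 b b2).pow 2).trans (by
      rw [mul_pow]; exact (h.sq a b1 b2).mul (h'.sq b1 b (mt (e' a b1 b b2).2 c)))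

end Corr

omit [Finite Γ] in
theorem Act.conj_iff (h : Act G N Q D) (h1 : x ∈ 𝒩 G) (h2 : x ∈ 𝒩 N)
    (h3 : ∀ q ∈ Q, ∃ r ∈ Q, ∀ g ∈ D, x⁻¹ * q * x * g * (x⁻¹ * q * x)⁻¹ * (r * g * r⁻¹)⁻¹ ∈ N) {d : Γ}
    (hd : d ∈ D) : x * d * x⁻¹ ∈ D := by
  refine (h.mem _).2 ⟨(mem_normalizer_iff.1 h1 _).1 (h.cle hd), fun q hq => ?_⟩
  obtain ⟨r, hr, e⟩ := h3 q hq
  convert (mem_normalizer_iff.1 h2 _).1 (mul_mem (e d hd) (((h.mem d).1 hd).2 r hr)) using 1; group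

omit [Finite Γ] in
theorem Act.norm (h : Act G N Q D) (h1 : P ≤ 𝒩 G) (h2 : P ≤ 𝒩 N) (h3 : P ≤ 𝒩 Q) : P ≤ 𝒩 D := by
  have : ∀ x ∈ P, ∀ d ∈ D, x * d * x⁻¹ ∈ D := fun x hx d => h.conj_iff (h1 hx) (h2 hx)
    fun q hq => ⟨_, (mem_normalizer_iff''.1 (h3 hx) q).1 hq, fun _ _ => by rw [mul_inv_cancel]; exact one_mem _⟩
  exact fun x hx => mem_normalizer_iff.2 fun d =>
    ⟨this x hx d, fun a => by simpa [mul_assoc] using this _ (inv_mem hx) _ a⟩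

omit [Finite Γ] in
theorem Act.step (h : Act G N (Q ⊔ zpowers s) C) (h' : Act G N Q D) (hs : s ∈ 𝒩 Q) :
    Act D N (zpowers s) C := by
  refine ⟨h'.nle, h'.cle.trans h.gn, h'.norm (le_sup_right.trans h.pg) (le_sup_right.trans h.pn)
    (zpowers_le.2 hs), le_sup_right.trans h.pn, fun k => ?_⟩
  rw [h.mem, h'.mem, and_assoc]
  refine and_congr_right fun hk => ⟨fun a => ⟨fun x hx => a x (mem_sup_left hx),
    fun x hx => a x (mem_sup_right hx)⟩, fun a x hx => ?_⟩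
  obtain ⟨q, hq, z, hz, rfl⟩ := (H1.mem_sup_right_norm (zpowers_le.2 hs)).1 hx
  convert mul_mem ((mem_normalizer_iff.1 (h'.pn hq) _).1 (a.2 z hz)) (a.1 q hq) using 1; group

/-- The relative Glauberman correspondence. -/
theorem Act.corr (hp : p.Prime) (hP : IsPGroup p P) [Fintype C] (h : Act G N P C)
    (hc : ¬ p ∣ N.relIndex G) : Corr p P h.cle := by
  have := Fact.mk hp
  induction P using WellFoundedLT.induction generalizing C with | ind P ih => ?_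
  rcases eq_or_ne P ⊥ with rfl | h1
  · obtain rfl : C = G := le_antisymm h.cle fun k hk => (h.mem k).2 ⟨hk, by simp⟩
    exact Corr.refl hp
  obtain ⟨Q, -, q1, q2⟩ := H1.exists_maximal_lt (bot_lt_iff_ne_bot.2 h1)
  have q3 : P ≤ 𝒩 Q := inf_eq_left.1
    (q2 _ (H1.lt_inf_normalizer_of_isNilpotent hP.isNilpotent q1) inf_le_left)
  obtain ⟨s, s1, s2⟩ := SetLike.exists_of_lt q1
  obtain rfl := q2 (Q ⊔ zpowers s) (left_lt_sup.2 (mt zpowers_le.1 s2)) (sup_le q1.le (zpowers_le.2 s1))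
  obtain ⟨D, hD⟩ := exists_act h.le h.gn (q1.le.trans h.pg) (q1.le.trans h.pn)
  have := Fintype.ofFinite D
  have d1 := hD.norm h.pg h.pn q3
  have d2 := h.step hD (q3 s1)
  obtain ⟨k, hk⟩ := hP ⟨s, s1⟩
  replace hk : s ^ p ^ k = 1 := congrArg Subtype.val hk
  have d3 := d2.one ((Nat.Coprime.pow_left k ((hp.coprime_iff_not_dvd).2 fun e => hc (e.trans
    (Dvd.intro _ (relIndex_mul_relIndex _ _ _ hD.nle hD.cle))))).coprime_dvd_left (orderOf_dvd_of_pow_eq_one hk))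
  exact ((ih Q q1 (hP.to_le q1.le) hD).up hp hP q1.le h.pg d1).trans
    ((d3.corr hp hk).up hp hP le_sup_right d1 h.pc) hp hP h.pg d1 h.pc

end Cfsg.Agent.C3
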