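import Cfsg.Agent.C3.Glaub1
import Cfsg.Agent.H3.Prim
import Cfsg.Agent.H2.BG4b

/-! Coprime action of solvable groups on characters. -/

set_option autoImplicit false

namespace Cfsg.Agent.C3

open Cfsg Subgroup H3 BG
open scoped ComplexConjugate commutatorElement

theorem exists_bij_of_rel {X Y : Type*} {pX : X → Prop} {pY : Y → Prop} (R : X → Y → Prop)
    (h1 : ∀ x, pX x → ∃ y, pY y ∧ R x y) (h2 : ∀ y, pY y → ∃ x, pX x ∧ R x y)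
    (h3 : ∀ x y y', pX x → pY y → pY y' → R x y → R x y' → y = y')
    (h4 : ∀ x x' y, pX x → pX x' → pY y → R x y → R x' y → x = x') :
    ∃ f : {x // pX x} → {y // pY y}, Function.Bijective f ∧ ∀ x y, R x.1 y.1 ↔ y = f x := by
  choose f a b using h1
  refine ⟨fun x => ⟨f x.1 x.2, a _ _⟩, ⟨fun x x' e => Subtype.ext (h4 _ _ _ x.2 x'.2 (a _ x.2) (b _ _)
    (by rw [show f x.1 x.2 = f x'.1 x'.2 from congrArg Subtype.val e]; exact b _ _)), fun y => ?_⟩,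
    fun x y => ⟨fun r => Subtype.ext (h3 _ _ _ x.2 y.2 (a _ _) r (b _ _)), fun e => e ▸ b _ _⟩⟩
  obtain ⟨x, c, d⟩ := h2 _ y.2
  exact ⟨⟨x, c⟩, Subtype.ext (h3 _ _ _ c (a _ _) y.2 (b _ _) d)⟩

theorem card_eq_of_rel {X Y : Type*} {pX : X → Prop} {pY : Y → Prop} (R : X → Y → Prop)
    (h1 : ∀ x, pX x → ∃ y, pY y ∧ R x y) (h2 : ∀ y, pY y → ∃ x, pX x ∧ R x y)
    (h3 : ∀ x y y', pX x → pY y → pY y' → R x y → R x y' → y = y')
    (h4 : ∀ x x' y, pX x → pX x' → pY y → R x y → R x' y → x = x') :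
    Nat.card {x // pX x} = Nat.card {y // pY y} :=
  let ⟨_, h, _⟩ := exists_bij_of_rel R h1 h2 h3 h4; Nat.card_eq_of_bijective _ h

theorem pm_one_of_sq {p m : ℕ} (hp : p.Prime) (h : m ^ 2 ≡ 1 [MOD p]) :
    (m : ZMod p) = 1 ∨ (m : ZMod p) = -1 := by
  have := Fact.mk hp
  exact sq_eq_one_iff.1 (by exact_mod_cast (ZMod.natCast_eq_natCast_iff _ _ _).2 h)

variable {Γ : Type*} [Group Γ] {A B C D G K N S P Q : Subgroup Γ} {s x y : Γ} {p : ℕ}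

theorem mem_of_coprime (hn : K ≤ 𝒩 Q) (hx : x ∈ K) {m : ℕ} (hm : x ^ m ∈ Q)
    (hc : m.Coprime (Q.relIndex K)) : x ∈ Q := by
  have := normal_subgroupOf_of_le_normalizer hn
  have h1 : x ^ Q.relIndex K ∈ Q := (Q.subgroupOf K).pow_index_mem ⟨x, hx⟩
  have := mul_mem (zpow_mem hm (m.gcdA (Q.relIndex K))) (zpow_mem h1 (m.gcdB (Q.relIndex K)))
  rwa [← zpow_natCast, ← zpow_natCast, ← zpow_mul, ← zpow_mul, ← zpow_add, ← Nat.gcd_eq_gcd_ab, hc,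
    Nat.cast_one, zpow_one] at this

theorem le_of_pgroup (hp : p.Prime) (hP : IsPGroup p P) (hn : K ≤ 𝒩 Q) (h : P ≤ K)
    (hc : ¬ p ∣ Q.relIndex K) : P ≤ Q := fun x hx =>
  let ⟨k, hk⟩ := hP ⟨x, hx⟩
  mem_of_coprime hn (h hx) (m := p ^ k) (by rw [show x ^ p ^ k = 1 from congrArg Subtype.val hk]; exact one_mem _)
    (Nat.Coprime.pow_left k (hp.coprime_iff_not_dvd.2 hc))

/-- The kernel of the action on `G / N`. -/
def kerA (G N : Subgroup Γ) : Subgroup Γ where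
  carrier := {x | x ∈ 𝒩 N ∧ ∀ g ∈ G, x * g * x⁻¹ * g⁻¹ ∈ N}
  one_mem' := ⟨one_mem _, by simp⟩
  mul_mem' := fun {a b} ha hb => ⟨mul_mem ha.1 hb.1, fun g hg => by
    convert mul_mem ((mem_normalizer_iff.1 ha.1 _).1 (hb.2 g hg)) (ha.2 g hg) using 1; group⟩
  inv_mem' := fun {a} ha => ⟨inv_mem ha.1, fun g hg => by
    convert (mem_normalizer_iff.1 (inv_mem ha.1) _).1 (inv_mem (ha.2 g hg)) using 1; group⟩

theorem le_kerA (h : G ≤ 𝒩 N) : N ≤ kerA G N := fun n hn => ⟨le_normalizer hn, fun g hg => by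
  convert mul_mem hn ((mem_normalizer_iff.1 (h hg) _).1 (inv_mem hn)) using 1; group⟩

theorem kerA_anti (h : D ≤ G) : kerA G N ≤ kerA D N := fun _ a => ⟨a.1, fun g hg => a.2 g (h hg)⟩

theorem norm_of (h : ∀ s ∈ S, ∀ g ∈ G, s * g * s⁻¹ ∈ G) : S ≤ 𝒩 G := fun s hs =>
  mem_normalizer_iff.2 fun g => ⟨h s hs g, fun a => by simpa [mul_assoc] using h _ (inv_mem hs) _ a⟩

theorem norm_kerA (h1 : S ≤ 𝒩 G) (h2 : S ≤ 𝒩 N) : S ≤ 𝒩 (kerA G N) := norm_of fun s hs k hk =>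
  ⟨mul_mem (mul_mem (h2 hs) hk.1) (inv_mem (h2 hs)), fun g hg => by
    convert (mem_normalizer_iff.1 (h2 hs) _).1 (hk.2 _ ((mem_normalizer_iff''.1 (h1 hs) g).1 hg))
      using 1; group⟩

theorem act_bot (h : S ≤ 𝒩 G) : Act G ⊥ S (G ⊓ 𝒞 S) :=
  ⟨bot_le, le_normalizer_of_normal, h, le_normalizer_of_normal, fun k => and_congr_right fun _ =>
    forall₂_congr fun x _ => by rw [mem_bot, mul_inv_eq_one, mul_inv_eq_iff_eq_mul]⟩

theorem sInv_of_cent (h : C ≤ 𝒞 S) (β : C → ℂ) : SInv S β := fun s hs g g' e =>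
  congrArg β (Subtype.ext (by rw [e, h g.2 s hs, mul_inv_cancel_right]))

theorem Act.eq_of_le (h : Act G N S C) (h1 : S ≤ kerA G N) : C = G :=
  le_antisymm h.cle fun k hk => (h.mem k).2 ⟨hk, fun _ hx => (h1 hx).2 k hk⟩

theorem Act.le_of (h : Act G N S C) (h' : Act G N P D) (h1 : P ≤ S) : C ≤ D := fun k hk =>
  (h'.mem k).2 ⟨h.cle hk, fun x hx => ((h.mem k).1 hk).2 x (h1 hx)⟩

variable [Finite Γ]

theorem Act.corr' (hp : p.Prime) (hP : IsPGroup p P) [Fintype C] (h : Act G N P C)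
    (hc : (N.relIndex G).Coprime (♯P)) : Corr p P h.cle := by
  rcases eq_or_ne P ⊥ with rfl | h1
  · obtain rfl := h.eq_of_le bot_le
    exact Corr.refl hp
  have := Fact.mk hp
  exact h.corr hp hP fun e => hp.not_dvd_one (hc ▸ Nat.dvd_gcd e
    (hP.card_eq_or_dvd.resolve_left (mt card_eq_one.1 h1)))

theorem over_trans [Fintype C] [Fintype D] (hC : C ≤ D) {χ β : D → ℂ} {γ : C → ℂ}
    (hχ : IsCharacter D χ) (hβ : IsIrrCharacter D β) (hγ : IsCharacter C γ) (h1 : ⟪χ, β⟫ ≠ 0)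
    (h2 : ⟪resLe hC β, γ⟫ ≠ 0) : ⟪resLe hC χ, γ⟫ ≠ 0 := by
  rw [← cast_mlt hχ hβ.isCharacter, Nat.cast_ne_zero] at h1
  rw [← cast_mlt (hβ.isCharacter.resLe hC) hγ, Nat.cast_ne_zero] at h2
  rw [← cast_mlt (hχ.resLe hC) hγ, Nat.cast_ne_zero, mlt_res_res hC hχ hγ]
  exact fun e => mul_ne_zero h1 h2 (Finset.sum_eq_zero_iff.1 e ⟨β, hβ⟩ (Finset.mem_univ _))

theorem ne_zero_of_not_dvd {X : Type*} [Group X] [Fintype X] {φ ψ : X → ℂ} (h : ¬ p ∣ mlt φ ψ) :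
    ⟪φ, ψ⟫ ≠ 0 := fun e => h (by rw [mlt_eq (m := 0) (e.trans Nat.cast_zero.symm)]; exact dvd_zero p)

theorem exists_under_le [Fintype N] (h : N ≤ G) {χ : G → ℂ} (hχ : IsIrrCharacter G χ) :
    ∃ θ, IsIrrCharacter N θ ∧ ⟪resLe h χ, θ⟫ ≠ 0 :=
  (hχ.isCharacter.resLe h).exists_irr_inner_ne_zero hχ.apply_one_ne_zero

theorem exists_over_le [Fintype N] (h : N ≤ G) {θ : N → ℂ} (hθ : IsIrrCharacter N θ) :
    ∃ χ, IsIrrCharacter G χ ∧ ⟪resLe h χ, θ⟫ ≠ 0 := by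
  have := Fintype.ofFinite G
  have := Fintype.ofFinite (N.subgroupOf G)
  obtain ⟨χ, a, b⟩ := (hθ.toSubOf h).exists_over
  exact ⟨χ, a, (classInner_res_toSubOf h χ θ) ▸ b⟩

theorem allfix [N.Normal] [A.Normal] [Fintype N] (hNA : N ≤ A) (hA : A ⊔ zpowers y = ⊤)
    (ht : ∀ g ∈ A, y * g * y⁻¹ * g⁻¹ ∈ N) {m : ℕ} (hm : y ^ m ∈ N) (hc : m.Coprime (N.relIndex A))
    {θ : N → ℂ} (hθ : IsIrrCharacter N θ) (hi : ∀ g : Γ, cjf g θ = θ) {χ : A → ℂ}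
    (hχ : IsIrrCharacter A χ) (h0 : ⟪resLe hNA χ, θ⟫ ≠ 0) : cjf y χ = χ := by
  have := Fintype.ofFinite Γ
  have := Fintype.ofFinite A
  have hy := mem_sup_self N y
  have hL := sup_subgroupOf N y hy
  have hNL : N ≤ N ⊔ zpowers y := le_sup_left
  have h1 : N ⊔ zpowers y ≤ kerA A N := sup_le (le_kerA le_normalizer_of_normal)
    (zpowers_le.2 ⟨le_normalizer_of_normal (K := ⊤) trivial, ht⟩)
  generalize N ⊔ zpowers y = L at *
  have := Fintype.ofFinite L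
  have := Fintype.ofFinite (N.subgroupOf L)
  have h2 : ∀ g ∈ A, ∀ l ∈ L, g * l * g⁻¹ * l⁻¹ ∈ N := fun g hg l hl => by
    convert inv_mem ((h1 hl).2 g hg) using 1; group
  have : L.Normal := normalizer_eq_top_iff.1 (top_le_iff.1 (hA ▸ sup_le (norm_of fun g hg l hl => by
    simpa using mul_mem (hNL (h2 g hg l hl)) hl) (zpowers_le.2 (le_normalizer hy))))
  have h3 := commutator_le_of_cyclic (isCyclic_quot hL)
  obtain ⟨ψ, a1, a2⟩ := hχ.exists_over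
  obtain ⟨η, b1, b2⟩ := a1.exists_under L
  obtain ⟨c, c1⟩ := exists_comp_eq_smul (inclusion hNL) (a1.isCharacter.res L) b1 b2 hθ
    (a1.res_eq_smul hθ hi (over_trans hNA (a1.isCharacter.res A) hχ hθ.isCharacter a2 h0))
  have c2 : (fun n : N.subgroupOf L => η n) = (c : ℂ) • toSubOf L θ :=
    funext fun n => congrFun c1 ⟨_, n.2⟩
  have c3 : (c : ℂ) ≠ 0 := fun e => b1.apply_one_ne_zero (by simpa [e] using congrFun c1 1)
  obtain ⟨ζ, d1, d2⟩ := exists_ext_of_cyclic (hθ.toSubOf hNL) (fun g => by rw [cjf_toSubOf, hi])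
    (isCyclic_quot hL)
  obtain ⟨l, d3, d4⟩ := exists_mul_linear_of_over h3 d1 b1 (by
    rw [c2, funext d2, classInner_smul_left, (hθ.toSubOf hNL).inner_self, mul_one]; exact c3)
  have d5 : (fun n : N.subgroupOf L => η n) = toSubOf L θ := funext fun n => by
    simp [d4, d2, show l n = 1 from d3 n.2]
  obtain ⟨n, hn⟩ : ∃ n : N.subgroupOf L, η (n * ⟨y, hy⟩) ≠ 0 := by
    by_contra! e
    have := congrFun (avg_mul_conj_self b1.isCharacter (d5 ▸ hθ.toSubOf hNL)) ⟨y, hy⟩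
    simp [avg_apply, e] at this
  have e1 : ∀ g ∈ A, g ∈ inertia η := fun g hg => by
    obtain ⟨k, e1, e2⟩ := exists_mul_linear_of_over (N := N.subgroupOf L) h3 b1 (b1.cjf g) (by
      have : (fun n : N.subgroupOf L => cjf g η n) = toSubOf L θ := funext fun n =>
        (congrFun d5 ⟨⟨_, hNL (Normal.conj_mem ‹N.Normal› n n.2 g)⟩,
          (Normal.conj_mem ‹N.Normal› n n.2 g :)⟩).trans
          (congrFun (hi g) ⟨_, n.2⟩)
      rw [this, d5, (hθ.toSubOf hNL).inner_self]; exact one_ne_zero)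
    have e3 : ∀ j : ℕ, cjf (g ^ j) η = fun x => η x * k x ^ j := fun j => by
      induction j with
      | zero => simp [cjf_one]
      | succ j ih =>
        rw [pow_succ, cjf_mul, ih]
        refine funext fun x => ?_
        have : k ⟨g * x * g⁻¹, Normal.conj_mem ‹_› _ x.2 g⟩ = k x := by
          rw [← mul_inv_eq_one, ← map_inv, ← map_mul]; exact e1 (h2 g hg x x.2)
        rw [cjf, this, pow_succ', ← mul_assoc]
        exact congrArg (· * _) (congrFun e2 x)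
    have e4 := congrFun ((e3 _).symm.trans (b1.isClassFunction.cjf_of_mem
      (hNL ((N.subgroupOf A).pow_index_mem ⟨g, hg⟩ :)))) (n * ⟨y, hy⟩)
    rw [mul_right_eq_self₀, or_iff_left hn, map_mul, e1 n.2, one_mul, ← Units.val_pow_eq_pow_val,
      Units.val_eq_one] at e4
    have e5 : k ⟨y, hy⟩ ^ m.gcd (N.relIndex A) = 1 :=
      pow_gcd_eq_one.2 ⟨by rw [← map_pow]; exact e1 hm, e4⟩
    rw [hc, pow_one] at e5
    have e6 : k.ker = ⊤ := top_le_iff.1 (hL ▸ sup_le e1 (zpowers_le.2 e5))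
    rw [mem_inertia, e2]
    exact funext fun x => by rw [show k x = 1 from (e6 ▸ mem_top x : x ∈ k.ker)]; simp
  have e2 := congrFun (a1.res_eq_smul b1 (inertia_eq_top_iff.1 (top_le_iff.1 (hA ▸ sup_le e1
    (zpowers_le.2 (b1.isClassFunction.le_inertia hy))))) b2) (n * ⟨y, hy⟩)
  obtain rfl := (res_irr_of_ne_zero hA a1 (hNA n.2) (e2.trans_ne (mul_ne_zero b2 hn))).eq_of_inner_ne_zero
    hχ a2
  exact a1.isClassFunction.cjf_res y

theorem cInv_of_kerA [Fintype N] (hNG : N ≤ G) (hn : G ≤ 𝒩 N) (hy : y ∈ kerA G N) {m : ℕ}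
    (hm : y ^ m ∈ N) (hc : m.Coprime (N.relIndex G)) {θ : N → ℂ} (hθ : IsIrrCharacter N θ)
    (h1 : G ≤ stab θ) (h2 : CInv y θ) {χ : G → ℂ} (hχ : IsIrrCharacter G χ)
    (h0 : ⟪resLe hNG χ, θ⟫ ≠ 0) : y ∈ stab χ := by
  have h3 : y ∈ 𝒩 G := H1.mem_normalizer_of_conj_mem fun g hg => by
    simpa using mul_mem (hNG (hy.2 g hg)) hg
  have h4 : G ⊔ zpowers y ≤ stab θ := sup_le h1 (zpowers_le.2 ⟨hy.1, h2⟩)
  have h5 : G ≤ G ⊔ zpowers y := le_sup_left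
  have := normal_subgroupOf_of_le_normalizer (sup_le_norm h3)
  have := normal_subgroupOf_of_le_normalizer (le_stab.1 h4).1
  have := Fintype.ofFinite (N.subgroupOf (G ⊔ zpowers y))
  have := allfix (subgroupOf_mono _ hNG) (sup_subgroupOf G y (mem_sup_self G y)) (fun g hg => hy.2 g hg)
    hm (by rwa [relIndex_subgroupOf h5]) (hθ.toSubOf (hNG.trans h5))
    (fun g => funext fun n => (h4 g.2).2 _ _ rfl) (hχ.toSubOf h5)
    (by rwa [← classInner_toSubOf (hNG.trans h5)] at h0)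
  exact ⟨h3, (cInv_iff h3).2 (funext fun g => congrFun this ⟨⟨g, h5 g.2⟩, g.2⟩)⟩

theorem exists_pgroup_mod (hn : S ≤ 𝒩 K) [(K.subgroupOf S).Normal]
    (hs : Group.IsSolvable (S ⧸ K.subgroupOf S)) (h : ¬ S ≤ K) : ∃ (q : ℕ) (P : Subgroup Γ), q.Prime ∧
      P ≤ S ∧ IsPGroup q P ∧ ¬ P ≤ K ∧ ∀ x ∈ S, ∀ g ∈ P, ∃ k ∈ K, ∃ r ∈ P, x * g * x⁻¹ = k * r := by
  obtain ⟨M, a1, a2, -, -, -, q, hq, a3⟩ := exists_chief_above (L := K.subgroupOf S) (X := ⊤)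
    (by rwa [top_le_iff, subgroupOf_eq_top]) le_top hs
  have := Fact.mk hq
  obtain ⟨P, hP⟩ := H2.exists_sylIn q M
  have h1 := H2.sup_eq_of_sylIn_of_pow a2.le hP fun u hu => ⟨1, by rw [pow_one]; exact a3 u hu⟩
  refine ⟨q, P.map S.subtype, hq, map_subtype_le P, hP.pgrp.map _, fun e => a2.ne ?_, ?_⟩
  · exact (sup_eq_left.2 (map_le_iff_le_comap.1 e)).symm.trans h1
  rintro x hx _ ⟨g, hg, rfl⟩
  obtain ⟨k, hk, r, hr, e⟩ := (H1.mem_sup_right_norm le_normalizer_of_normal).1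
    (h1.ge (a1.conj_mem g (hP.le hg) ⟨x, hx⟩))
  exact ⟨k, hk, r, ⟨r, hr, rfl⟩, congrArg Subtype.val e⟩

theorem over_of_over [Fintype N] [Fintype D] (hN : N ≤ D) (hD : D ≤ G) {θ : N → ℂ}
    (hθ : IsIrrCharacter N θ) (h1 : G ≤ stab θ) {χ : G → ℂ} (hχ : IsIrrCharacter G χ)
    (h0 : ⟪resLe (hN.trans hD) χ, θ⟫ ≠ 0) {β : D → ℂ} (hβ : IsIrrCharacter D β)
    (h2 : ⟪resLe hD χ, β⟫ ≠ 0) : ⟪resLe hN β, θ⟫ ≠ 0 := by
  obtain ⟨φ, a, b⟩ := exists_under_le hN hβ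
  have := normal_subgroupOf_of_le_normalizer (le_stab.1 h1).1
  have := Fintype.ofFinite (N.subgroupOf G)
  have h3 := hN.trans hD
  obtain ⟨g, e⟩ := mem_cjOrbit.1 (hχ.mem_cjOrbit_of_inner (hθ.toSubOf h3) (a.toSubOf h3)
    (by rwa [classInner_res_toSubOf h3]) (by
      rw [classInner_res_toSubOf h3]; exact over_trans hN (hχ.isCharacter.resLe hD) hβ a.isCharacter h2 b))
  obtain rfl : φ = θ := funext fun n => (congrFun e ⟨⟨n, h3 n.2⟩, n.2⟩).trans ((h1 g.2).2 _ _ rfl)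
  exact b

omit [Finite Γ] in
theorem over_cn [Fintype N] (h : N ≤ G) (hx : x ∈ 𝒩 G) (hx' : x ∈ 𝒩 N) {θ : N → ℂ} (h1 : CInv x θ)
    (χ : G → ℂ) : ⟪resLe h (cn hx χ), θ⟫ = ⟪resLe h χ, θ⟫ := by
  rw [← inner_cn hx' (resLe h χ), (cInv_iff hx').1 h1]

omit [Finite Γ] in
theorem sInv_cn (hx : x ∈ 𝒩 G) (hP : P ≤ 𝒩 G) {χ : G → ℂ} (h : ∀ g ∈ P, x * g * x⁻¹ ∈ stab χ) :
    SInv P (cn hx χ) := fun g hg => (cInv_iff (hP hg)).2 (by
  rw [cn_cn, cn_congr _ (mul_mem (h g hg).1 hx) (inv_mul_cancel_right _ x).symm, ← cn_cn hx (h g hg).1,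
    (cInv_iff _).1 (h g hg).2])

/-- The Glauberman count for operator groups which are solvable modulo `N`. -/
theorem Act.card_over [Fintype N] (h : Act G N S C) [(N.subgroupOf S).Normal]
    (hs : Group.IsSolvable (S ⧸ N.subgroupOf S)) (hc : (N.relIndex S).Coprime (N.relIndex G))
    {θ : N → ℂ} (hθ : IrrI S θ) (h1 : G ≤ stab θ) :
    Nat.card {χ : IrrCharacter G // SInv S χ.1 ∧ ⟪resLe h.le χ.1, θ⟫ ≠ 0} =
      Nat.card {β : IrrCharacter C // ⟪resLe h.nle β.1, θ⟫ ≠ 0} := by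
  induction G using WellFoundedLT.induction with | ind G ih => ?_
  have e : ∀ {D} (hD : D ≤ G) (hN : N ≤ D) {χ : D → ℂ}, IsIrrCharacter D χ → ⟪resLe hN χ, θ⟫ ≠ 0 →
      ∀ k ∈ S, k ∈ kerA G N → k ∈ stab χ := fun hD hN χ a b k c d =>
    cInv_of_kerA hN (hD.trans h.gn) (kerA_anti hD d) ((N.subgroupOf S).pow_index_mem ⟨k, c⟩ :)
      (hc.coprime_dvd_right (Dvd.intro _ (relIndex_mul_relIndex _ _ _ hN hD))) hθ.irr (hD.trans h1)
      (hθ.inv k c) a b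
  by_cases h2 : S ≤ kerA G N
  · obtain rfl := h.eq_of_le h2
    exact Nat.card_congr (Equiv.subtypeEquivRight fun χ => and_iff_right_of_imp fun a s hs =>
      (e le_rfl _ χ.2 a s hs (h2 hs)).2)
  have h3 := norm_kerA h.pg h.pn
  have := normal_subgroupOf_of_le_normalizer h3
  obtain ⟨q, P, hq, p1, p2, p3, p4⟩ := exists_pgroup_mod h3
    (isSolvable_quotient_of_le (subgroupOf_mono _ (le_kerA h.gn)) hs) h2
  obtain ⟨D, hD⟩ := exists_act h.le h.gn (p1.trans h.pg) (p1.trans h.pn)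
  have := Fintype.ofFinite D
  have d1 : S ≤ 𝒩 D := norm_of fun x hx d => hD.conj_iff (h.pg hx) (h.pn hx) fun g hg => by
    obtain ⟨k, k1, r, k2, k3⟩ := p4 _ (inv_mem hx) g hg
    refine ⟨r, k2, fun u hu => ?_⟩
    rw [inv_inv] at k3
    convert k1.2 _ ((mem_normalizer_iff.1 (hD.pg k2) _).1 (hD.cle hu)) using 1
    rw [k3]; group
  have d2 := hD.corr hq p2 fun a => p3 ((le_of_pgroup hq p2 h.pn p1 fun b =>
    hq.not_dvd_one (hc ▸ Nat.dvd_gcd b a)).trans (le_kerA h.gn))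
  have e' : ∀ {D} (hD : D ≤ G) (hN : N ≤ D) (hS : S ≤ 𝒩 D) {χ : D → ℂ}, IrrI P χ → ⟪resLe hN χ, θ⟫ ≠ 0 →
      ∀ x (hx : x ∈ S), IrrI P (cn (hS hx) χ) := fun hD hN hS χ a b x hx =>
    ⟨irr_cn _ a.irr, sInv_cn _ (p1.trans hS) fun g hg => by
      obtain ⟨k, k1, r, k2, k3⟩ := p4 x hx g hg
      rw [k3]
      refine mul_mem (e hD hN a.irr b k ?_ k1) ⟨hS (p1 k2), a.inv r k2⟩
      rw [← mul_inv_eq_iff_eq_mul.2 k3]
      exact mul_mem (mul_mem (mul_mem hx (p1 hg)) (inv_mem hx)) (inv_mem (p1 k2))⟩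
  refine Eq.trans ?_ (ih D (hD.cle.lt_of_ne fun a => p3 fun g hg => ⟨hD.pn hg, fun u hu =>
    ((hD.mem u).1 (a ▸ hu)).2 g hg⟩) (h.of_le (h.le_of hD p1) hD.cle d1)
    (hc.coprime_dvd_right (Dvd.intro _ (relIndex_mul_relIndex _ _ _ hD.nle hD.cle))) (hD.cle.trans h1))
  refine card_eq_of_rel (fun χ β => ¬ q ∣ mlt (resLe hD.cle χ.1) β.1) (fun χ a => ?_) (fun β a => ?_)
    (fun χ β β' a b c d f => Subtype.ext (d2.uniq ⟨χ.2, a.1.mono p1⟩ ⟨β.2, b.1.mono p1⟩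
      ⟨β'.2, c.1.mono p1⟩ d f)) fun χ χ' β a b c d f => Subtype.ext (d2.uniq' ⟨χ.2, a.1.mono p1⟩
      ⟨χ'.2, b.1.mono p1⟩ ⟨β.2, c.1.mono p1⟩ d f)
  · obtain ⟨β, b1, b2⟩ := d2.ex ⟨χ.2, a.1.mono p1⟩
    have b3 := over_of_over hD.nle hD.cle hθ.irr h1 χ.2 a.2 b1.irr (ne_zero_of_not_dvd b2)
    refine ⟨⟨β, b1.irr⟩, ⟨fun x hx => (cInv_iff (d1 hx)).2 (d2.uniq ⟨χ.2, a.1.mono p1⟩
      (e' hD.cle hD.nle d1 b1 b3 x hx) b1 ?_ b2), b3⟩, b2⟩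
    rwa [← a.1.cn_eq hx (h.pg hx), mlt_res_cn]
  · obtain ⟨χ, b1, b2⟩ := d2.ex' ⟨β.2, a.1.mono p1⟩
    have b3 := over_trans hD.nle (b1.irr.isCharacter.resLe hD.cle) β.2 hθ.irr.isCharacter
      (ne_zero_of_not_dvd b2) a.2
    refine ⟨⟨χ, b1.irr⟩, ⟨fun x hx => (cInv_iff (h.pg hx)).2 (d2.uniq'
      (e' le_rfl h.le h.pg b1 b3 x hx) b1 ⟨β.2, a.1.mono p1⟩ ?_ b2), b3⟩, b2⟩
    rwa [← a.1.cn_eq hx (d1 hx), mlt_res_cn]

theorem exists_irrI_over [Fintype N] (hN : N ≤ G) (h2 : S ≤ 𝒩 G) (h3 : S ≤ 𝒩 N)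
    [(N.subgroupOf S).Normal] (hs : Group.IsSolvable (S ⧸ N.subgroupOf S))
    (hc : (N.relIndex S).Coprime (N.relIndex G)) {θ : N → ℂ} (hθ : IrrI S θ) (h1 : G ≤ stab θ) :
    ∃ χ, IrrI S χ ∧ ⟪resLe hN χ, θ⟫ ≠ 0 := by
  obtain ⟨C, h⟩ := exists_act hN (le_stab.1 h1).1 h2 h3
  obtain ⟨β, a, b⟩ := exists_over_le h.nle hθ.irr
  have : Nonempty {β : IrrCharacter C // ⟪resLe h.nle β.1, θ⟫ ≠ 0} := ⟨⟨⟨β, a⟩, b⟩⟩
  obtain ⟨⟨χ, c, d⟩⟩ := (Nat.card_pos_iff.1 ((h.card_over hs hc hθ h1).symm ▸ Nat.card_pos)).1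
  exact ⟨χ.1, ⟨χ.2, c⟩, d⟩

theorem card_irr_inv (h : S ≤ 𝒩 G) (hc : (♯G).Coprime (♯S)) (hs : Group.IsSolvable S) :
    Nat.card {χ : IrrCharacter G // SInv S χ.1} = Nat.card (IrrCharacter ↥(G ⊓ 𝒞 S)) := by
  have := Fintype.ofFinite (⊥ : Subgroup Γ)
  have e : ∀ {A : Subgroup Γ} (χ : IrrCharacter A), ⟪resLe (bot_le : ⊥ ≤ A) χ.1, fun _ => 1⟫ ≠ 0 :=
    fun χ => by
      rw [classInner_def, Fintype.sum_subsingleton _ 1]
      simpa using (show resLe bot_le χ.1 1 ≠ 0 from χ.2.apply_one_ne_zero)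
  have := (act_bot h).card_over (θ := fun _ => 1) inferInstance (by simpa using hc.symm)
    ⟨isIrrCharacter_one, fun _ _ _ _ _ => rfl⟩ fun _ _ => ⟨le_normalizer_of_normal (K := ⊤) trivial,
      fun _ _ _ => rfl⟩
  simpa [e] using this

end Cfsg.Agent.C3
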