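import Cfsg.Agent.C3.Glaub2

/-! Invariant classes and invariant constituents under coprime action. -/

set_option autoImplicit false

namespace Cfsg.Agent.C3

open Cfsg Subgroup H3 BG
open scoped ComplexConjugate commutatorElement

theorem exists_fixed_perm {X S K : Type*} [Finite X] [Group S] [Group K] (a : S →* Equiv.Perm X)
    (b : K →* Equiv.Perm X) (hn : ∀ s k, ∃ k', a s * b k * (a s)⁻¹ = b k')
    (hc : a.ker.index.Coprime b.ker.index) (hs : Group.IsSolvable a.range ∨ Group.IsSolvable b.range)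
    (x : X) (hx : ∀ s, ∃ k, a s x = b k x) : ∃ k, ∀ s, a s (b k x) = b k x := by
  obtain ⟨_, ⟨k, rfl⟩, h⟩ := H1.glauberman_exists (A := a.range) (K := b.range) (norm_of (by
    rintro _ ⟨s, rfl⟩ _ ⟨k, rfl⟩; exact (hn s k).imp fun _ => Eq.symm))
    (by rwa [← index_ker, ← index_ker]) hs x (by
      rintro _ ⟨s, rfl⟩; obtain ⟨k, e⟩ := hx s; exact ⟨_, ⟨k, rfl⟩, e⟩)
  exact ⟨k, fun s => h _ ⟨s, rfl⟩⟩

theorem isSolvable_range {X Y : Type*} [Group X] [Group Y] (f : X →* Y) {N : Subgroup X} [N.Normal]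
    (h : N ≤ f.ker) (hs : Group.IsSolvable (X ⧸ N)) : Group.IsSolvable f.range :=
  have := isSolvable_quotient_of_le h hs
  Group.isSolvable_of_surjective (f := (QuotientGroup.quotientKerEquivRange f).toMonoidHom)
    (QuotientGroup.quotientKerEquivRange f).surjective

theorem isSolvable_range' {X Y : Type*} [Group X] [Group Y] (f : X →* Y) (hs : Group.IsSolvable X) :
    Group.IsSolvable f.range := Group.isSolvable_of_surjective f.rangeRestrict_surjective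

variable {Γ : Type*} [Group Γ] {A B C D G K N S P Q : Subgroup Γ} {s x y : Γ} {p : ℕ}

/-- The permutation action on irreducible characters. -/
def irrPerm (h : P ≤ 𝒩 A) : P →* Equiv.Perm (IrrCharacter A) :=
  letI := irrAct h; MulAction.toPermHom P _

theorem irrPerm_apply (h : P ≤ 𝒩 A) (g : P) (χ : IrrCharacter A) :
    (irrPerm h g χ).1 = cn (inv_mem (h g.2)) χ.1 := rfl

theorem le_ker_irrPerm (h : P ≤ 𝒩 A) : A.subgroupOf P ≤ (irrPerm h).ker := fun g hg =>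
  Equiv.ext fun χ => Subtype.ext ((cInv_iff (inv_mem (h g.2))).1 (cInv_of_mem χ.2.isClassFunction (inv_mem hg)))

theorem sInv_of_irrPerm (h : P ≤ 𝒩 A) {χ : IrrCharacter A} (e : ∀ g, irrPerm h g χ = χ) : SInv P χ.1 :=
  (irrAct_fix h χ).1 e

variable [Finite Γ]

theorem exists_cent_rep (h : S ≤ 𝒩 G) (hc : (♯G).Coprime (♯S)) (hs : Group.IsSolvable S)
    {K : ConjClasses G} (hK : ∀ s ∈ S, ∀ g g' : G, (g' : Γ) = s * g * s⁻¹ → ConjClasses.mk g = K →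
      ConjClasses.mk g' = K) : ∃ c : ↥(G ⊓ 𝒞 S), ConjClasses.mk (inclusion inf_le_left c) = K := by
  obtain ⟨g, rfl⟩ := ConjClasses.mk_surjective K
  obtain ⟨k, a, b⟩ := H1.glauberman_exists_elem h hc.symm (.inl hs) g fun s hs => by
    obtain ⟨k, e⟩ := isConj_iff.1 (ConjClasses.mk_eq_mk_iff_isConj.1
      (hK s hs g ⟨_, (mem_normalizer_iff.1 (h hs) _).1 g.2⟩ rfl rfl).symm)
    exact ⟨k, k.2, (congrArg Subtype.val e).symm⟩
  exact ⟨⟨_, G.mul_mem (G.mul_mem a g.2) (G.inv_mem a), b⟩,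
    (ConjClasses.mk_eq_mk_iff_isConj.2 (isConj_iff.2 ⟨(⟨k, a⟩ : G), rfl⟩)).symm⟩

theorem isConj_cent (h : S ≤ 𝒩 G) (hc : (♯G).Coprime (♯S)) (hs : Group.IsSolvable S) {c d : ↥(G ⊓ 𝒞 S)}
    (e : IsConj (inclusion inf_le_left c : G) (inclusion inf_le_left d)) : IsConj c d := by
  obtain ⟨k, e⟩ := isConj_iff.1 e
  replace e : (k : Γ) * c * (k : Γ)⁻¹ = d := congrArg Subtype.val e
  obtain ⟨u, a, b⟩ := H1.glauberman_conj_elem h hc.symm (.inl hs) c.2.2 k.2 (e ▸ d.2.2)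
  exact isConj_iff.2 ⟨⟨u, a⟩, Subtype.ext (b.trans e)⟩

theorem card_cls_inv (h : S ≤ 𝒩 G) (hc : (♯G).Coprime (♯S)) (hs : Group.IsSolvable S)
    (pG : ConjClasses G → Prop) (pC : ConjClasses ↥(G ⊓ 𝒞 S) → Prop)
    (e : ∀ c, pG (.mk (inclusion inf_le_left c)) ↔ pC (.mk c)) :
    Nat.card {K // pG K ∧ ∀ s ∈ S, ∀ g g' : G, (g' : Γ) = s * g * s⁻¹ → ConjClasses.mk g = K →
      ConjClasses.mk g' = K} = Nat.card {c // pC c} := by
  refine card_eq_of_rel (fun K c => ∃ x, ConjClasses.mk x = c ∧ .mk (inclusion inf_le_left x) = K)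
    (fun K a => ?_) (fun c a => ?_) ?_ ?_
  · obtain ⟨c, rfl⟩ := exists_cent_rep h hc hs a.2
    exact ⟨_, (e c).1 a.1, c, rfl, rfl⟩
  · obtain ⟨c, rfl⟩ := ConjClasses.mk_surjective c
    refine ⟨_, ⟨(e c).2 a, fun s hs g g' b d => ?_⟩, c, rfl, rfl⟩
    obtain ⟨k, d⟩ := isConj_iff.1 (ConjClasses.mk_eq_mk_iff_isConj.1 d)
    replace d : (k : Γ) * g * (k : Γ)⁻¹ = c := congrArg Subtype.val d
    refine ConjClasses.mk_eq_mk_iff_isConj.2 (isConj_iff.2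
      ⟨⟨_, (mem_normalizer_iff.1 (h hs) _).1 k.2⟩, Subtype.ext ?_⟩)
    change s * k * s⁻¹ * g' * (s * k * s⁻¹)⁻¹ = c
    rw [b, ← mul_inv_eq_iff_eq_mul.2 (c.2.2 s hs), ← d]; group
  · rintro _ _ _ - - - ⟨c, rfl, rfl⟩ ⟨d, rfl, a⟩
    exact ConjClasses.mk_eq_mk_iff_isConj.2 (isConj_cent h hc hs (ConjClasses.mk_eq_mk_iff_isConj.1 a.symm))
  · rintro _ _ _ - - - ⟨c, rfl, rfl⟩ ⟨d, a, rfl⟩
    exact congrArg (ConjClasses.map (inclusion inf_le_left)) a.symm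

theorem exists_cn_of_over [Fintype N] (hN : N ≤ G) (hn : G ≤ 𝒩 N) {χ : G → ℂ} (hχ : IsIrrCharacter G χ)
    {θ φ : N → ℂ} (hθ : IsIrrCharacter N θ) (hφ : IsIrrCharacter N φ) (h1 : ⟪resLe hN χ, θ⟫ ≠ 0)
    (h2 : ⟪resLe hN χ, φ⟫ ≠ 0) : ∃ g : G, φ = cn (hn g.2) θ := by
  have := normal_subgroupOf_of_le_normalizer hn
  have := Fintype.ofFinite (N.subgroupOf G)
  obtain ⟨g, e⟩ := mem_cjOrbit.1 (hχ.mem_cjOrbit_of_inner (hθ.toSubOf hN) (hφ.toSubOf hN)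
    (by rwa [classInner_res_toSubOf hN]) (by rwa [classInner_res_toSubOf hN]))
  exact ⟨g, congrArg (ofSubOf hN) e⟩

theorem exists_irrI_under [Fintype N] (hN : N ≤ G) (hn : G ≤ 𝒩 N) (h2 : S ≤ 𝒩 G) (h3 : S ≤ 𝒩 N)
    [(N.subgroupOf G).Normal] (hs : Group.IsSolvable S ∨ Group.IsSolvable (G ⧸ N.subgroupOf G))
    (hc : (N.relIndex G).Coprime (♯S)) {χ : G → ℂ} (hχ : IrrI S χ) :
    ∃ θ, IrrI S θ ∧ ⟪resLe hN χ, θ⟫ ≠ 0 := by
  obtain ⟨θ, a, b⟩ := exists_under_le hN hχ.irr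
  have e : ∀ {x} (hx : x ∈ 𝒩 G) (hx' : x ∈ 𝒩 N), CInv x χ → ⟪resLe hN χ, cn hx' θ⟫ ≠ 0 :=
    fun hx hx' c => by rwa [← inner_cn hx', show cn hx' (resLe hN χ) = resLe hN (cn hx χ) from rfl,
      (cInv_iff hx).1 c] at b
  obtain ⟨k, c⟩ := exists_fixed_perm (irrPerm h3) (irrPerm hn) (fun s k =>
    ⟨⟨_, (mem_normalizer_iff.1 (h2 s.2) _).1 k.2⟩, by
      rw [← map_inv]; ext χ u; simp only [Equiv.Perm.mul_apply, irrPerm_apply, cn]; congr 2; simp [mul_assoc]⟩)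
    ((hc.symm.coprime_dvd_left (index_dvd_card _)).coprime_dvd_right
      (index_dvd_of_le (le_ker_irrPerm hn)))
    (hs.imp (isSolvable_range' _) (isSolvable_range _ (le_ker_irrPerm hn))) ⟨θ, a⟩ fun s => by
      obtain ⟨g, d⟩ := exists_cn_of_over hN hn hχ.irr a (irr_cn _ a) b
        (e (inv_mem (h2 s.2)) (inv_mem (h3 s.2)) (hχ.inv _ (inv_mem s.2)))
      exact ⟨g⁻¹, Subtype.ext (d.trans (cn_congr _ (inv_mem (hn g⁻¹.2)) (inv_inv _).symm _))⟩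
  exact ⟨_, ⟨(irrPerm hn k ⟨θ, a⟩).2, sInv_of_irrPerm h3 c⟩, e (le_normalizer (inv_mem k.2)) (inv_mem (hn k.2))
    (cInv_of_mem hχ.irr.isClassFunction (inv_mem k.2))⟩

theorem inner_ne_zero_of [Fintype N] {φ ψ θ : N → ℂ} (hφ : IsCharacter N φ) (hψ : IsCharacter N ψ)
    (hθ : IsIrrCharacter N θ) (h1 : ⟪φ, θ⟫ ≠ 0) (h2 : ⟪ψ, θ⟫ ≠ 0) : ⟪φ, ψ⟫ ≠ 0 :=
  over_trans (le_refl N) hφ hθ hψ h1 (mt classInner_eq_zero_comm.1 h2)

theorem exists_irrI_over_comm [Fintype N] (hN : N ≤ G) (hd : ⁅G, G⁆ ≤ N) (h2 : S ≤ 𝒩 G) (h3 : S ≤ 𝒩 N)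
    (hc : (N.relIndex S).Coprime (N.relIndex G)) {θ : N → ℂ} (hθ : IrrI S θ) :
    ∃ χ, IrrI S χ ∧ ⟪resLe hN χ, θ⟫ ≠ 0 := by
  have := normal_subgroupOf_of_le_normalizer (le_norm_of_der_le hd hN)
  have := Fintype.ofFinite (N.subgroupOf G)
  have := Fintype.ofFinite G
  have h4 : commutator G ≤ N.subgroupOf G := map_le_iff_le_comap.1 (map_subtype_commutator G ▸ hd)
  obtain ⟨χ, a, b⟩ := exists_over_le hN hθ.irr
  let L : Subgroup (G →* ℂˣ) :=
    { carrier := {l | N.subgroupOf G ≤ l.ker}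
      one_mem' := fun _ _ => rfl
      mul_mem' := fun {k l} c d x e => by simp [show k x = 1 from c e, show l x = 1 from d e]
      inv_mem' := fun {k} c x e => by simp [show k x = 1 from c e] }
  letI : MulAction L (IrrCharacter G) :=
    { smul := fun l χ => ⟨fun g => χ.1 g * l.1 g, χ.2.mul_linear _⟩
      one_smul := fun χ => Subtype.ext (funext fun g => mul_one _)
      mul_smul := fun k l χ => Subtype.ext (funext fun g => by
        change χ.1 g * ((k.1 g * l.1 g : ℂˣ) : ℂ) = χ.1 g * l.1 g * k.1 g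
        rw [Units.val_mul]; ring) }
  obtain ⟨k, c⟩ := exists_fixed_perm (irrPerm h2) (MulAction.toPermHom L _) (fun s k =>
    ⟨⟨k.1.comp (G.normalizerMonoidHom ⟨_, inv_mem (h2 s.2)⟩).toMonoidHom, fun x e =>
      k.2 ((mem_normalizer_iff.1 (inv_mem (h3 s.2)) _).1 e :)⟩, by
      rw [mul_inv_eq_iff_eq_mul]; ext; rfl⟩)
    ((hc.coprime_dvd_left ((index_dvd_of_le (le_ker_irrPerm h2)).trans
      (relIndex_dvd_of_le_left S hN))).coprime_dvd_right ((index_dvd_card _).trans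
      (card_linear_le_ker h4).dvd)) (.inr (isSolvable_range' _ inferInstance)) ⟨χ, a⟩ fun s => by
      obtain ⟨l, d, e⟩ := exists_mul_linear_of_over h4 a (irr_cn (inv_mem (h2 s.2)) a) (by
        refine (classInner_toSubOf hN (resLe hN (cn (inv_mem (h2 s.2)) χ)) (resLe hN χ)).trans_ne
          (inner_ne_zero_of ((char_cn _ a.isCharacter).resLe hN) (a.isCharacter.resLe hN) hθ.irr ?_ b)
        rwa [over_cn hN _ (inv_mem (h3 s.2)) (hθ.inv _ (inv_mem s.2))])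
      exact ⟨⟨l, d⟩, Subtype.ext e⟩
  refine ⟨_, ⟨(k • (⟨χ, a⟩ : IrrCharacter G)).2, sInv_of_irrPerm h2 c⟩, ?_⟩
  convert b using 2
  exact funext fun n => (congrArg (fun u : ℂˣ => χ _ * (u : ℂ)) (k.2 (x := ⟨n, hN n.2⟩) n.2)).trans (mul_one _)

omit [Finite Γ] in
theorem sup_der_lt [(N.subgroupOf G).Normal] (h : N < G) (hs : Group.IsSolvable (G ⧸ N.subgroupOf G)) :
    N ⊔ ⁅G, G⁆ < G := (sup_le h.le (der_le G)).lt_of_ne fun e => by
  have : Nontrivial (G ⧸ N.subgroupOf G) := QuotientGroup.nontrivial_iff.2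
    (mt subgroupOf_eq_top.1 h.not_ge)
  have h1 : N.subgroupOf G ⊔ commutator G = ⊤ := map_injective G.subtype_injective (by
    rw [Subgroup.map_sup, map_subgroupOf_eq_of_le h.le, map_subtype_commutator, e,
      ← MonoidHom.range_eq_map, range_subtype])
  have h2 := congrArg (Subgroup.map (QuotientGroup.mk' (N.subgroupOf G))) h1
  rw [Subgroup.map_sup, H1.map_mk'_eq_bot_iff.2 le_rfl, bot_sup_eq, commutator_def, map_commutator,
    map_top_of_surjective _ (QuotientGroup.mk'_surjective _)] at h2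
  exact (Group.IsSolvable.commutator_lt_top_of_nontrivial (G ⧸ N.subgroupOf G)).ne h2

theorem exists_irrI_over_solv [Fintype N] (hN : N ≤ G) (hn : G ≤ 𝒩 N) (h2 : S ≤ 𝒩 G) (h3 : S ≤ 𝒩 N)
    [hi : (N.subgroupOf G).Normal] (hs : Group.IsSolvable (G ⧸ N.subgroupOf G))
    (hc : (N.relIndex S).Coprime (N.relIndex G)) {θ : N → ℂ} (hθ : IrrI S θ) :
    ∃ χ, IrrI S χ ∧ ⟪resLe hN χ, θ⟫ ≠ 0 := by
  revert hi
  induction G using WellFoundedLT.induction with | ind G ih => ?_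
  intro hi hs
  rcases hN.eq_or_lt with rfl | h4
  · exact ⟨θ, hθ, hθ.irr.inner_self.trans_ne one_ne_zero⟩
  obtain ⟨D, h7, h6, h9, h10⟩ : ∃ D < G, S ≤ 𝒩 D ∧ N ≤ D ∧ ⁅G, G⁆ ≤ D := ⟨_, sup_der_lt h4 hs,
    H1.le_normalizer_sup h3 (h2.trans (norm_le_norm_der G)), le_sup_left, le_sup_right⟩
  have h5 := h7.le
  have h8 := isSolvable_quotient_comap (N := N.subgroupOf G) (inclusion h5) hs
  have := normal_subgroupOf_of_le_normalizer (h5.trans hn)
  have := Fintype.ofFinite D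
  obtain ⟨ψ, a, b⟩ := ih D h7 h9 (h5.trans hn) h6
    (hc.coprime_dvd_right (Dvd.intro _ (relIndex_mul_relIndex _ _ _ h9 h5))) h8
  obtain ⟨χ, c, d⟩ := exists_irrI_over_comm h5 h10 h2 h6 ((hc.coprime_dvd_left
    (relIndex_dvd_of_le_left S h9)).coprime_dvd_right (relIndex_dvd_of_le_left G h9)) a
  exact ⟨χ, c, over_trans h9 (c.irr.isCharacter.resLe h5) a.irr hθ.irr.isCharacter d b⟩

omit [Finite Γ] in
theorem norm_stab (h : S ≤ 𝒩 N) {θ : N → ℂ} (hθ : SInv S θ) : S ≤ 𝒩 (stab θ) :=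
  (le_stab.2 ⟨h, hθ⟩).trans le_normalizer

theorem exists_irrI_over' [Fintype N] (hN : N ≤ G) (hn : G ≤ 𝒩 N) (h2 : S ≤ 𝒩 G) (h3 : S ≤ 𝒩 N)
    [(N.subgroupOf S).Normal] (hs : Group.IsSolvable (S ⧸ N.subgroupOf S))
    (hc : (N.relIndex S).Coprime (N.relIndex G)) {θ : N → ℂ} (hθ : IrrI S θ) :
    ∃ χ, IrrI S χ ∧ ⟪resLe hN χ, θ⟫ ≠ 0 := by
  have h4 : N ≤ G ⊓ stab θ := le_inf hN (self_le_stab hθ.irr.isClassFunction)
  have h5 : S ≤ 𝒩 ↑(G ⊓ stab θ) := H1.le_normalizer_inf h2 (norm_stab h3 hθ.inv)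
  have h6 : G ⊓ stab θ ≤ G := inf_le_left
  obtain ⟨ψ, a, b⟩ := exists_irrI_over h4 h5 h3 hs
    (hc.coprime_dvd_right (Dvd.intro _ (relIndex_mul_relIndex _ _ _ h4 h6))) hθ inf_le_right
  have := Fintype.ofFinite ↥(G ⊓ stab θ)
  have := Fintype.ofFinite G
  have := Fintype.ofFinite (N.subgroupOf G)
  have := Fintype.ofFinite ((G ⊓ stab θ).subgroupOf G)
  have := normal_subgroupOf_of_le_normalizer hn
  have h7 : (G ⊓ stab θ).subgroupOf G = inertia (toSubOf G θ) := Subgroup.ext fun g =>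
    ⟨fun u => funext fun n => (mem_inf.1 u).2.2 _ _ rfl, fun u =>
      mem_inf.2 ⟨g.2, hn g.2, (cInv_iff (hn g.2)).2 (congrArg (ofSubOf hN) (mem_inertia.1 u))⟩⟩
  have e : ∀ χ, IsIrrCharacter G χ → ⟪resLe h6 χ, ψ⟫ ≠ 0 → indLe G ψ = χ := fun χ c d =>
    (clifford_corr_aux (hθ.irr.toSubOf hN) h7 (subgroupOf_mono G h4)
      (a.irr.toSubOf h6) ((classInner_toSubOf hN (resLe h4 ψ) θ).trans_ne b) c
      ((classInner_res_toSubOf h6 χ ψ).trans_ne d)).1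
  obtain ⟨χ, c, d⟩ := exists_over_le h6 a.irr
  exact ⟨χ, ⟨c, fun s hs => (cInv_iff (h2 hs)).2 ((e _ (irr_cn _ c) (by
    rwa [over_cn h6 _ (h5 hs) (a.inv s hs)])).symm.trans (e χ c d))⟩,
    over_trans h4 (c.isCharacter.resLe h6) a.irr hθ.irr.isCharacter d b⟩

omit [Finite Γ] in
theorem exists_compl_mod [G.Normal] [N.Normal] (hN : N ≤ G) (hc : G.index.Coprime (N.relIndex G)) :
    ∃ S : Subgroup Γ, S ⊓ G = N ∧ S ⊔ G = ⊤ ∧ N.relIndex S = G.index := by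
  let f := QuotientGroup.mk' N
  have hf : Function.Surjective f := QuotientGroup.mk'_surjective N
  have hk : f.ker = N := QuotientGroup.ker_mk' N
  have := Normal.map ‹G.Normal› f hf
  have h1 : (G.map f).comap f = G := comap_map_eq_self (hk.trans_le hN)
  obtain ⟨B, -, a, b, c⟩ := H1.exists_complement_of_coprime (N := G.map f) le_top le_normalizer_of_normal
    (by rw [relIndex_top_right, index_map_eq _ hf (hk.trans_le hN), ← relIndex_ker, hk]; exact hc.symm)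
  refine ⟨B.comap f, by rw [← h1, ← comap_inf, a, MonoidHom.comap_bot, hk], by
    rw [← h1, comap_sup_eq f _ _ hf, b, comap_top], ?_⟩
  refine (congrArg (relIndex · _) hk).symm.trans ?_
  rw [relIndex_ker, map_comap_eq_self_of_surjective hf, c, relIndex_top_right,
    index_map_eq _ hf (hk.trans_le hN)]

end Cfsg.Agent.C3
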