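import Cfsg.Agent.B.Orth
import Cfsg.Agent.B.Defect
import Cfsg.Agent.H3.Mackey
import Cfsg.Agent.GS.Lem4
import Cfsg.Prelude.Def_RootSubgroups

/-! The solvable radical; Kazarin's theorem on classes of prime power size. -/

set_option autoImplicit false

namespace Cfsg.Agent.C3

open Cfsg Subgroup H2 H3 BG B

universe u

variable {G : Type u} [Group G] {N : Subgroup G} {x : G} {p q r k j : ℕ}

theorem le_solvRad [h : N.Normal] (hs : Group.IsSolvable N) : N ≤ solvableRadical G := le_sSup ⟨h, hs⟩

variable [Finite G]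

theorem solvRad_spec (G : Type u) [Group G] [Finite G] :
    (solvableRadical G).Normal ∧ Group.IsSolvable (solvableRadical G) :=
  H1.sSup_mem_of_sup_closed {N : Subgroup G | N.Normal ∧ Group.IsSolvable N}
    ⟨inferInstance, inferInstance⟩ fun a ha b hb => by
      have := ha.1
      have := hb.1
      exact ⟨inferInstance, H1.isSolvable_sup le_normalizer_of_normal ha.2 hb.2⟩

instance solvRad_char (G : Type u) [Group G] [Finite G] : (solvableRadical G).Characteristic :=
  characteristic_iff_map_le.2 fun e =>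
    have := (solvRad_spec G).1.map e.toMonoidHom e.surjective
    le_solvRad (H1.isSolvable_map _ (solvRad_spec G).2)

theorem solv_of_le_solvRad (h : N ≤ solvableRadical G) : Group.IsSolvable N :=
  H1.isSolvable_of_le h (solvRad_spec G).2

theorem map_solvRad_le (N : Subgroup G) [N.Normal] :
    (solvableRadical N).map N.subtype ≤ solvableRadical G :=
  have := H1.normal_map_subtype_of_char N (solvableRadical N)
  le_solvRad (H1.isSolvable_map _ (solvRad_spec N).2)

theorem mem_solvRad_iff : x ∈ solvableRadical G ↔ Group.IsSolvable (normalClosure {x}) :=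
  ⟨fun h => solv_of_le_solvRad (normalClosure_le_normal (by simpa)),
    fun h => le_solvRad h (subset_normalClosure rfl)⟩

theorem eq_one_of_red {M : Ideal AlgInt} [Fact q.Prime] [PMod q M] {z : ℂ} {n : ℕ} (hn : ¬ q ∣ n)
    (h : z ^ n = 1) (h1 : red M z = 1) : z = 1 := by
  by_contra h2
  have a : z ∈ O M := mem_O_of_pow_eq_one (by rintro rfl; simp at hn) h
  have b := congrArg (red M) ((mul_eq_zero.1 ((geom_sum_mul z n).trans (sub_eq_zero.2 h))).resolve_right
    (sub_ne_zero.2 h2))
  rw [red_sum _ _ fun i _ => pow_mem a i, Finset.sum_congr rfl fun i _ => red_pow a i, h1] at b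
  exact hn ((natCast_F_eq_zero_iff (M := M) n).1 (by simpa using b))

theorem prime_of_gen (hx : normalClosure {x} = ⊤) (hp : p.Prime) (hc : (𝒞₁ x).index = p ^ k)
    (hq : q.Prime) (hd : q ∣ ♯G) : q = p ∨ q ∣ orderOf x := by
  classical
  by_contra! h
  have := Fact.mk hq
  have := Fact.mk hp
  obtain ⟨M, _⟩ := exists_pMod q
  obtain ⟨M', _⟩ := exists_pMod p
  obtain ⟨y, hy⟩ := exists_prime_orderOf_dvd_card' q hd
  have a := congrArg (red M') ((isPBlock_principal (M := M) (G := G)).closed.weak_orth (x := 1) (y := y)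
    (by simpa using hq.ne_one) hy.symm.dvd)
  rw [red_sum _ _ fun χ _ => by
    split_ifs; exacts [mul_mem (irr_mem_O _ _) (irr_mem_O _ _), zero_mem _],
    Finset.sum_eq_single (oneIrr G) (fun χ _ b => ?_) (by simp), if_pos oneIrr_mem] at a
  · simp [oneIrr] at a
  split_ifs with c
  swap
  · simp
  have d := ((sameBlock_iff isIrrCharacter_one χ.2).1 c x).symm
  have e : red M ((𝒞₁ x).index : ℂ) ≠ 0 := red_natCast_ne_zero fun e =>
    h.1 ((Nat.prime_dvd_prime_iff_eq hq hp).1 (hq.dvd_of_dvd_pow (hc ▸ e)))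
  rw [centralChar, centralChar, mul_one, div_one] at d
  rw [red_mul (irr_mem_O _ _) (irr_mem_O _ _), ← χ.2.cast_charDegree]
  refine mul_eq_zero_of_left (by_contra fun f => b (Subtype.ext ?_)) _
  have g : ¬ p ∣ charDegree χ.1 := fun ⟨m, g⟩ => f (by
    rw [g, Nat.cast_mul, red_mul (natCast_mem _ _) (natCast_mem _ _), red_p, zero_mul])
  have := χ.2.isClassFunction.charCenter_normal
  have := χ.2.isClassFunction.charKer_normal
  have i := (χ.2.eq_zero_or_mem_charCenter x (hc ▸ (hp.coprime_iff_not_dvd.2 g).symm.pow_right k)).resolve_left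
    fun i => e (by rw [← d, i]; simp)
  have l : χ.1 1 = 1 := χ.2.degree_eq_one_iff.2 (commutator_le.2 fun g _ z _ =>
    χ.2.isClassFunction.commutator_mem_charKer (hx.ge.trans (normalClosure_le_normal (by simpa)) trivial) g)
  obtain ⟨lam, m⟩ := χ.2.isCharacter.exists_linear l
  rw [l, div_one, red_mul (natCast_mem _ _) (irr_mem_O _ _), mul_eq_left₀ e] at d
  refine χ.2.eq_one_of_charKer_eq_top (top_le_iff.1 (hx.ge.trans (normalClosure_le_normal ?_)))
  rw [Set.singleton_subset_iff, SetLike.mem_coe, χ.2.mem_charKer_iff, l]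
  exact eq_one_of_red h.2 (by rw [m, ← Units.val_pow_eq_pow_val, ← map_pow, pow_orderOf_eq_one]; simp) d

theorem index_cent1_pow (hp : p.Prime) (hc : (𝒞₁ x).index = p ^ k) {y : G} (hy : y ∈ zpowers x) :
    ∃ j, (𝒞₁ y).index = p ^ j :=
  let ⟨j, _, h⟩ := (Nat.dvd_prime_pow hp).1 (hc ▸ index_dvd_of_le (GS.cent1_le_cent1 hy)); ⟨j, h⟩

/-- Kazarin's theorem. -/
theorem kazarin (hp : p.Prime) (hc : (𝒞₁ x).index = p ^ k) : x ∈ solvableRadical G := by
  induction' hn : ♯G using Nat.strong_induction_on with n ih generalizing G k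
  refine GS.mem_of_forall_pelt fun r hr y hy ⟨j, a⟩ => ?_
  obtain ⟨k, b⟩ := index_cent1_pow hp hc hy
  by_cases c : normalClosure {y} = ⊤
  · have := burnside_pq hp hr fun q hq d => (prime_of_gen c hp b hq d).imp_right fun e =>
      (Nat.prime_dvd_prime_iff_eq hq hr).1 (hq.dvd_of_dvd_pow (a ▸ e))
    exact le_solvRad (N := ⊤) inferInstance trivial
  obtain ⟨k, -, d⟩ := (Nat.dvd_prime_pow hp).1 (b ▸ GS.index_cent1_sub_dvd
    (N := normalClosure {y}) ⟨y, subset_normalClosure rfl⟩)
  exact map_solvRad_le _ (mem_map_of_mem _ (ih _ (hn ▸ card_lt_of_ne_top c) d rfl))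

theorem le_cent1_of_coprime [N.Normal] (h : (♯N).Coprime (𝒞₁ x).index) : N ≤ 𝒞₁ x :=
  relIndex_eq_one.1 (Nat.eq_one_of_dvd_coprimes h (relIndex_dvd_card _ _)
    (H1.relIndex_dvd_index_of_normal_right _ N))

theorem closure_comm_of_pCore [hp : Fact p.Prime] (h : pCore p G = ⊥) (hc : (𝒞₁ x).index = p ^ k) :
    IsMulCommutative (normalClosure {x}) := by
  have a : normalClosure {x} ≤ 𝒞 (fittingSubgroup G) := normalClosure_le_normal (by
    refine Set.singleton_subset_iff.2 fun g hg => mem_centralizer_singleton_iff.1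
      (le_cent1_of_coprime (N := fittingSubgroup G) ?_ hg)
    rw [hc]
    exact ((H1.coprime_pPrimeCore p G).coprime_dvd_left (card_dvd_of_le (by
      simpa [h] using H1.fittingSubgroup_le_pCore_sup_pPrimeCore (G := G) p))).pow_right _)
  exact GS.comm_iff_le_cent.2 (a.trans (H1.centralizer_anti (H1.le_fittingSubgroup_of_le_centralizer
    (mem_solvRad_iff.1 (kazarin hp.out hc)) (a.trans (H1.centralizer_anti inf_le_left)))))

/-- The normal closure of an element with a class of `p`-power size is abelian modulo `O_p`. -/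
theorem der_closure_le [hp : Fact p.Prime] (hc : (𝒞₁ x).index = p ^ k) :
    ⁅normalClosure {x}, normalClosure {x}⁆ ≤ pCore p G := by
  obtain ⟨j, -, a⟩ := (Nat.dvd_prime_pow hp.out).1 (hc ▸ GS.index_cent1_quot_dvd (N := pCore p G) x)
  have b := closure_comm_of_pCore (H1.pCore_quotient_eq_bot _ rfl) a
  rw [H1.commutator_le_iff_map_mk', map_normalClosure _ _ (QuotientGroup.mk'_surjective _),
    Set.image_singleton]
  exact GS.comm_iff_le_cent.1 b

end Cfsg.Agent.C3
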