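import Cfsg.Agent.GS.Thomp
import Cfsg.Agent.GS.Cnt
import Cfsg.Agent.H2.Count

/-! Solvability from nilpotent local subgroups; Kegel's lemma. -/

set_option autoImplicit false

namespace Cfsg.Agent.C3

open Cfsg Subgroup H2 BG
open scoped IsMulCommutative

universe u

variable {Γ : Type u} [Group Γ] [Finite Γ]

theorem solv_of_pNil (H : Subgroup Γ) (h : ∀ p : ℕ, p.Prime → p ≠ 2 → PNil p H) :
    Group.IsSolvable H := by
  induction' hn : ♯H using Nat.strong_induction_on with n ih generalizing H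
  by_cases h2 : ∀ q : ℕ, q.Prime → q ∣ ♯H → q = 2
  · have := Fact.mk Nat.prime_two
    exact H1.isSolvable_of_isPGroup (H1.isPGroup_iff_forall_prime.2 h2)
  push Not at h2
  obtain ⟨p, hp, hd, h2⟩ := h2
  have := Fact.mk hp
  have h3 := pNil_iff_card.1 (h p hp h2)
  have h4 : resOf p H < H := (resOf_le p H).lt_of_ne fun e =>
    hp.coprime_iff_not_dvd.1 h3.symm (by rwa [e])
  refine H1.isSolvable_of_normal_of_quotient (pResidual p H) ?_
    (H1.isSolvable_of_isPGroup (isPGroup_quotient_pResidual p H))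
  rw [pResidual_eq_subgroupOf]
  exact H1.isSolvable_subgroupOf (ih _ (hn ▸ card_lt_of_lt h4) _
    (fun q a b => (h q a b).mono h4.le) rfl)

theorem solv_of_local (G : Subgroup Γ) [G.Normal] (h : ∀ p : ℕ, p.Prime → p ≠ 2 → ∃ P, SylIn p P G ∧
    ∀ K, 𝒩 P ≤ K → ¬ G ≤ K → PNil p (K ⊓ G)) : Group.IsSolvable G := by
  obtain ⟨M, -, ⟨h1, h2, h3⟩, h4⟩ := H1.exists_maximal_ge
    (fun M : Subgroup Γ => M.Normal ∧ M ≤ G ∧ Group.IsSolvable M) (N := ⊥)
    ⟨inferInstance, bot_le, inferInstance⟩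
  refine H1.isSolvable_of_map (QuotientGroup.mk' M)
    (by rw [QuotientGroup.ker_mk']; exact H1.isSolvable_of_le inf_le_right h3)
    (solv_of_pNil _ fun p hp h5 => ?_)
  have := Fact.mk hp
  obtain ⟨P, h6, h7⟩ := h p hp h5
  have h8 := h6.map (QuotientGroup.mk' M)
  by_cases h9 : P.map (QuotientGroup.mk' M) = ⊥
  · exact pNil_of_coprime (hp.coprime_iff_not_dvd.2 (h8.eq_bot_iff.1 h9)).symm
  obtain ⟨Z, a, b, c, d⟩ := GS.exists_gt h5 h8 h9
  have e : 𝒩 P ≤ (𝒩 Z).comap (QuotientGroup.mk' M) :=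
    map_le_iff_le_comap.1 ((H1.map_le_normalizer_map _ le_rfl).trans c)
  by_cases f : G ≤ (𝒩 Z).comap (QuotientGroup.mk' M)
  · have g : ⊤ ≤ (𝒩 Z).comap (QuotientGroup.mk' M) :=
      (h6.frattini_sup le_top le_normalizer_of_normal).ge.trans (sup_le f (inf_le_right.trans e))
    have : Z.Normal := H1.normal_of_top_le_normalizer fun x _ => by
      obtain ⟨x, rfl⟩ := QuotientGroup.mk'_surjective M x; exact g trivial
    have i := h4 (Z.comap (QuotientGroup.mk' M)) ⟨inferInstance, (comap_mono (a.trans h8.le)).trans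
      (by rw [H1.comap_map_mk']; exact sup_le le_rfl h2), H1.isSolvable_comap_mk' M h3
      (H1.isSolvable_of_isPGroup (h8.pgrp.to_le a))⟩ (H1.le_comap_mk'' M Z)
    exact (b (by rw [← H1.map_comap_mk' M Z, i, H1.map_mk'_eq_bot_iff])).elim
  refine d (((h7 _ e f).map (QuotientGroup.mk' M)).mono ?_)
  rintro _ ⟨⟨x, i, rfl⟩, j⟩
  exact ⟨x, ⟨j, i⟩, rfl⟩

omit [Finite Γ] in
theorem mul_pow_eq_prod {V : Subgroup Γ} [V.Normal] [IsMulCommutative V] (v : V) (t : Γ) (n : ℕ) :
    (v * t) ^ n = (∏ i ∈ Finset.range n, MulAut.conjNormal (t ^ i) v : V) * t ^ n := by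
  induction' n with n ih
  · simp
  rw [pow_succ, ih, Finset.prod_range_succ, coe_mul, MulAut.conjNormal_apply]
  group

theorem cent_of_exp {p : ℕ} (hp : p.Prime) {N V R : Subgroup Γ} [V.Normal] [IsMulCommutative V]
    (h : ∀ g ∉ N, g ^ p = 1) (h1 : V ≤ N) (h2 : R ≤ N) {y : Γ} (hy : y ∈ 𝒩 R) (h3 : y ∉ N)
    (hc : (♯R).Coprime (♯V)) : V ≤ 𝒞 R := by
  classical
  have := Fintype.ofFinite R
  intro v hv
  have a : ∀ s : R, (s : Γ) * y ∉ N := fun s e => h3 ((mul_mem_cancel_left (h2 s.2)).1 e)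
  have b : ∀ s : R, ∏ i ∈ Finset.range p, MulAut.conjNormal ((s * y) ^ i) (⟨v, hv⟩ : V) = 1 := fun s =>
    Subtype.ext (by
      have := mul_pow_eq_prod (⟨v, hv⟩ : V) (s * y) p
      rw [h _ (a s), h _ fun e => a s ((mul_mem_cancel_left (h1 hv)).1 e), mul_one] at this
      exact this.symm)
  have c := Finset.prod_eq_one fun s (_ : s ∈ Finset.univ) => b s
  rw [Finset.prod_comm, Finset.range_eq_Ico, Finset.prod_eq_prod_Ico_succ_bot hp.pos] at c
  have d : ∀ w : V, ((∏ s : R, MulAut.conjNormal (s : Γ) w : V) : Γ) ∈ 𝒞 R := fun w r hr => by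
    have : MulAut.conjNormal r (∏ s : R, MulAut.conjNormal (s : Γ) w : V) =
        ∏ s : R, MulAut.conjNormal (s : Γ) w := by
      rw [map_prod]
      exact Fintype.prod_equiv (Equiv.mulLeft ⟨r, hr⟩) _ _ fun s => by simp
    exact mul_inv_eq_iff_eq_mul.1 (congrArg Subtype.val this)
  refine H1.mem_of_pow_mem_of_coprime (n := ♯R) ?_
    (hc.coprime_dvd_right (H1.orderOf_dvd_card_of_mem hv))
  have e : (⟨v, hv⟩ : V) ^ ♯R ∈ (𝒞 R).subgroupOf V := by
    rw [show (⟨v, hv⟩ : V) ^ ♯R = _ from .trans (by simp) (eq_inv_of_mul_eq_one_left c)]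
    refine inv_mem (prod_mem fun i hi => ?_)
    have f : ∀ s : R, (s * y) ^ i * (y ^ i)⁻¹ ∈ R := fun s => GS.mul_pow_mem_coset hy s.2 i
    obtain ⟨j, hj⟩ := Nat.exists_mul_mod_eq_one_of_coprime
      (Nat.coprime_of_lt_prime (by have := Finset.mem_Ico.1 hi; omega) (Finset.mem_Ico.1 hi).2 hp).symm
      hp.one_lt
    have g : ∀ s : R, ((s * y) ^ i) ^ j = s * y := fun s => by
      rw [← pow_mul, ← Nat.div_add_mod (i * j) p, hj.2, pow_add, pow_mul, h _ (a s), one_pow, one_mul,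
        pow_one]
    have k : Function.Bijective fun s : R => (⟨_, f s⟩ : R) := Finite.injective_iff_bijective.1
      fun s s' e => Subtype.ext (mul_right_cancel (b := y) (by
        rw [← g, ← g s', mul_right_cancel (congrArg Subtype.val e)]))
    rw [Fintype.prod_bijective _ k _ (fun s => MulAut.conjNormal (s : Γ)
      (MulAut.conjNormal (y ^ i) (⟨v, hv⟩ : V))) fun s =>
        by rw [← MulAut.mul_apply, ← map_mul, inv_mul_cancel_right]]
    exact d _
  exact e

omit [Finite Γ] in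
theorem nil_of_central {N V : Subgroup Γ} [V.Normal] (h : V ≤ 𝒞 N)
    (h1 : Group.IsNilpotent (N.map (QuotientGroup.mk' V))) : Group.IsNilpotent N :=
  Subgroup.isNilpotent_of_ker_le_center ((QuotientGroup.mk' V).subgroupMap N) fun x hx =>
    mem_center_iff.2 fun g => Subtype.ext
      (h ((QuotientGroup.eq_one_iff x.1).1 (congrArg Subtype.val hx)) g g.2)

/-- Kegel's lemma. -/
theorem kegel {p : ℕ} (hp : p.Prime) {N : Subgroup Γ} [N.Normal] (h1 : N ≠ ⊤)
    (h : ∀ g ∉ N, g ^ p = 1) : Group.IsNilpotent N := by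
  induction' hn : ♯Γ using Nat.strong_induction_on with n ih generalizing Γ
  have a : ∀ {q : ℕ} [Fact q.Prime] {P K : Subgroup Γ}, SylIn q P N → 𝒩 P ≤ K → ¬ K ≤ N :=
    fun b c d => h1 (top_le_iff.1 ((b.frattini_sup le_top le_normalizer_of_normal).ge.trans
      (sup_le le_rfl (inf_le_right.trans (c.trans d)))))
  have b := solv_of_local N fun q hq _ => by
    have := Fact.mk hq
    obtain ⟨P, hP⟩ := exists_sylIn q N
    refine ⟨P, hP, fun K c d => pNil_of_isNilpotent ?_⟩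
    have := ih _ (hn ▸ card_lt_of_ne_top (H := K) fun e => d (e ▸ le_top)) (N := N.subgroupOf K)
      (fun e => a hP c (subgroupOf_eq_top.1 e)) (fun g e => Subtype.ext (h g e)) rfl
    rwa [← H1.isNilpotent_map_subtype_iff, subgroupOf_map_subtype, inf_comm] at this
  by_cases c : N = ⊥
  · rw [c]; infer_instance
  obtain ⟨V, q, _, d, e, hq, f, g⟩ := H1.exists_minimal_normal_elementary N c b
  have := Fact.mk hq
  have := f.1
  have i := H1.IsElementaryAbelian.isPGroup' f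
  have j : resOf q N ≤ 𝒞 V := resOf_le_iff.2 fun x hx k => GS.mem_cent_of_forall_qelt k
    fun r hr l z hz m => by
      have := Fact.mk hr
      obtain ⟨R, o, t⟩ := GS.exists_sylIn_mem (zpowers_le.2 hx hz) m
      obtain ⟨y, u, v⟩ := GS.exists_of_not_le (a o le_rfl)
      exact le_centralizer_iff.1 (cent_of_exp hp h e o.le u v
        (IsPGroup.coprime_card_of_ne r q l _ _ o.pgrp i)) t
  obtain ⟨Q, k⟩ := exists_sylIn q N
  refine nil_of_central ((g (V ⊓ 𝒞 N) inferInstance inf_le_left).resolve_left ?_ |>.ge.trans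
    inf_le_right) (ih _ (hn ▸ card_quot_lt d) (fun l => h1 ?_) (fun x l => ?_) rfl)
  · refine fun l => inf_Zc_ne_bot k.pgrp.isNilpotent (k.normal_le i e le_normalizer_of_normal)
      le_normalizer_of_normal d (le_bot_iff.1 (l.le.trans' (le_inf inf_le_left ?_)))
    rw [← k.resOf_sup, H1.centralizer_sup]
    exact le_inf (inf_le_left.trans (le_centralizer_iff.1 j)) (inf_le_right.trans inf_le_right)
  · rwa [H1.map_mk'_eq_top_iff, sup_eq_left.2 e] at l
  obtain ⟨x, rfl⟩ := QuotientGroup.mk'_surjective V x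
  rw [← map_pow, h x fun m => l (mem_map_of_mem _ m), map_one]

end Cfsg.Agent.C3
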