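import Cfsg.Agent.C3.Pk0

/-! The automorphisms of the Parker loop over `M₂₃`: a non-split extension `2¹¹ · M₂₃`. -/

set_option autoImplicit false
set_option maxRecDepth 100000

namespace Cfsg.Agent.C3.Pk
open Cfsg Cfsg.Agent.H6 Matrix
open scoped Pointwise

def V : Submodule (ZMod 2) W := golayCode ⊓ LinearMap.ker (LinearMap.proj none)

def aV (π : Spor.M23) (c : V) : V := ⟨act π c, act_mem π.2.1 c.2.1, by
  have h : (π⁻¹ : Spor.M23).1 none = none := (π⁻¹).2.2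
  have : act π c none = c.1 ((π⁻¹ : Spor.M23).1 none) := rfl
  rw [h] at this
  exact this.trans c.2.2⟩

theorem aV_mul (π ρ : Spor.M23) (c : V) : aV (π * ρ) c = aV π (aV ρ c) := Subtype.ext (act_mul _ _ _)
theorem aV_add (π : Spor.M23) (c d : V) : aV π (c + d) = aV π c + aV π d := rfl
theorem aV_one (c : V) : aV 1 c = c := rfl

@[ext] structure E where
  π : Spor.M23
  q : V → ZMod 2
  h : ∀ c d : V, q (c + d) = q c + q d + th (aV π c) (aV π d) + th c d

section inst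
@[reducible] noncomputable def instMulE : Mul E := ⟨fun a b => ⟨a.π * b.π, fun c => a.q (aV b.π c) + b.q c,
  fun c d => by
    have p := a.h (aV b.π c) (aV b.π d)
    have q := b.h c d
    simp only [aV_add, aV_mul]
    linear_combination p + q + th (aV b.π c) (aV b.π d) * h2⟩⟩
@[reducible] noncomputable def instOneE : One E := ⟨⟨1, 0, fun c d => by
  simp only [aV_one, Pi.zero_apply]; linear_combination -th c d * h2⟩⟩
@[reducible] noncomputable def instInvE : Inv E := ⟨fun a => ⟨a.π⁻¹, fun c => a.q (aV a.π⁻¹ c), fun c d => by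
  have p := a.h (aV a.π⁻¹ c) (aV a.π⁻¹ d)
  simp only [← aV_mul, mul_inv_cancel, aV_one] at p
  simp only [aV_add]
  linear_combination p⟩⟩

attribute [local instance] instMulE instOneE instInvE
theorem mul_π' (a b : E) : (a * b).π = a.π * b.π := rfl
theorem mul_q' (a b : E) (c : V) : (a * b).q c = a.q (aV b.π c) + b.q c := rfl

noncomputable instance instGroupE : Group E := Group.ofLeftAxioms
  (fun a b c => E.ext (mul_assoc _ _ _) (funext fun x => by
    simp only [mul_q', mul_π', aV_mul]; ring))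
  (fun a => E.ext (one_mul _) (funext fun x => zero_add _))
  (fun a => E.ext (inv_mul_cancel _) (funext fun x => by
    show a.q (aV a.π⁻¹ (aV a.π x)) + a.q x = 0
    rw [← aV_mul, inv_mul_cancel, aV_one]; linear_combination a.q x * h2))
end inst

theorem mul_π (a b : E) : (a * b).π = a.π * b.π := rfl
theorem mul_q (a b : E) (c : V) : (a * b).q c = a.q (aV b.π c) + b.q c := rfl
theorem one_q (c : V) : (1 : E).q c = 0 := rfl
theorem one_π : (1 : E).π = 1 := rfl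

instance instFiniteE : Finite E :=
  Finite.of_injective (fun a : E => (a.π, a.q)) fun _ _ h => E.ext (congrArg Prod.fst h) (congrArg Prod.snd h)

noncomputable def pr : E →* Spor.M23 := MonoidHom.mk' E.π mul_π

theorem m0 : pg 0 ∈ Spor.M23 := le_M23 (ws := [[0]]) (by decide +kernel) (by simpa using wp_mem_cl (gens := pg) (w := [0]) (ws := [[0]]) (by simp))
theorem m3 : pg 3 ∈ Spor.M23 := le_M23 (ws := [[3]]) (by decide +kernel) (by simpa using wp_mem_cl (gens := pg) (w := [3]) (ws := [[3]]) (by simp))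

noncomputable def e0 : E := ⟨⟨_, m0⟩, fun c => Qf Q0 c, fun c d => lift_spec l0 c.2.1 d.2.1⟩
noncomputable def e3 : E := ⟨⟨_, m3⟩, fun c => Qf Q3 c, fun c d => lift_spec l3 c.2.1 d.2.1⟩

def ch : Lev := (Lev.cons 0 23 [[4,0,3,0,3,3,1,4,1,3,0,4,0,3]]
  (Lev.cons 1 22 [[1,1,4,4,0,0,3,1,1,4,1,1,1]]
  (Lev.cons 2 21 [[3,0,3,0,4,0,0,3,0,0,4,4,0,3]]
  (Lev.cons 3 20 [[1,0,0,3,0,3,0,3,1,0,3,4,1,0]]
  (Lev.cons 5 3 [[1,4,0,0,3,0,3,1,1,4,0,0,4,0,3]]
  (Lev.cons 4 16 [[3,1,1,3,0,0,3,0,3,0,4,4,0,3,3],[4,4,0,3,0,4,0,4,0,0,0,3],[1,4,4,1,4,0,0,0,3,0,4,4],[4,4,1,3,0,3,3,0,3,1,4,1,3,0,4,4]]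
  Lev.nil))))))

theorem pr_surj : Function.Surjective pr := fun π => by
  have a : cl pg ch.ws = Spor.M23 := mP0.cl_eq_of_chain (k := 2) (r := 30) (by decide +kernel)
    (le_M23 (by decide +kernel)) (card_M23.trans (by decide +kernel)).le
  have b : cl pg ch.ws ≤ pr.range.map Spor.M23.subtype := cl_le.2 fun w hw => wp_mem fun l hl => by
    have p0 : pg 0 ∈ pr.range.map Spor.M23.subtype := ⟨_, ⟨e0, rfl⟩, rfl⟩
    have p3 : pg 3 ∈ pr.range.map Spor.M23.subtype := ⟨_, ⟨e3, rfl⟩, rfl⟩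
    have : ∀ w ∈ ch.ws, ∀ l ∈ w, l = 0 ∨ l = 1 ∨ l = 3 ∨ l = 4 := by decide +kernel
    rcases this w hw l hl with rfl | rfl | rfl | rfl
    · exact p0
    · exact inv_mem p0
    · exact p3
    · exact inv_mem p3
  obtain ⟨_, ⟨x, rfl⟩, e⟩ := b (a.ge π.2)
  exact ⟨x, Subtype.ext e⟩

noncomputable def dl (w : W) : E := ⟨1, fun c => w ⬝ᵥ c.1, fun c d => by
  simp only [aV_one, Submodule.coe_add, dotProduct_add]; linear_combination -th c d * h2⟩

theorem dl_π (w : W) : (dl w).π = 1 := rfl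
theorem dl_q (w : W) (c : V) : (dl w).q c = w ⬝ᵥ c.1 := rfl
theorem dl_mem (w : W) : dl w ∈ pr.ker := MonoidHom.mem_ker.2 (dl_π w)
theorem dl_add (v w : W) : dl (v + w) = dl v * dl w :=
  E.ext (by rw [mul_π, dl_π, dl_π, dl_π, mul_one])
    (funext fun c => by rw [mul_q, dl_q, dl_q, dl_q, dl_π, aV_one, add_dotProduct])

noncomputable def θ : W →+ Additive pr.ker :=
  AddMonoidHom.mk' (fun w => Additive.ofMul ⟨dl w, dl_mem w⟩) fun v w =>
    (congrArg Additive.ofMul (Subtype.ext (dl_add v w) :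
      (⟨_, dl_mem (v + w)⟩ : pr.ker) = ⟨_, dl_mem v⟩ * ⟨_, dl_mem w⟩)).trans (ofMul_mul _ _)

theorem θ_val (w : W) : ((θ w).toMul : E) = dl w := rfl

theorem θ_zero (w : W) : θ w = 0 ↔ dl w = 1 :=
  ⟨fun h => by rw [← θ_val, h]; rfl, fun h => Additive.toMul.injective (Subtype.ext ((θ_val w).trans h))⟩

theorem exists_dl {a : E} (h : a.π = 1) : ∃ w, dl w = a := by
  have : ∀ c d, a.q (c + d) = a.q c + a.q d := fun c d => by
    have := a.h c d
    simp only [h, aV_one] at this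
    linear_combination this + th c d * h2
  obtain ⟨f, hf⟩ := ((AddMonoidHom.mk' a.q this).toZModLinearMap 2).exists_extend
  refine ⟨fun p => f (Pi.single p 1), E.ext h.symm (funext fun c => ?_)⟩
  have : f c = a.q c := by simpa using LinearMap.congr_fun hf c
  rw [← this, LinearMap.pi_apply_eq_sum_univ f, dl_q, dotProduct]
  refine Finset.sum_congr rfl fun p _ => ?_
  rw [smul_eq_mul, mul_comm]
  congr 2
  ext x; simp [Pi.single_apply, eq_comm]

theorem dot_code {c d : W} (hc : c ∈ golayCode) (hd : d ∈ golayCode) : c ⬝ᵥ d = 0 := by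
  obtain ⟨u, hu, rfl⟩ := mem_code_iff.1 hc
  obtain ⟨v, hv, rfl⟩ := mem_code_iff.1 hd
  rw [dot_wd, ← card_fs_pc, fs_and]
  exact (ZMod.natCast_eq_zero_iff_even).2 (even_card_inter (fs_mem_csets (isC_enc hu)) (fs_mem_csets (isC_enc hv)))

theorem dual_chk : nall2 (fun h => bor (Nat.beq h 0) (beqb (nall (fun j =>
    Nat.beq (Nat.mod (pc (Nat.land (Nat.mul 4096 h) (enc (Nat.pow 2 j)))) 2) 0) 12) false)) 64 64 = true := by
  decide +kernel

theorem mem_of_dot {w : W} (h : ∀ c ∈ golayCode, w ⬝ᵥ c = 0) : w ∈ golayCode := by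
  obtain ⟨m, hm, rfl⟩ := exists_wd w
  have hu : m % 4096 < 4096 := Nat.mod_lt _ (by norm_num)
  have a : (m ^^^ enc (m % 4096)) % 4096 = 0 := by
    rw [show 4096 = 2 ^ 12 from rfl, Nat.xor_mod_two_pow, show 2 ^ 12 = 4096 from rfl, enc_mod hu, Nat.xor_self]
  have b : m ^^^ enc (m % 4096) < 2 ^ 24 := Nat.xor_lt_two_pow hm (enc_lt _)
  obtain ⟨t, ht⟩ := Nat.dvd_of_mod_eq_zero a
  have := nall2_eq _ _ _ dual_chk t (by omega)
  rw [bor_eq, beq_eq, beqb_eq, ← Bool.not_eq_true, nall_eq] at this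
  have c : t = 0 := this.resolve_right (not_not.2 fun j hj => beq_eq.2 (by
    have hv : wd (enc (2 ^ j)) ∈ golayCode := wd_enc_mem (Nat.pow_lt_pow_right (by norm_num) hj)
    have : wd (4096 * t) ⬝ᵥ wd (enc (2 ^ j)) = 0 := by
      rw [← ht, wd_xor, add_dotProduct, h _ hv, dot_code (wd_enc_mem hu) hv, add_zero]
    rw [dot_wd] at this
    exact Nat.even_iff.1 (ZMod.natCast_eq_zero_iff_even.1 this)))
  rw [c, mul_zero, Nat.xor_eq_zero_iff] at ht
  rw [ht]; exact wd_enc_mem hu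

theorem θ_ker (w : W) : θ w = 0 ↔ (w ∈ golayCode ∨ w + Pi.single none 1 ∈ golayCode) := by
  have o : (1 : W) ∈ golayCode := one_eq_wd ▸ wd_q_mem 23 (by norm_num)
  have z : ∀ x : ZMod 2, x = 0 ∨ x = 1 := by decide
  rw [θ_zero]
  constructor
  · intro h
    have h' : ∀ c ∈ golayCode, c none = 0 → w ⬝ᵥ c = 0 := fun c a b => by
      have := dl_q w ⟨c, a, b⟩
      rw [h, one_q] at this
      exact this.symm
    have k : ∀ c ∈ golayCode, w ⬝ᵥ c = c none * w ⬝ᵥ 1 := fun c hc => by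
      rcases z (c none) with e | e
      · rw [h' c hc e, e, zero_mul]
      · have := h' _ (add_mem hc o) (by simp [e]; rfl)
        rw [dotProduct_add] at this
        rw [e]; linear_combination this - w ⬝ᵥ 1 * h2
    rcases z (w ⬝ᵥ 1) with e | e
    · exact Or.inl (mem_of_dot fun c hc => by rw [k c hc, e, mul_zero])
    · exact Or.inr (mem_of_dot fun c hc => by
        rw [add_dotProduct, k c hc, e, single_dotProduct]; linear_combination c none * h2)
  · intro h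
    refine E.ext ((dl_π w).trans one_π.symm) (funext fun c => ?_)
    rw [dl_q, one_q]
    rcases h with h | h
    · exact dot_code h c.2.1
    · have := dot_code h c.2.1
      rwa [add_dotProduct, single_dotProduct, show c.1 none = 0 from c.2.2, mul_zero, add_zero] at this

theorem θ_conj (g : E) (w : W) : dl (act g.π w) = g * dl w * g⁻¹ := by
  rw [eq_mul_inv_iff_mul_eq]
  refine E.ext (by rw [mul_π, mul_π, dl_π, dl_π, one_mul, mul_one]) (funext fun c => ?_)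
  rw [mul_q, mul_q, add_comm, dl_q, dl_q, dl_π, aV_one, dotProduct, dotProduct,
    ← Equiv.sum_comp (g.π.1⁻¹) (fun p => w p * c.1 p)]
  rfl

noncomputable def sS (w : List ℕ) (u : ℕ) : ℕ :=
  List.rec (motive := fun _ => ℕ) 0 (fun l w ih => Nat.add (bt (cond (Nat.beq l 0) Q0 Q3) (fnWc nC w u)) ih) w
noncomputable def sX (k : ℕ) (w : List ℕ) (u : ℕ) : ℕ :=
  List.rec (motive := fun _ => ℕ) 0 (fun l w ih => cond (Nat.beq l k) (Nat.xor (enc (fnWc nC w u)) ih) ih) w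

theorem ev (a b : W) {w : List ℕ} (hw : ∀ l ∈ w, l = 0 ∨ l = 3) {u : ℕ} (hu : u < 4096) (c : V)
    (hc : c.1 = wd (enc u)) :
    ((wp (fun l => if l = 0 then e0 * dl a else e3 * dl b) w).π : PG) = wp pg w ∧
    (wp (fun l => if l = 0 then e0 * dl a else e3 * dl b) w).q c =
      (sS w u : ZMod 2) + a ⬝ᵥ wd (sX 0 w u) + b ⬝ᵥ wd (sX 3 w u) := by
  induction w with
  | nil => exact ⟨rfl, by simp [sS, sX, wd_zero, one_q]⟩
  | cons l w ih =>
    obtain ⟨p, q⟩ := ih fun l hl => hw l (by simp [hl])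
    have r : (aV (wp (fun l => if l = 0 then e0 * dl a else e3 * dl b) w).π c).1 =
        wd (enc (fnWc nC w u)) := by rw [← act_enc w hu, ← hc, ← p]; rfl
    rw [wp_cons, wp_cons, mul_π, mul_q, q, Subgroup.coe_mul, p]
    generalize aV _ c = c' at r
    rcases hw l (by simp) with rfl | rfl
    · refine ⟨by rw [if_pos rfl, mul_π, dl_π, mul_one]; rfl, ?_⟩
      have s1 : sS (0 :: w) u = bt Q0 (fnWc nC w u) + sS w u := rfl
      have s2 : sX 0 (0 :: w) u = enc (fnWc nC w u) ^^^ sX 0 w u := rfl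
      have s3 : sX 3 (0 :: w) u = sX 3 w u := rfl
      have s4 : (e0 * dl a).q c' = Qf Q0 c' + a ⬝ᵥ c'.1 := by
        rw [mul_q, dl_q, dl_π, aV_one]; rfl
      rw [if_pos rfl, s1, s2, s3, s4, r, Qf, ix_enc (fn_lt w hu), wd_xor, dotProduct_add]
      push_cast; ring
    · refine ⟨by rw [if_neg (by norm_num), mul_π, dl_π, mul_one]; rfl, ?_⟩
      have s1 : sS (3 :: w) u = bt Q3 (fnWc nC w u) + sS w u := rfl
      have s2 : sX 3 (3 :: w) u = enc (fnWc nC w u) ^^^ sX 3 w u := rfl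
      have s3 : sX 0 (3 :: w) u = sX 0 w u := rfl
      have s4 : (e3 * dl b).q c' = Qf Q3 c' + b ⬝ᵥ c'.1 := by
        rw [mul_q, dl_q, dl_π, aV_one]; rfl
      rw [if_neg (by norm_num), s1, s2, s3, s4, r, Qf, ix_enc (fn_lt w hu), wd_xor, dotProduct_add]
      push_cast; ring

theorem fin4 {a b : W} {s0 s1 s2 s3 x0 x1 x2 x3 y0 y1 y2 y3 : ℕ}
    (t0 : (s0 : ZMod 2) + a ⬝ᵥ wd x0 + b ⬝ᵥ wd y0 = 0) (t1 : (s1 : ZMod 2) + a ⬝ᵥ wd x1 + b ⬝ᵥ wd y1 = 0)
    (t2 : (s2 : ZMod 2) + a ⬝ᵥ wd x2 + b ⬝ᵥ wd y2 = 0) (t3 : (s3 : ZMod 2) + a ⬝ᵥ wd x3 + b ⬝ᵥ wd y3 = 0)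
    (hx : x3 = x0 ^^^ x1 ^^^ x2) (hy : y3 = y0 ^^^ y1 ^^^ y2) (s : (s0 + s1 + s2 + s3) % 2 = 1 % 2) :
    False := by
  have s' := (ZMod.natCast_eq_natCast_iff' _ _ 2).2 s
  rw [hx, hy] at t3
  simp only [wd_xor, dotProduct_add, Nat.cast_add, Nat.cast_one] at t3 s'
  generalize a ⬝ᵥ wd x0 = a0, a ⬝ᵥ wd x1 = a1, a ⬝ᵥ wd x2 = a2,
    b ⬝ᵥ wd y0 = b0, b ⬝ᵥ wd y1 = b1, b ⬝ᵥ wd y2 = b2 at *
  exact one_ne_zero (α := ZMod 2) (by
    linear_combination t0 + t1 + t2 + t3 - s' - (a0 + a1 + a2 + b0 + b1 + b2) * h2)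

theorem mem_ker {a : E} : a ∈ pr.ker ↔ a.π = 1 := MonoidHom.mem_ker

theorem lift_mem {H : Subgroup E} (h2' : H ⊔ pr.ker = ⊤) (x : E) : ∃ a, x * dl a ∈ H := by
  have : x ∈ (↑(H ⊔ pr.ker) : Set E) := by rw [h2']; exact Subgroup.mem_top x
  rw [Subgroup.mul_normal] at this
  obtain ⟨y, hy, n, hn, e⟩ := this
  obtain ⟨a, ha⟩ := exists_dl (mem_ker.1 (inv_mem hn))
  refine ⟨a, ?_⟩
  rw [ha, ← e]
  dsimp only
  rw [mul_inv_cancel_right]
  exact hy

theorem enc_mem {u : ℕ} (q : u < 4096) (r : (enc u).testBit 23 = false) : wd (enc u) ∈ V :=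
  ⟨wd_enc_mem q, show wd (enc u) none = 0 from if_neg (by rw [show idx none = 23 from rfl, r]; simp)⟩

theorem rel_eq {H : Subgroup E} (h1 : H ⊓ pr.ker = ⊥) {a b : W} (ha : e0 * dl a ∈ H) (hb : e3 * dl b ∈ H)
    (w : List ℕ) (u : ℕ) (p : ∀ l ∈ w, l = 0 ∨ l = 3) (q : u < 4096) (r : (enc u).testBit 23 = false)
    (s : eqChk 24 5 nP vT w [] = true) :
    (sS w u : ZMod 2) + a ⬝ᵥ wd (sX 0 w u) + b ⬝ᵥ wd (sX 3 w u) = 0 := by
  obtain ⟨x, y⟩ := ev a b p q ⟨_, enc_mem q r⟩ rfl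
  have m : wp (fun l => if l = 0 then e0 * dl a else e3 * dl b) w ∈ H :=
    wp_mem fun l _ => by split_ifs; exacts [ha, hb]
  rw [mP0.toIsPre.wp_eq faithP0 s, wp_nil] at x
  generalize wp (fun l => if l = 0 then e0 * dl a else e3 * dl b) w = g at x y m
  have : g ∈ H ⊓ pr.ker := ⟨m, mem_ker.2 (Subtype.ext x)⟩
  rw [h1, Subgroup.mem_bot] at this
  rw [← y, this, one_q]

theorem nonsplit (H : Subgroup E) (h1 : H ⊓ pr.ker = ⊥) : H ⊔ pr.ker ≠ ⊤ := fun h2' => by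
  obtain ⟨a, ha⟩ := lift_mem h2' e0
  obtain ⟨b, hb⟩ := lift_mem h2' e3
  have t := rel_eq h1 ha hb
  have t0 := t [0,0,0,0,0,3,3,0,0,0,0,0,3,3,0,0,0,0,0,3,3,0,0,0,0,0,3,3] 17 (by decide) (by norm_num) (by decide +kernel) (by decide +kernel)
  have t1 := t [0,0,3,0,0,3,0,0,3,0,0,3,0,0,3,0,0,3,0,0,3] 17 (by decide) (by norm_num) (by decide +kernel) (by decide +kernel)
  have t2 := t [0,3,3,0,3,3,0,3,3,0,3,3,0,3,3] 512 (by decide) (by norm_num) (by decide +kernel) (by decide +kernel)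
  have t3 := t [0,0,0,3,0,0,0,3,0,0,0,3,0,0,0,3,0,0,0,3,0,0,0,3,0,0,0,3] 1025 (by decide) (by norm_num) (by decide +kernel) (by decide +kernel)
  exact fin4 t0 t1 t2 t3 (by decide +kernel) (by decide +kernel) (by decide +kernel)

theorem θ_surj : Function.Surjective θ := fun n => by
  obtain ⟨w, h⟩ := exists_dl (mem_ker.1 n.toMul.2)
  exact ⟨w, Additive.toMul.injective (Subtype.ext ((θ_val w).trans h))⟩

end Cfsg.Agent.C3.Pk
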