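import Cfsg.Agent.C3.Ru0

/-! The Conway–Wales lattice lies in an explicit integral even lattice. -/

set_option autoImplicit false
set_option maxRecDepth 100000

namespace Cfsg.Agent.C3.Ru
open Cfsg.Spor

def cd (p : RuIdx) : ℕ := 4 * p.1.val + p.2.val

def ix (q : ℕ) : RuIdx := (⟨q / 4 % 7, Nat.mod_lt _ (by decide)⟩, ⟨q % 4, Nat.mod_lt _ (by decide)⟩)

def toV (h : ℕ) : RuVec := fun p => ⟨(dg h (2 * cd p) : ℕ), (dg h (2 * cd p + 1) : ℕ)⟩

theorem cd_ix : ∀ q ∈ R, cd (ix q) = q := by decide +kernel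

theorem ix_cd : ∀ p : RuIdx, ix (cd p) = p ∧ cd p ∈ R := by decide +kernel

theorem sum_ix {M : Type} [AddCommMonoid M] (f : RuIdx → M) : ∑ p, f p = (R.map fun q => f (ix q)).sum := by
  have h1 : (R.map ix).Nodup := by decide +kernel
  have h2 : (R.map ix).toFinset = Finset.univ := by
    ext p
    simp only [List.mem_toFinset, List.mem_map, Finset.mem_univ, iff_true]
    exact ⟨cd p, (ix_cd p).2, (ix_cd p).1⟩
  rw [← h2, List.sum_toFinset f h1, List.map_map]
  rfl

def rd (x y : RuVec) : ℤ := ∑ p, ((x p).re * (y p).re + (x p).im * (y p).im)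

theorem rd_comm (x y : RuVec) : rd x y = rd y x := Finset.sum_congr rfl fun p _ => by ring

theorem rd_add (x y z : RuVec) : rd (x + y) z = rd x z + rd y z := by
  unfold rd
  rw [← Finset.sum_add_distrib]
  refine Finset.sum_congr rfl fun p _ => ?_
  simp only [Pi.add_apply, Zsqrtd.re_add, Zsqrtd.im_add]; ring

theorem rd_neg (x z : RuVec) : rd (-x) z = - rd x z := by
  unfold rd
  rw [← Finset.sum_neg_distrib]
  refine Finset.sum_congr rfl fun p _ => ?_
  simp only [Pi.neg_apply, Zsqrtd.re_neg, Zsqrtd.im_neg]; ring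

theorem rd_zero (z : RuVec) : rd 0 z = 0 := by simp [rd]

theorem rd_four (x z : RuVec) : rd (x + x + x + x) z = 4 * rd x z := by
  simp only [rd_add]; ring

theorem norm_eq (x : RuVec) : ruNorm x = rd x x := by
  unfold ruNorm rd
  refine Finset.sum_congr rfl fun p _ => ?_
  rw [Zsqrtd.norm_def]; ring

theorem rd_toV (g h : ℕ) : rd (toV g) (toV h) =
    (((R.map fun q => dg g (2 * q) * dg h (2 * q) + dg g (2 * q + 1) * dg h (2 * q + 1)).sum : ℕ) : ℤ) := by
  unfold rd
  rw [sum_ix, Nat.cast_list_sum, List.map_map]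
  refine congrArg List.sum (List.map_congr_left fun q hq => ?_)
  simp only [toV, cd_ix q hq, Function.comp]
  push_cast; try rfl

theorem orth1_dvd (g h : ℕ) (ho : orth1 g h = true) : (4 : ℤ) ∣ rd (toV g) (toV h) := by
  rw [rd_toV]
  simp only [orth1, Nat.beq_eq] at ho
  omega

def S : AddSubgroup RuVec := AddSubgroup.closure ({v | ∃ g ∈ G, v = toV g} ∪ {v | ∃ w : RuVec, v = w + w + w + w})

theorem S_orth (h : ℕ) (ho : orth h = true) : ∀ x ∈ S, (4 : ℤ) ∣ rd x (toV h) := by
  intro x hx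
  induction hx using AddSubgroup.closure_induction with
  | mem x hx =>
    rcases hx with ⟨g, hg, rfl⟩ | ⟨w, rfl⟩
    · exact orth1_dvd g h (List.all_eq_true.1 ho g hg)
    · rw [rd_four]; exact Dvd.intro _ rfl
  | zero => rw [rd_zero]; exact dvd_zero _
  | add x y _ _ h1 h2 => rw [rd_add]; exact dvd_add h1 h2
  | neg x _ h1 => rw [rd_neg]; exact (dvd_neg).2 h1

theorem S_int (y : RuVec) (hy : y ∈ S) : ∀ x ∈ S, (4 : ℤ) ∣ rd x y := by
  intro x hx
  induction hx using AddSubgroup.closure_induction with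
  | mem x hx =>
    rcases hx with ⟨g, hg, rfl⟩ | ⟨w, rfl⟩
    · rw [rd_comm]; exact S_orth g (List.all_eq_true.1 gram g hg) y hy
    · rw [rd_four]; exact Dvd.intro _ rfl
  | zero => rw [rd_zero]; exact dvd_zero _
  | add x y _ _ h1 h2 => rw [rd_add]; exact dvd_add h1 h2
  | neg x _ h1 => rw [rd_neg]; exact (dvd_neg).2 h1

theorem evenG : (G.all fun g => Nat.beq
    ((R.map fun q => dg g (2 * q) * dg g (2 * q) + dg g (2 * q + 1) * dg g (2 * q + 1)).sum % 8) 0) = true := by
  decide +kernel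

theorem S_even : ∀ x ∈ S, (8 : ℤ) ∣ rd x x := by
  intro x hx
  induction hx using AddSubgroup.closure_induction with
  | mem x hx =>
    rcases hx with ⟨g, hg, rfl⟩ | ⟨w, rfl⟩
    · have := List.all_eq_true.1 evenG g hg
      rw [rd_toV]
      simp only [Nat.beq_eq] at this
      omega
    · rw [rd_four, rd_comm, rd_four]; omega
  | zero => rw [rd_zero]; exact dvd_zero _
  | add x y hx hy h1 h2 =>
    have h3 := S_int y hy x hx
    rw [rd_add, rd_comm x, rd_comm y, rd_add, rd_add, rd_comm y x]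
    omega
  | neg x _ h1 => rw [rd_neg, rd_comm, rd_neg]; omega

def sm (l : List (ℕ × ℕ)) (j : ℕ) : ℕ := (l.map fun a => a.1 * dg a.2 j).sum

def cmb (l : List (ℕ × ℕ)) : RuVec := fun p => ⟨(sm l (2 * cd p) : ℕ), (sm l (2 * cd p + 1) : ℕ)⟩

theorem cmb_mem : ∀ l : List (ℕ × ℕ), (∀ a ∈ l, a.2 ∈ G) → cmb l ∈ S
  | [], _ => by
    have : cmb [] = 0 := by funext p; rfl
    rw [this]; exact S.zero_mem
  | a :: l, h => by
    have : cmb (a :: l) = a.1 • toV a.2 + cmb l := by
      funext p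
      ext <;> simp [cmb, sm, toV]
    rw [this]
    exact S.add_mem (S.nsmul_mem (AddSubgroup.subset_closure (Or.inl ⟨a.2, h a List.mem_cons_self, rfl⟩)) _)
      (cmb_mem l fun b hb => h b (List.mem_cons_of_mem _ hb))

def cf (c : ℕ) : List (ℕ × ℕ) := (List.zip ((List.range nG).map (dg c)) G).filter fun a => !(Nat.beq a.1 0)

def cert (v : RuVec) (c : ℕ) : Bool := R.all fun q =>
  decide (((v (ix q)).re - (sm (cf c) (2 * q) : ℕ)) % 4 = 0) && decide (((v (ix q)).im - (sm (cf c) (2 * q + 1) : ℕ)) % 4 = 0)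

theorem cert_mem (v : RuVec) (c : ℕ) (h : cert v c = true) : v ∈ S := by
  have h1 : cmb (cf c) ∈ S := cmb_mem _ fun a ha => (List.of_mem_zip (List.mem_of_mem_filter ha)).2
  let w : RuVec := fun p => ⟨((v p).re - (cmb (cf c) p).re) / 4, ((v p).im - (cmb (cf c) p).im) / 4⟩
  have h2 : v = (w + w + w + w) + cmb (cf c) := by
    funext p
    have h3 := List.all_eq_true.1 h _ (ix_cd p).2
    simp only [(ix_cd p).1, Bool.and_eq_true, decide_eq_true_eq] at h3
    ext
    · simp only [Pi.add_apply, Zsqrtd.re_add, w, cmb]; omega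
    · simp only [Pi.add_apply, Zsqrtd.im_add, w, cmb]; omega
  rw [h2]
  exact S.add_mem (AddSubgroup.subset_closure (Or.inr ⟨w, rfl⟩)) h1

def allC (l : List RuVec) (cs : List ℕ) : Bool := (List.zip l cs).all (fun a => cert a.1 a.2) && Nat.beq l.length cs.length

theorem allC_mem (l : List RuVec) (cs : List ℕ) (h : allC l cs = true) : ∀ v ∈ l, v ∈ S := by
  intro v hv
  simp only [allC, Bool.and_eq_true, List.all_eq_true, Nat.beq_eq] at h
  have : v ∈ (List.zip l cs).map Prod.fst := by rw [List.map_fst_zip (le_of_eq h.2)]; exact hv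
  obtain ⟨a, ha, rfl⟩ := List.mem_map.1 this
  exact cert_mem _ _ (h.1 a ha)

theorem closed (f : RuVec → RuVec) (hf : ∀ u v, f (u + v) = f u + f v) (cs : List ℕ)
    (h : allC (G.map fun g => f (toV g)) cs = true) : ∀ x ∈ S, f x ∈ S := by
  have : S ≤ S.comap (AddMonoidHom.mk' f hf) := by
    apply (AddSubgroup.closure_le _).2
    rintro x (⟨g, hg, rfl⟩ | ⟨w, rfl⟩)
    · exact allC_mem _ _ h _ (List.mem_map.2 ⟨g, hg, rfl⟩)
    · show f (w + w + w + w) ∈ S
      rw [hf, hf, hf]
      exact AddSubgroup.subset_closure (Or.inr ⟨f w, rfl⟩)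
  exact fun x hx => this hx

def mI (v : RuVec) : RuVec := fun p => gI * v p

theorem cT_ok : allC ruTable cT = true := by decide +kernel
theorem c0_ok : allC (G.map fun g => mI (toV g)) cM0 = true := by decide +kernel
theorem c1_ok : allC (G.map fun g => ruRj (toV g)) cM1 = true := by decide +kernel
theorem c2_ok : allC (G.map fun g => ruRk (toV g)) cM2 = true := by decide +kernel
theorem c3_ok : allC (G.map fun g => ruSign (toV g)) cM3 = true := by decide +kernel
theorem c4_ok : allC (G.map fun g => ruShift (toV g)) cM4 = true := by decide +kernel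

theorem L_le : ruLattice ≤ S := by
  apply sInf_le
  refine ⟨allC_mem _ _ cT_ok, fun v hv => ⟨?_, ?_, ?_, ?_, ?_⟩⟩
  · exact closed mI (fun u v => by funext p; simp only [mI, Pi.add_apply, mul_add]) _ c0_ok v hv
  · refine closed ruRj (fun u v => ?_) _ c1_ok v hv
    funext ⟨n, t⟩
    fin_cases t <;> simp only [ruRj, Pi.add_apply] <;> ring
  · refine closed ruRk (fun u v => ?_) _ c2_ok v hv
    funext ⟨n, t⟩
    fin_cases t <;> simp only [ruRk, Pi.add_apply] <;> ring
  · refine closed ruSign (fun u v => ?_) _ c3_ok v hv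
    funext p
    simp only [ruSign, Pi.add_apply]
    split_ifs <;> ring
  · exact closed ruShift (fun u v => rfl) _ c4_ok v hv

end Cfsg.Agent.C3.Ru
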