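import Cfsg.Agent.C3.Deg
import Cfsg.Agent.B.Rank2

/-! Principal blocks and field automorphisms. -/

set_option autoImplicit false

namespace Cfsg.Agent.C3

open Cfsg H3 H2 B Subgroup Finset
open scoped ComplexConjugate

universe u

variable {p : ℕ} [hp : Fact p.Prime] {M : Ideal AlgInt} [hM : PMod p M]
variable {G : Type*} [Group G] [Finite G] {k : ℕ}

theorem mem_principal_iff_lam {χ : IrrCharacter G} :
    χ ∈ principalBlock M G ↔ lam M (χ : G → ℂ) (zF M fun _ => 1) ≠ 0 := by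
  rw [show (fun _ => 1) = (oneIrr G : G → ℂ) from rfl,
    (isPBlock_blockOf χ).lam_zF_ne_zero_iff (self_mem_blockOf χ)]
  exact ⟨fun h => ⟨(isPBlock_principal.eq_of_mem (isPBlock_blockOf χ) h (self_mem_blockOf χ)) ▸ oneIrr_mem,
    blockHeight_one _⟩, fun h => (isPBlock_blockOf χ).eq_of_mem isPBlock_principal h.1 oneIrr_mem ▸
      self_mem_blockOf χ⟩

theorem mem_principal_iff [Fintype G] {χ : IrrCharacter G} :
    χ ∈ principalBlock M G ↔ ∑ g, reg p (χ : G → ℂ) g ≠ 0 := by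
  have a : classInner (reg p (χ : G → ℂ)) (oneIrr G) = (Nat.card G : ℂ)⁻¹ * ∑ g, reg p (χ : G → ℂ) g := by
    simp [classInner_def, oneIrr]
  refine ⟨fun h h0 => mem_principal_iff_lam.1 h ?_, fun h => by_contra fun h0 => h ?_⟩
  · refine (lam_zF (oneIrr G).2.isClassFunction (irr_mem_O _) χ).2.trans ?_
    rw [classInner_reg_symm (oneIrr G).2.isGen χ.2.isGen, a, h0]
    simp
  · have := (isPBlock_principal (M := M)).closed.compl.classInner_reg_eq_zero h0 (not_not.2 oneIrr_mem)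
    simpa [a] using this

theorem defect_principal : blockDefect p (principalBlock M G) = (Nat.card G).factorization p := by
  have := nu_add_blockDefect (p := p) (oneIrr_mem (M := M) (G := G))
  rw [show (oneIrr G : G → ℂ) = fun _ => 1 from rfl, blockHeight_one] at this
  simpa [nu, charDegree] using this

theorem exists_not_dvd_of_defect {B : Set (IrrCharacter G)} (hB : IsPBlock M B)
    (h : blockDefect p B = (Nat.card G).factorization p) : ∃ χ ∈ B, ¬ p ∣ charDegree (χ : G → ℂ) := by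
  obtain ⟨χ, a, b⟩ := exists_height_zero p hB.nonempty
  have := nu_add_blockDefect (p := p) a
  exact ⟨χ, a, fun c => (hp.out.factorization_pos_of_dvd χ.2.charDegree_pos.ne' c).ne' (by unfold nu at this; omega)⟩

theorem mem_principal_of_inv {M : Ideal AlgInt} [PMod 2 M] {χ ψ : IrrCharacter G}
    (hd : ¬ 2 ∣ charDegree (χ : G → ℂ)) (h : lam M (χ : G → ℂ) = lam M (ψ : G → ℂ))
    (hi : ∀ g, ¬ 2 ∣ orderOf g → (ψ : G → ℂ) g = (χ : G → ℂ) g⁻¹) : χ ∈ principalBlock M G := by
  classical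
  have := Fintype.ofFinite G
  obtain ⟨P⟩ := (inferInstance : Nonempty (Sylow 2 G))
  have a : ∀ g, reg 2 (χ : G → ℂ) g ∈ O M := reg_mem_O (irr_mem_O χ)
  refine mem_principal_iff.2 (ne_zero_of_red (M := M) ?_)
  rw [red_sum _ _ fun g _ => a g, sum_eq_sum_centralizer P.2 _ fun u _ x => by
    rw [isClassFunction_reg χ.2.isClassFunction], ← add_sum_erase _ _ (a := 1) (by simp [one_mem]),
    sum_involution (fun g _ => g⁻¹) (fun g b => ?_) (fun g b c d => c ?_) (fun g b => by simpa using b)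
      fun _ _ => inv_inv _, add_zero, reg_of_not_dvd _ reg_one, ← χ.2.cast_charDegree]
  · exact red_natCast_ne_zero hd
  · by_cases c : 2 ∣ orderOf g
    · simp [reg_of_dvd, c]
    have d : red M (centralizer ({g} : Set G)).index ≠ 0 := red_natCast_ne_zero fun d => P.not_dvd_index
      (d.trans (index_dvd_of_le (mem_centralizer_comm.1 (by simpa using (mem_erase.1 b).2))))
    have e := (sameBlock_iff χ.2 ψ.2).1 ((sameBlock_iff_lam χ.2 ψ.2).2 h) g
    have f := red_natCast_ne_zero (M := M) hd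
    rw [centralChar, centralChar, hi g c, hi 1 reg_one, inv_one, ← χ.2.cast_charDegree,
      red_div (mul_mem (natCast_mem _ _) (irr_mem_O _ _)) f, red_div (mul_mem (natCast_mem _ _) (irr_mem_O _ _)) f,
      red_mul (natCast_mem _ _) (irr_mem_O _ _), red_mul (natCast_mem _ _) (irr_mem_O _ _),
      div_left_inj' f, mul_right_inj' d] at e
    rw [reg_of_not_dvd _ c, reg_of_not_dvd _ (by simpa using c), e]
    exact CharTwo.add_self_eq_zero _
  · rw [reg_of_dvd _ (dvd_of_eq (orderOf_eq_prime (by rw [sq, ← d, d]; nth_rw 1 [← d]; simp)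
      (ne_of_mem_erase b)).symm)]
    simp

theorem eq_principal_of_inv {M : Ideal AlgInt} [PMod 2 M] {B : Set (IrrCharacter G)} (hB : IsPBlock M B)
    (h : blockDefect 2 B = (Nat.card G).factorization 2)
    (hi : ∀ χ ∈ B, ∃ ψ ∈ B, ∀ g, ¬ 2 ∣ orderOf g → (ψ : G → ℂ) g = (χ : G → ℂ) g⁻¹) : B = principalBlock M G := by
  obtain ⟨χ, a, b⟩ := exists_not_dvd_of_defect hB h
  obtain ⟨ψ, c, d⟩ := hi χ a
  exact hB.eq_of_mem isPBlock_principal a (mem_principal_of_inv b (hB.lam_eq a c) d)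

/-- The Galois conjugate of an irreducible character. -/
def sg (hk : k.Coprime (Nat.card G)) (χ : IrrCharacter G) : IrrCharacter G := ⟨_, χ.2.comp_pow hk⟩

theorem sg_apply (hk : k.Coprime (Nat.card G)) (χ : IrrCharacter G) (g : G) :
    (sg hk χ : G → ℂ) g = (χ : G → ℂ) (g ^ k) := rfl

theorem sg_injective (hk : k.Coprime (Nat.card G)) : Function.Injective (sg hk) := fun _ _ h =>
  Subtype.ext (funext fun g => by
    obtain ⟨x, rfl⟩ := (powCoprime hk.symm).surjective g
    exact congrFun (congrArg Subtype.val h) x)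

theorem closed_preimage_sg (hk : k.Coprime (Nat.card G)) {B : Set (IrrCharacter G)} (hB : Closed M B) :
    Closed M (sg hk ⁻¹' B) := by
  refine closed_of_blockCoeff_mem fun g => ?_
  obtain ⟨x, rfl⟩ := (powCoprime hk.symm).surjective g
  convert hB.blockCoeff_mem x using 1
  rw [blockCoeff_eq, blockCoeff_eq]
  congr 1
  exact Fintype.sum_bijective (sg hk) (sg_injective hk).bijective_of_finite _ _ fun χ => by
    simp only [sg_apply, one_pow, inv_pow, powCoprime_apply]; congr 1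

omit hp hM in
theorem classInner_pow [Fintype G] (hk : k.Coprime (Nat.card G)) (φ ψ : G → ℂ) :
    classInner (fun g => φ (g ^ k)) (fun g => ψ (g ^ k)) = classInner φ ψ := by
  rw [classInner_def, classInner_def]
  congr 1
  exact Fintype.sum_equiv (powCoprime hk.symm) _ _ fun _ => rfl

omit hM in
theorem exists_fixed_of_not_dvd {α : Type*} (s : Finset α) (f : α → α) (hf : ∀ a ∈ s, f a ∈ s) (w : α → ℕ)
    (hw : ∀ a ∈ s, w (f a) = w a) {e : ℕ} (he : ∀ a ∈ s, f^[p ^ e] a = a) (h : ¬ p ∣ ∑ a ∈ s, w a) :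
    ∃ a ∈ s, f a = a ∧ w a ≠ 0 := by
  classical
  let F : Function.End (Σ a : s, Fin (w a)) := fun x => ⟨⟨f x.1, hf _ x.1.2⟩, x.2.cast (hw _ x.1.2).symm⟩
  have a : ∀ n x, ((F ^ n) x).1 = f^[n] x.1 ∧ (((F ^ n) x).2 : ℕ) = x.2 := fun n => by
    induction n with
    | zero => exact fun _ => ⟨rfl, rfl⟩
    | succ n ih => exact fun x => by rw [pow_succ]; exact ih (F x)
  have b := Equiv.Perm.card_fixedPoints_modEq (f := F) (p := p) (n := e) (funext fun x =>
    Sigma.ext (Subtype.ext ((a _ x).1.trans (he _ x.1.2))) ((Fin.heq_ext_iff (by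
      rw [(a _ x).1, he _ x.1.2]; rfl)).2 (a _ x).2))
  rw [Fintype.card_sigma, sum_congr rfl fun a _ => Fintype.card_fin _, sum_coe_sort] at b
  obtain ⟨⟨x, c⟩⟩ := Fintype.card_pos_iff.1 (Nat.pos_of_ne_zero fun c => h (Nat.modEq_zero_iff_dvd.1 (c ▸ b)))
  exact ⟨x.1, x.1.2, congrArg (·.1.1) c, x.2.pos.ne'⟩

omit hp hM [Finite G] in
theorem iterate_pow (φ : G → ℂ) (n : ℕ) : (fun (φ : G → ℂ) g => φ (g ^ k))^[n] φ = fun g => φ (g ^ k ^ n) := by
  induction n generalizing φ with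
  | zero => simp
  | succ n ih => simp [ih, pow_succ, pow_mul]

variable {N : Subgroup G} [hN : N.Normal]

theorem dvd_sum_over [Fintype N] {B : Set (IrrCharacter G)} (hB : Closed M B) (h : p ∣ N.index)
    (θ : IrrCharacter N) [DecidablePred fun χ : IrrCharacter G => χ ∈ B ∧
      classInner (fun n : N => (χ : G → ℂ) n) θ ≠ 0] :
    p ∣ ∑ χ : IrrCharacter G with χ ∈ B ∧ classInner (fun n : N => (χ : G → ℂ) n) θ ≠ 0,
      charDegree (χ : G → ℂ) ^ 2 := by
  classical
  have := Fintype.ofFinite G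
  have a := om_resA_fC N B θ
  have b := om_up_mem θ.2 (resA_mem_cent le_top (fO_mem (M := M) B))
  rw [mapA_resA, hB.up_fO] at b
  have c : ((∑ χ : IrrCharacter G with χ ∈ B ∧ classInner (fun n : N => (χ : G → ℂ) n) θ ≠ 0,
      charDegree (χ : G → ℂ) ^ 2 : ℕ) : ℂ) = N.index * ((((inertia (θ : N → ℂ)).index * charDegree (θ : N → ℂ) ^ 2 : ℕ) : ℂ) *
      om (θ : N → ℂ) (resA N (fC B))) := by
    have := θ.2.apply_one_ne_zero
    have : (N.index : ℂ) ≠ 0 := Nat.cast_ne_zero.2 index_ne_zero_of_finite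
    rw [a, Nat.cast_sum, sum_filter, mul_sum, mul_sum, mul_sum]
    refine sum_congr rfl fun χ _ => ?_
    by_cases c : χ ∈ B
    · by_cases d : classInner (fun n : N => (χ : G → ℂ) n) θ = 0
      · simp [d]
      · simp only [c, d, Nat.cast_pow, Nat.cast_mul, χ.2.cast_charDegree, θ.2.cast_charDegree, if_true, ne_eq,
          not_false_eq_true, and_self, χ.2.clifford_degree θ.2 d]
        field_simp
    · simp [c]
  rw [← natCast_F_eq_zero_iff (M := M), ← red_natCast, c, red_mul (natCast_mem _ _) (mul_mem (natCast_mem _ _) b),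
    red_natCast, (natCast_F_eq_zero_iff _).2 h, zero_mul]

omit hN in
theorem exists_over_principal [Fintype N] (h : ¬ p ∣ N.index) {η : IrrCharacter N} (h1 : η ∈ principalBlock M N)
    (h2 : ¬ p ∣ charDegree (η : N → ℂ)) : ∃ χ ∈ principalBlock M G, ¬ p ∣ charDegree (χ : G → ℂ) ∧
      classInner (fun n : N => (χ : G → ℂ) n) η ≠ 0 := by
  have := Fintype.ofFinite G
  by_contra! h0
  obtain ⟨c, a, b⟩ := (η.2.isCharacter.ind (G := G)).exists_nat_coeffs
  have d := fun χ => lam_zF (M := M) (p := p) (oneIrr G).2.isClassFunction (irr_mem_O _) χ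
  have e := lam_zF (M := M) (p := p) (oneIrr N).2.isClassFunction (irr_mem_O _) η
  have f : ((N.index * charDegree (η : N → ℂ) : ℕ) : ℂ) * (Nat.card N * classInner (reg p (oneIrr N : N → ℂ)) η /
      (η : N → ℂ) 1) = ∑ χ : IrrCharacter G, (c χ * charDegree (χ : G → ℂ) : ℕ) *
      (Nat.card G * classInner (reg p (oneIrr G : G → ℂ)) χ / (χ : G → ℂ) 1) := by
    have f : classInner (reg p (oneIrr N : N → ℂ)) η = classInner (reg p (oneIrr G : G → ℂ)) (indFun N η) := by
      rw [classInner_indFun_right _ (isClassFunction_reg (oneIrr G).2.isClassFunction)]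
      congr 1; ext; simp [reg, oneIrr]
    rw [f, b, classInner_sum_right, mul_sum, sum_div, mul_sum]
    refine sum_congr rfl fun χ _ => ?_
    have := χ.2.apply_one_ne_zero
    have := η.2.apply_one_ne_zero
    rw [classInner_smul_right, ← N.index_mul_card]
    simp only [Nat.cast_mul, χ.2.cast_charDegree, η.2.cast_charDegree, map_natCast]
    field_simp
  apply_fun red M at f
  rw [red_mul (natCast_mem _ _) e.1, ← e.2, red_sum _ _ fun χ _ => mul_mem (natCast_mem _ _) (d χ).1,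
    sum_eq_zero fun χ _ => ?_] at f
  · exact mul_ne_zero (red_natCast_ne_zero (hp.out.not_dvd_mul h h2)) (mem_principal_iff_lam.1 h1) f
  rw [red_mul (natCast_mem _ _) (d χ).1, ← (d χ).2, mul_eq_zero, red_natCast, natCast_F_eq_zero_iff]
  by_contra! i
  have j := h0 χ (mem_principal_iff_lam.2 i.2) fun j => i.1 (j.mul_left _)
  rw [← conj_classInner, ← classInner_indFun_left _ χ.2.isClassFunction, a] at j
  exact i.1 (by simp_all)

omit hp hM in
theorem pow_mul_inv_mem (hodd : Odd N.index) (hk : ∀ g : G, Odd (orderOf g) → g ^ k = g⁻¹) (g : G) :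
    (g : G ⧸ N) ^ k = (g : G ⧸ N)⁻¹ := by
  obtain ⟨y, a, b⟩ := exists_reg_lift (p := 2) (f := QuotientGroup.mk' N) g fun a =>
    hodd.not_two_dvd_nat (a.trans (orderOf_dvd_natCard _))
  rw [← QuotientGroup.mk'_apply, ← b, ← map_pow, hk y (Nat.odd_iff.2 (Nat.two_dvd_ne_zero.1 a)), map_inv]

omit hp hM in
theorem sg_unique [Fintype N] (hodd : Odd N.index) (hk : k.Coprime (Nat.card G))
    (hk₂ : ∀ g : G, Odd (orderOf g) → g ^ k = g⁻¹) {χ ψ : G → ℂ} (hχ : IsIrrCharacter G χ) (hψ : IsIrrCharacter G ψ)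
    (r1 : ∀ g, χ (g ^ k) = χ g) (r2 : ∀ g, ψ (g ^ k) = ψ g)
    {θ : N → ℂ} (hθ : IsIrrCharacter N θ) (h1 : classInner (fun n : N => χ n) θ ≠ 0)
    (h2 : classInner (fun n : N => ψ n) θ ≠ 0) : χ = ψ := by
  have := Fintype.ofFinite G
  have := Fintype.ofFinite (G ⧸ N)
  obtain ⟨m, a, b⟩ := odd_inner_res hodd hχ hψ hθ h1 h2
  have c : IsCharacter G fun g => χ g * conj (ψ g) := hχ.isCharacter.mul hψ.isCharacter.conj
  obtain ⟨f, d, e⟩ := (c.avg (N := N)).exists_quotient N (le_charKer_avg c.isClassFunction)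
  obtain ⟨σ, j⟩ := exists_galois_pow G hk
  have i := inner_one_ne_zero_of_odd (G := G ⧸ N) hodd d (funext fun g => by
    obtain ⟨g, rfl⟩ := QuotientGroup.mk_surjective g
    rw [← d.apply_inv, ← pow_mul_inv_mem hodd hk₂, ← QuotientGroup.mk_pow, e, ← j _ c.avg.isGen, e, avg_apply]
    simp only [map_mul σ, map_inv₀, map_natCast, map_sum σ, j _ hχ.isGen, j _ hψ.isCharacter.conj.isGen, r1, r2]) (by
    rwa [charDegree_eq (n := m) ((e 1).trans ((avg_mul_conj_one _ _).trans b))])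
  rw [← classInner_comp_of_surjective (QuotientGroup.mk' N) (QuotientGroup.mk'_surjective N)] at i
  simp only [QuotientGroup.mk'_apply, e] at i
  rw [classInner_avg_left, avg_of_forall (fun _ _ _ => rfl)] at i
  refine hχ.eq_of_inner_ne_zero hψ (by simpa [classInner_def] using i)

omit hp hM in
theorem exists_sqrt (lam : G →* ℂˣ) : ∃ t : ℕ, ∀ (g : G) (m : ℕ), Odd m → lam g ^ m = 1 → lam g ^ t * lam g ^ t = lam g := by
  obtain ⟨a, m, b, c⟩ := Nat.exists_eq_two_pow_mul_odd (Nat.card_pos (α := G)).ne'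
  obtain ⟨t, rfl⟩ := b
  refine ⟨t + 1, fun g n d e => ?_⟩
  have : orderOf (lam g) ∣ 2 * t + 1 := ((d.of_dvd_nat (orderOf_dvd_of_pow_eq_one e)).coprime_two_right.pow_right
    a).dvd_of_dvd_mul_left (c ▸ (orderOf_map_dvd lam g).trans (orderOf_dvd_natCard g))
  rw [← pow_add, show t + 1 + (t + 1) = 2 * t + 1 + 1 by ring, pow_succ, orderOf_dvd_iff_pow_eq_one.1 this, one_mul]

omit hp hM in
theorem exists_ext_of_pow {G : Type u} [Group G] [Finite G] {N : Subgroup G} [N.Normal] (hodd : Odd N.index)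
    (hk : k.Coprime (Nat.card G)) (hk₂ : ∀ g : G, Odd (orderOf g) → g ^ k = g⁻¹) {θ : N → ℂ}
    (hθ : IsIrrCharacter N θ) (hinv : ∀ g : G, cjf g θ = θ) (h : ∀ n, θ (n ^ k) = θ n) :
    ∃ χ, IsIrrCharacter G χ ∧ (∀ n : N, χ n = θ n) ∧ ∀ g, χ (g ^ k) = χ g := by
  obtain ⟨Γ, _, _, π, ι, η, a⟩ := exists_cover hθ hinv
  obtain ⟨nu, b⟩ := a.exists_nu hθ
  obtain ⟨l, c, d, e⟩ := Nat.forall_exists_prime_gt_and_modEq (Nat.card Γ) (Nat.card_pos (α := G)).ne' hk
  obtain ⟨l, rfl⟩ := Nat.exists_eq_add_one_of_ne_zero d.ne_zero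
  have := a.normal
  have f := (a.irr hθ).comp_pow (Nat.coprime_of_lt_prime Nat.card_pos.ne' c d)
  obtain ⟨lam, i, j⟩ := exists_linear_of_ext (a.irr_res hθ) a.isChar f.isCharacter (fun _ => rfl) (by
    rintro ⟨_, n, rfl⟩
    simp only [← map_pow, a.η_ι]
    rw [pow_eq_pow_iff_modEq.2 (e.of_dvd ((orderOf_dvd_natCard n).trans (card_subgroup_dvd_card N))), h])
  refine (a.exists_ext_of_nu hθ b (one_mem_of_coprime (b := l) (a.index_self_mem b) ⟨lam, ?_⟩
    (Nat.coprime_of_dvd fun q r s t => ?_))).elim fun χ ⟨n, o⟩ => ?_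
  rotate_right
  · obtain ⟨mu, r, s⟩ := exists_linear_of_ext hθ n.isCharacter (n.comp_pow hk).isCharacter o fun x => by
      rw [← Subgroup.coe_pow, o, h]
    obtain ⟨t, v⟩ := exists_sqrt mu
    refine ⟨_, n.mul_linear (mu ^ t), fun x => by simp [o, MonoidHom.mem_ker.1 (r x.2)], fun g => ?_⟩
    have w : mu (g ^ k) = (mu g)⁻¹ := by
      simpa using congrArg (QuotientGroup.lift N mu r) (pow_mul_inv_mem hodd hk₂ g)
    have x := v g _ hodd (r (N.pow_index_mem g) ▸ (map_pow ..).symm)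
    rw [congrFun s g, MonoidHom.pow_apply, MonoidHom.pow_apply, w, mul_assoc, ← Units.val_mul, inv_pow,
      mul_inv_eq_of_eq_mul x.symm]
  · refine a.eq_nu_pow b le_top (lam.comp (Subgroup.subtype ⊤)) _ (fun y r => i r) fun z hz => ?_
    have r := congrFun j z
    have s : ∀ {z} (hz : z ∈ π.ker), η z = nu ⟨z, IsCover.ker_le_comap hz⟩ * θ 1 := fun hz => by
      simpa [a.apply_one] using b.ker ⟨_, IsCover.ker_le_comap hz⟩ hz 1
    rw [s (pow_mem hz _), s hz, mul_right_comm, mul_left_inj' hθ.apply_one_ne_zero, ← Units.val_mul,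
      Units.val_inj, show nu ⟨z ^ (l + 1), _⟩ = _ from map_pow nu ⟨z, IsCover.ker_le_comap hz⟩ (l + 1),
      pow_succ', mul_right_inj] at r
    exact r.symm.trans (zpow_natCast ..).symm
  · have := Fact.mk r
    obtain ⟨g, v⟩ := exists_prime_orderOf_dvd_card' q (s.trans N.index_dvd_card)
    have w := hk₂ g (v ▸ hodd.of_dvd_nat s)
    rw [← pow_eq_pow_iff_modEq.2 (e.of_dvd (orderOf_dvd_natCard g)), pow_succ,
      orderOf_dvd_iff_pow_eq_one.1 (v ▸ t), one_mul, eq_inv_iff_mul_eq_one, ← sq, ← orderOf_dvd_iff_pow_eq_one, v,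
      Nat.prime_dvd_prime_iff_eq r Nat.prime_two] at w
    exact hodd.not_two_dvd_nat (w ▸ s)

omit hp hM in
theorem sg_iterate (hk : k.Coprime (Nat.card G)) (n : ℕ) (χ : IrrCharacter G) (g : G) :
    ((sg hk)^[n] χ : G → ℂ) g = (χ : G → ℂ) (g ^ k ^ n) := by
  induction n generalizing χ with
  | zero => simp
  | succ n ih => rw [Function.iterate_succ_apply, ih, sg_apply, ← pow_mul, pow_succ]

omit hM in
theorem exists_sg_over [Fintype N] (h : ¬ p ∣ N.index) (hk : k.Coprime (Nat.card G)) {e : ℕ}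
    (he : k ^ p ^ e ≡ 1 [MOD Nat.card G]) {θ : N → ℂ} (hθ : IsIrrCharacter N θ) (h1 : ∀ n, θ (n ^ k) = θ n) :
    ∃ χ : IrrCharacter G, (∀ g, (χ : G → ℂ) (g ^ k) = (χ : G → ℂ) g) ∧
      classInner (fun n : N => (χ : G → ℂ) n) θ ≠ 0 := by
  have := Fintype.ofFinite G
  obtain ⟨c, a, b⟩ := (hθ.isCharacter.ind (G := G)).exists_nat_coeffs
  obtain ⟨χ, -, d, f⟩ := exists_fixed_of_not_dvd (p := p) univ (sg hk) (fun _ _ => mem_univ _) (fun χ => c χ ^ 2)
    (fun χ _ => by
      have := a (sg hk χ)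
      rw [classInner_indFun_left _ (sg hk χ).2.isClassFunction, ← funext h1, show (fun n : N => (sg hk χ : G → ℂ) n) =
        fun n : N => (χ : G → ℂ) (n ^ k : N) from rfl, classInner_pow (hk.coprime_dvd_right (card_subgroup_dvd_card N))
        θ fun n : N => (χ : G → ℂ) n, ← classInner_indFun_left _ χ.2.isClassFunction, a] at this
      exact congrArg (· ^ 2) (Nat.cast_injective this.symm))
    (e := e) (fun χ _ => Subtype.ext (funext fun g => by
      rw [sg_iterate, pow_eq_pow_iff_modEq.2 (he.of_dvd (orderOf_dvd_natCard g)), pow_one])) fun d => h (by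
      have := hθ.isCharacter.ind.isGen.inner_self_eq_sum_sq (fun χ => c χ) a
      rw [classInner_indFun_self hθ] at this
      exact d.trans ((dvd_of_eq (by exact_mod_cast this.symm)).trans (relIndex_dvd_index_of_normal N (inertia θ))))
  refine ⟨χ, congrFun (congrArg Subtype.val d), fun i => f ?_⟩
  rw [← conj_classInner, ← classInner_indFun_left _ χ.2.isClassFunction, a] at i
  simp_all

end Cfsg.Agent.C3
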